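import Cfsg.Agent.Lib.H06.CharGallagher2
import Cfsg.Agent.Lib.H22.Degree

/-!
# Determinants of representations and canonical extensions of characters (coprime case)
-/

set_option autoImplicit false

namespace Cfsg.Agent.H06

open Cfsg Cfsg.Agent.H21 Module
open scoped ComplexConjugate

universe u v w

section PowerSums

theorem count_power_sum {α : Type*} [Fintype α] {n : ℕ} (hn : n ≠ 0) (a : α → ℂ)
    (ha : ∀ i, a i ^ n = 1) (ζ : ℂ) (hζ : ζ ^ n = 1) :
    ∑ k ∈ Finset.range n, (ζ⁻¹) ^ k * ∑ i, a i ^ k =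
      (n : ℂ) * ((Finset.univ.filter fun i => a i = ζ).card : ℂ) := by
  classical
  have hζ0 : ζ ≠ 0 := by
    rintro rfl
    rw [zero_pow hn] at hζ
    exact zero_ne_one hζ
  simp only [Finset.mul_sum]
  rw [Finset.sum_comm]
  have h1 : ∀ i, ∑ k ∈ Finset.range n, (ζ⁻¹) ^ k * a i ^ k = if a i = ζ then (n : ℂ) else 0 := by
    intro i
    have h2 : ∀ k ∈ Finset.range n, (ζ⁻¹) ^ k * a i ^ k = (ζ⁻¹ * a i) ^ k := fun k _ => by
      rw [mul_pow]
    rw [Finset.sum_congr rfl h2]
    split_ifs with hi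
    · rw [hi, inv_mul_cancel₀ hζ0]
      simp
    · have hne : ζ⁻¹ * a i ≠ 1 := by
        intro h3
        apply hi
        field_simp at h3
        exact h3
      rw [geom_sum_eq hne, mul_pow, inv_pow, hζ, ha i]
      simp
  simp only [h1]
  rw [Finset.sum_ite]
  simp [mul_comm]

theorem prod_eq_prod_count {α : Type*} [Fintype α] {n : ℕ} (hn : n ≠ 0) (a : α → ℂ)
    (ha : ∀ i, a i ^ n = 1) :
    ∏ i, a i = ∏ ζ ∈ Polynomial.nthRootsFinset n (1 : ℂ),
      ζ ^ (Finset.univ.filter fun i => a i = ζ).card := by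
  classical
  have hmem : ∀ ζ, ζ ∈ Polynomial.nthRootsFinset n (1 : ℂ) ↔ ζ ^ n = 1 := fun ζ =>
    Polynomial.mem_nthRootsFinset (Nat.pos_of_ne_zero hn) 1
  rw [← Finset.prod_fiberwise_of_maps_to (s := Finset.univ)
    (t := Polynomial.nthRootsFinset n (1 : ℂ)) (g := a)
    (fun i _ => (hmem _).mpr (ha i)) a]
  refine Finset.prod_congr rfl fun ζ _ => ?_
  have : ∀ i ∈ Finset.univ.filter (fun i => a i = ζ), a i = ζ :=
    fun i hi => (Finset.mem_filter.mp hi).2
  rw [Finset.prod_congr rfl this, Finset.prod_const]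

/-- A multiset of `n`-th roots of unity is determined by its power sums; hence so is its product. -/
theorem prod_eq_of_power_sums {ι κ : Type*} [Fintype ι] [Fintype κ] (μ : ι → ℂ) (ν : κ → ℂ) {n : ℕ}
    (hn : n ≠ 0) (hμ : ∀ i, μ i ^ n = 1) (hν : ∀ j, ν j ^ n = 1)
    (h : ∀ k ∈ Finset.range n, ∑ i, μ i ^ k = ∑ j, ν j ^ k) : ∏ i, μ i = ∏ j, ν j := by
  classical
  have hnC : (n : ℂ) ≠ 0 := Nat.cast_ne_zero.mpr hn
  have hcnt : ∀ ζ : ℂ, ζ ^ n = 1 →
      (Finset.univ.filter fun i => μ i = ζ).card = (Finset.univ.filter fun j => ν j = ζ).card := by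
    intro ζ hζ
    have h1 := count_power_sum hn μ hμ ζ hζ
    have h2 := count_power_sum hn ν hν ζ hζ
    have h3 : ∑ k ∈ Finset.range n, (ζ⁻¹) ^ k * ∑ i, μ i ^ k =
        ∑ k ∈ Finset.range n, (ζ⁻¹) ^ k * ∑ j, ν j ^ k := by
      refine Finset.sum_congr rfl fun k hk => ?_
      rw [h k hk]
    rw [h3, h2] at h1
    have h4 := mul_left_cancel₀ hnC h1
    exact_mod_cast h4.symm
  rw [prod_eq_prod_count hn μ hμ, prod_eq_prod_count hn ν hν]
  refine Finset.prod_congr rfl fun ζ hζ => ?_
  rw [hcnt ζ ((Polynomial.mem_nthRootsFinset (Nat.pos_of_ne_zero hn) 1).mp hζ)]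

end PowerSums

section Det

variable {G : Type u} [Group G] [Finite G]
variable {V : Type v} [AddCommGroup V] [Module ℂ V] [FiniteDimensional ℂ V]
variable {W : Type w} [AddCommGroup W] [Module ℂ W] [FiniteDimensional ℂ W]

theorem end_pow_apply_of_eigen (f : End ℂ V) {b : V} {μ : ℂ} (h : f b = μ • b) (k : ℕ) :
    (f ^ k) b = μ ^ k • b := by
  induction k with
  | zero => simp
  | succ k ih => rw [pow_succ, Module.End.mul_apply, h, map_smul, ih, smul_smul, pow_succ, mul_comm]

theorem det_of_eigenbasis {ι : Type} [Fintype ι] (f : End ℂ V) (b : Basis ι ℂ V) (μ : ι → ℂ)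
    (h : ∀ i, f (b i) = μ i • b i) : LinearMap.det f = ∏ i, μ i := by
  classical
  rw [← LinearMap.det_toMatrix b f]
  have : LinearMap.toMatrix b b f = Matrix.diagonal μ := by
    ext i j
    rw [LinearMap.toMatrix_apply, h j, map_smul, b.repr_self, Matrix.diagonal_apply]
    by_cases hij : i = j
    · subst hij
      simp
    · simp [hij, Finsupp.single_apply, Ne.symm hij]
  rw [this, Matrix.det_diagonal]

/-- Representations with the same character have the same determinant. -/
theorem det_eq_of_character_eq (ρ : Representation ℂ G V) (σ : Representation ℂ G W)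
    (h : ρ.character = σ.character) (g : G) :
    LinearMap.det (ρ g) = LinearMap.det (σ g) := by
  obtain ⟨ι, _, b, μ, h1, h2, -, -⟩ := exists_eigenbasis ρ g
  obtain ⟨κ, _, c, ν, h3, h4, -, -⟩ := exists_eigenbasis σ g
  rw [det_of_eigenbasis _ b μ h1, det_of_eigenbasis _ c ν h3]
  refine prod_eq_of_power_sums μ ν (orderOf_pos g).ne' h2 h4 ?_
  intro k _
  have hρ : ∀ i, ρ (g ^ k) (b i) = μ i ^ k • b i := by
    intro i
    rw [map_pow]
    exact end_pow_apply_of_eigen _ (h1 i) k
  have hσ : ∀ i, σ (g ^ k) (c i) = ν i ^ k • c i := by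
    intro i
    rw [map_pow]
    exact end_pow_apply_of_eigen _ (h3 i) k
  have h5 := congrFun h (g ^ k)
  simp only [Representation.character] at h5
  rw [trace_of_eigenbasis _ b _ hρ, trace_of_eigenbasis _ c _ hσ] at h5
  exact h5

/-- Scalar twist of a representation. -/
noncomputable def scalarTwist (ρ : Representation ℂ G V) (f : G →* ℂ) : Representation ℂ G V where
  toFun g := f g • ρ g
  map_one' := by simp
  map_mul' a b := by
    rw [map_mul, map_mul, smul_mul_smul_comm]

theorem scalarTwist_apply (ρ : Representation ℂ G V) (f : G →* ℂ) (g : G) :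
    scalarTwist ρ f g = f g • ρ g := rfl

theorem scalarTwist_character (ρ : Representation ℂ G V) (f : G →* ℂ) (g : G) :
    (scalarTwist ρ f).character g = f g * ρ.character g := by
  simp [Representation.character, scalarTwist_apply]

theorem scalarTwist_det (ρ : Representation ℂ G V) (f : G →* ℂ) (g : G) :
    LinearMap.det (scalarTwist ρ f g) = f g ^ finrank ℂ V * LinearMap.det (ρ g) := by
  rw [scalarTwist_apply, LinearMap.det_smul]

end Det

section DetPow

/-- The character `χ` is afforded by a representation all of whose determinants are `m`-th roots of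
unity. -/
def DetPow {K : Type u} [Group K] (χ : K → ℂ) (m : ℕ) : Prop :=
  ∃ (n : ℕ) (ρ : Representation ℂ K (Fin n → ℂ)), ρ.character = χ ∧
    ∀ k, (LinearMap.det (ρ k)) ^ m = 1

theorem DetPow.of_eq {K : Type u} [Group K] [Finite K] {χ : K → ℂ} {m : ℕ} (h : DetPow χ m)
    {V : Type v} [AddCommGroup V] [Module ℂ V] [FiniteDimensional ℂ V]
    (σ : Representation ℂ K V) (hσ : σ.character = χ) (k : K) :
    (LinearMap.det (σ k)) ^ m = 1 := by
  obtain ⟨n, ρ, hρ, hdet⟩ := h
  rw [det_eq_of_character_eq σ ρ (hσ.trans hρ.symm) k]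
  exact hdet k

theorem detPow_card {K : Type u} [Group K] [Finite K] {χ : K → ℂ} (h : IsCharacter K χ) :
    DetPow χ (Nat.card K) := by
  obtain ⟨n, ρ, rfl⟩ := h
  refine ⟨n, ρ, rfl, fun k => ?_⟩
  rw [← map_pow, ← map_pow, pow_card_eq_one', map_one, map_one]

end DetPow

section Extension

variable {T : Type u} [Group T] [Fintype T] (H : Subgroup T) [hN : H.Normal] (θ : H → ℂ)

/-- Canonical extensions. -/
def CanExt (M : Subgroup T) (ψ : M → ℂ) : Prop :=
  IsIrrCharacter M ψ ∧ (∀ (h : T) (hH : h ∈ H) (hM : h ∈ M), ψ ⟨h, hM⟩ = θ ⟨h, hH⟩) ∧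
    DetPow ψ (Nat.card H)

variable {H θ}

theorem normal_of_ge (hab : ∀ x y : T, x * y * x⁻¹ * y⁻¹ ∈ H) {M : Subgroup T} (hHM : H ≤ M) :
    M.Normal := by
  refine ⟨fun m hm t => ?_⟩
  have h1 := hHM (hab t m)
  have h2 := M.mul_mem h1 hm
  simpa using h2

/-- Uniqueness of canonical extensions. -/
theorem canExt_unique (hθ : IsIrrCharacter H θ) (hinv : ∀ t : T, twist H θ t = θ)
    (hab : ∀ x y : T, x * y * x⁻¹ * y⁻¹ ∈ H) (hcop : (Nat.card H).Coprime H.index)
    {M : Subgroup T} (hHM : H ≤ M) {ψ ψ' : M → ℂ} (h : CanExt H θ M ψ) (h' : CanExt H θ M ψ') :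
    ψ = ψ' := by
  classical
  obtain ⟨hirr, hext, hdet⟩ := h
  obtain ⟨hirr', hext', hdet'⟩ := h'
  haveI : Fintype (H.subgroupOf M) := Fintype.ofFinite _
  haveI : Fintype (↥M ⧸ H.subgroupOf M) := Fintype.ofFinite _
  haveI : Fintype (IrrCharacter (↥M ⧸ H.subgroupOf M)) := Fintype.ofFinite _
  haveI : Fintype (IrrCharacter M) := Fintype.ofFinite _
  have hinv0 : ∀ t : M, twist (H.subgroupOf M) (subTheta H M θ) t = subTheta H M θ := by
    intro t
    funext x
    have := congrFun (hinv t) ⟨(x : M), Subgroup.mem_subgroupOf.mp x.2⟩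
    exact this
  have hab0 : ∀ x y : M, x * y * x⁻¹ * y⁻¹ ∈ H.subgroupOf M := by
    intro x y
    rw [Subgroup.mem_subgroupOf]
    simpa using hab x y
  have hres : ∀ x : H.subgroupOf M, ψ x = ((1 : ℕ) : ℂ) * subTheta H M θ x := by
    intro x
    rw [Nat.cast_one, one_mul]
    exact hext (x : M) (Subgroup.mem_subgroupOf.mp x.2) (x : M).2
  have hres' : (fun x : H.subgroupOf M => ψ' x) = subTheta H M θ := by
    funext x
    exact hext' (x : M) (Subgroup.mem_subgroupOf.mp x.2) (x : M).2
  have hsum := sum_linear_mul_eq (H.subgroupOf M) (θ := subTheta H M θ) (ψ := ψ) (e := 1)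
    hinv0 hab0 hres
  have hθ0 := subTheta_irr H M hHM hθ
  have hne : classInner (indFun (H.subgroupOf M) (subTheta H M θ)) ψ' ≠ 0 := by
    rw [frobenius_reciprocity (H.subgroupOf M) _ _ (isClassFunction_of_isCharacter
      (isCharacter_of_irr hirr')), hres', classInner_irr_self hθ0]
    exact one_ne_zero
  -- `ψ'` is a linear twist of `ψ`
  have hQ : ∀ a b : ↥M ⧸ H.subgroupOf M, a * b = b * a := by
    intro a b
    obtain ⟨x, rfl⟩ := QuotientGroup.mk_surjective a
    obtain ⟨y, rfl⟩ := QuotientGroup.mk_surjective b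
    have h1 : ((x * y : M) : ↥M ⧸ H.subgroupOf M) = ((y * x : M) : ↥M ⧸ H.subgroupOf M) := by
      apply QuotientGroup.eq.mpr
      have h2 := hab0 y⁻¹ x⁻¹
      have h3 : (x * y)⁻¹ * (y * x) = y⁻¹ * x⁻¹ * y⁻¹⁻¹ * x⁻¹⁻¹ := by group
      rw [h3]
      exact h2
    exact h1
  obtain ⟨l, hl⟩ : ∃ l : IrrCharacter (↥M ⧸ H.subgroupOf M),
      (fun t : M => (l : ↥M ⧸ H.subgroupOf M → ℂ) (t : ↥M ⧸ H.subgroupOf M) * ψ t) = ψ' := by
    by_contra hcon
    push Not at hcon
    apply hne
    have hl1 : ∀ l : IrrCharacter (↥M ⧸ H.subgroupOf M),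
        IsIrrCharacter M (fun t : M => (l : ↥M ⧸ H.subgroupOf M → ℂ) (t : ↥M ⧸ H.subgroupOf M) * ψ t) := by
      intro l
      apply isIrr_linear_mul hirr (isCharacter_comp (QuotientGroup.mk' _) (isCharacter_of_irr l.2))
      have h1 := irr_degree_one_of_comm hQ l.2
      simpa [charDegree] using h1
    have h1 : classInner (∑ l : IrrCharacter (↥M ⧸ H.subgroupOf M), (fun t : M =>
        (l : ↥M ⧸ H.subgroupOf M → ℂ) (t : ↥M ⧸ H.subgroupOf M) * ψ t)) ψ' = 0 := by
      rw [classInner_sum_left]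
      exact Finset.sum_eq_zero fun l _ => classInner_irr_ne (hl1 l) hirr' (hcon l)
    rw [hsum, classInner_smul_left] at h1
    simpa using h1
  -- `l` as a homomorphism
  have hldeg := irr_degree_one_of_comm hQ l.2
  let f : M →* ℂ :=
    { toFun := fun t => (l : ↥M ⧸ H.subgroupOf M → ℂ) (t : ↥M ⧸ H.subgroupOf M)
      map_one' := linear_one (isCharacter_of_irr l.2) hldeg
      map_mul' := fun a b => by
        rw [QuotientGroup.mk_mul]
        exact linear_mul (isCharacter_of_irr l.2) hldeg _ _ }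
  have hfval : ∀ t : M, f t = (l : ↥M ⧸ H.subgroupOf M → ℂ) (t : ↥M ⧸ H.subgroupOf M) := fun _ => rfl
  -- determinants
  obtain ⟨n, ρ, hρ, hρdet⟩ := hdet
  have htw : (scalarTwist ρ f).character = ψ' := by
    funext t
    rw [scalarTwist_character, hρ, ← hl]
    rfl
  have hdet2 := DetPow.of_eq hdet' (scalarTwist ρ f) htw
  have hfinrank : finrank ℂ (Fin n → ℂ) = n := by simp
  -- degree
  have hdeg1 : (n : ℂ) = θ 1 := by
    have h1 := congrFun hρ 1
    simp only [Representation.character, map_one, LinearMap.trace_one, hfinrank] at h1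
    rw [h1]
    exact hext 1 H.one_mem M.one_mem
  have hdvd : n ∣ Nat.card H := by
    haveI : Fintype H := Fintype.ofFinite _
    haveI : Fintype (IrrCharacter H) := Fintype.ofFinite _
    have h1 := Cfsg.Agent.H22.charDegree_dvd_card (⟨θ, hθ⟩ : IrrCharacter H)
    have h2 : charDegree θ = n := by
      have h3 := one_eq_charDegree (isCharacter_of_irr hθ)
      rw [← hdeg1] at h3
      exact_mod_cast h3.symm
    simpa [h2] using h1
  have hone : ∀ t : M, f t = 1 := by
    intro t
    have h1 : f t ^ (n * Nat.card H) = 1 := by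
      have h2 := hdet2 t
      rw [scalarTwist_det, hfinrank, mul_pow, hρdet t, mul_one, ← pow_mul] at h2
      exact h2
    have h2 : f t ^ (H.subgroupOf M).index = 1 := by
      rw [← map_pow, hfval, QuotientGroup.mk_pow, Subgroup.index_eq_card, pow_card_eq_one']
      exact linear_one (isCharacter_of_irr l.2) hldeg
    have hc : (n * Nat.card H).Coprime (H.subgroupOf M).index := by
      have h3 : (H.subgroupOf M).index ∣ H.index := by
        have h4 := Subgroup.relIndex_mul_index hHM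
        exact ⟨M.index, h4.symm⟩
      have h5 : (Nat.card H).Coprime (H.subgroupOf M).index := Nat.Coprime.coprime_dvd_right h3 hcop
      exact Nat.Coprime.mul_left (Nat.Coprime.coprime_dvd_left hdvd h5) h5
    have h3 := (pow_gcd_eq_one (a := f t) (m := n * Nat.card H) (n := (H.subgroupOf M).index)).mpr
      ⟨h1, h2⟩
    rw [hc, pow_one] at h3
    exact h3
  rw [← hl]
  funext t
  have := hone t
  rw [hfval] at this
  simp only [this, one_mul]

/-- Conjugates of a canonical extension are canonical. -/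
theorem canExt_twist (hinv : ∀ t : T, twist H θ t = θ) {M : Subgroup T} [hM : M.Normal] {ψ : M → ℂ}
    (h : CanExt H θ M ψ) (t : T) : CanExt H θ M (twist M ψ t) := by
  obtain ⟨hirr, hext, hdet⟩ := h
  refine ⟨isIrrCharacter_twist M hirr t, ?_, ?_⟩
  · intro k hk hkM
    have h1 := hext (t * k * t⁻¹) (hN.conj_mem k hk t) (hM.conj_mem k hkM t)
    have h2 := congrFun (hinv t) ⟨k, hk⟩
    simp only [twist] at h2 ⊢
    rw [h1, h2]
  · obtain ⟨n, ρ, hρ, hρdet⟩ := hdet
    refine ⟨n, ρ.comp ((MulAut.conjNormal t : MulAut M).toMonoidHom), ?_, fun k => hρdet _⟩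
    funext k
    exact congrFun hρ ((MulAut.conjNormal t : MulAut M) k)

/-- The inductive step for canonical extensions. -/
theorem canExt_step (hθ : IsIrrCharacter H θ) (hinv : ∀ t : T, twist H θ t = θ)
    (hab : ∀ x y : T, x * y * x⁻¹ * y⁻¹ ∈ H) (hcop : (Nat.card H).Coprime H.index)
    {M M' : Subgroup T} (hHM : H ≤ M) (hMM' : M ≤ M') {p : ℕ} (hp : p.Prime)
    (hidx : (M.subgroupOf M').index = p) (hpH : p.Coprime (Nat.card H)) {ψ₁ : M → ℂ}
    (h : CanExt H θ M ψ₁) : ∃ ψ : M' → ℂ, CanExt H θ M' ψ := by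
  classical
  haveI hMn : M.Normal := normal_of_ge hab hHM
  haveI : Fintype (M.subgroupOf M') := Fintype.ofFinite _
  have hinv1 : ∀ t : T, twist M ψ₁ t = ψ₁ := fun t =>
    canExt_unique hθ hinv hab hcop hHM (canExt_twist hinv h t) h
  obtain ⟨hirr₁, hext₁, hdet₁⟩ := h
  have hinv0 : ∀ t : M', twist (M.subgroupOf M') (subTheta M M' ψ₁) t = subTheta M M' ψ₁ := by
    intro t
    funext x
    have := congrFun (hinv1 t) ⟨(x : M'), Subgroup.mem_subgroupOf.mp x.2⟩
    exact this
  have hab0 : ∀ x y : M', x * y * x⁻¹ * y⁻¹ ∈ M.subgroupOf M' := by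
    intro x y
    rw [Subgroup.mem_subgroupOf]
    have := hHM (hab x y)
    simpa using this
  obtain ⟨e, C, he, hCirr, hCres, -, -, -, hcard⟩ := invariant_abelian_structure (M.subgroupOf M')
    (subTheta_irr M M' hMM' hirr₁) hinv0 hab0
  have hpe : e ^ 2 * C.card = p := by
    have h1 := Subgroup.card_mul_index (M.subgroupOf M')
    rw [hidx] at h1
    rw [← h1, mul_comm (Nat.card _) p] at hcard
    exact Nat.eq_of_mul_eq_mul_right Nat.card_pos hcard
  have he1 : e = 1 := by
    have h1 : e ∣ p := ⟨e * C.card, by rw [← hpe]; ring⟩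
    rcases (Nat.dvd_prime hp).mp h1 with h2 | h2
    · exact h2
    · exfalso
      rw [h2] at hpe
      have h3 : p * (p * C.card) = p * 1 := by
        calc p * (p * C.card) = p ^ 2 * C.card := by ring
          _ = p := hpe
          _ = p * 1 := by ring
      have h4 := Nat.eq_of_mul_eq_mul_left hp.pos h3
      have h5 : p ∣ 1 := ⟨C.card, h4.symm⟩
      exact hp.one_lt.ne' (Nat.dvd_one.mp h5)
  subst he1
  obtain ⟨ψ, hψC⟩ : C.Nonempty := by
    rw [← Finset.card_pos]
    have : C.card = p := by simpa using hpe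
    rw [this]
    exact hp.pos
  have hψ := hCirr ψ hψC
  have hres : ∀ x : M.subgroupOf M', ψ x = subTheta M M' ψ₁ x := by
    intro x
    have := hCres ψ hψC x
    simpa using this
  -- a representation
  obtain ⟨n, σ, hσirr, hσ⟩ := hψ
  set m := Nat.card H with hm
  let δ : M' →* ℂ := (LinearMap.det : ((Fin n → ℂ) →ₗ[ℂ] (Fin n → ℂ)) →* ℂ).comp σ
  have hδ : ∀ k, δ k = LinearMap.det (σ k) := fun _ => rfl
  let ν : M' →* ℂ := (powMonoidHom m : ℂ →* ℂ).comp δ
  have hν : ∀ k, ν k = δ k ^ m := fun _ => rfl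
  -- `ν` is trivial on `M`
  have hνM : ∀ k : M', (k : T) ∈ M → ν k = 1 := by
    intro k hk
    let j : M →* M' := Subgroup.inclusion hMM'
    let σj : Representation ℂ M (Fin n → ℂ) := σ.comp j
    have hch : σj.character = ψ₁ := by
      funext x
      have h1 := hres ⟨j x, Subgroup.mem_subgroupOf.mpr x.2⟩
      have h2 := congrFun hσ (j x)
      refine h2.trans (h1.trans ?_)
      rfl
    have h3 := DetPow.of_eq hdet₁ σj hch ⟨k, hk⟩
    exact h3
  have hνp : ∀ k : M', ν k ^ p = 1 := by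
    intro k
    rw [← map_pow]
    apply hνM
    have := Subgroup.pow_index_mem (M.subgroupOf M') k
    rw [hidx, Subgroup.mem_subgroupOf] at this
    simpa using this
  -- degree divides `m`
  have hfinrank : finrank ℂ (Fin n → ℂ) = n := by simp
  have hdeg1 : (n : ℂ) = θ 1 := by
    have h1 := congrFun hσ 1
    simp only [Representation.character, map_one, LinearMap.trace_one, hfinrank] at h1
    rw [h1]
    have h2 := hres 1
    have h3 : ψ₁ 1 = θ 1 := hext₁ 1 H.one_mem M.one_mem
    exact h2.trans h3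
  have hdvd : n ∣ m := by
    haveI : Fintype H := Fintype.ofFinite _
    haveI : Fintype (IrrCharacter H) := Fintype.ofFinite _
    have h1 : charDegree θ ∣ Nat.card H := Cfsg.Agent.H22.charDegree_dvd_card (⟨θ, hθ⟩ : IrrCharacter H)
    have h2 : charDegree θ = n := by
      have h3 := one_eq_charDegree (isCharacter_of_irr hθ)
      rw [← hdeg1] at h3
      exact_mod_cast h3.symm
    rw [h2] at h1
    exact h1
  -- the exponent
  have hcopp : (n * m).Coprime p :=
    Nat.Coprime.mul_left (Nat.Coprime.coprime_dvd_left hdvd hpH.symm) hpH.symm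
  obtain ⟨r, hr⟩ : ∃ r : ℕ, p ∣ n * m * r + 1 := by
    obtain ⟨r, -, hr⟩ := Nat.exists_mul_mod_eq_one_of_coprime hcopp hp.one_lt
    refine ⟨r * (p - 1), ?_⟩
    have h1 : n * m * (r * (p - 1)) + 1 = (n * m * r) * (p - 1) + 1 := by ring
    rw [h1]
    have h2 : (n * m * r) * (p - 1) + 1 ≡ 1 * (p - 1) + 1 [MOD p] := by
      apply Nat.ModEq.add_right
      apply Nat.ModEq.mul_right
      rw [Nat.ModEq, hr, Nat.mod_eq_of_lt hp.one_lt]
    have h3 : 1 * (p - 1) + 1 = p := by
      have := hp.pos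
      omega
    rw [h3] at h2
    exact (Nat.modEq_zero_iff_dvd.mp (h2.trans (by simp [Nat.ModEq])))
  -- the twist
  let f : M' →* ℂ := (powMonoidHom r : ℂ →* ℂ).comp ν
  have hf : ∀ k, f k = ν k ^ r := fun _ => rfl
  have hfp : ∀ k, f k ^ p = 1 := fun k => by
    rw [hf, ← pow_mul, mul_comm, pow_mul, hνp, one_pow]
  have hfnorm : ∀ k, f k * conj (f k) = 1 := by
    intro k
    have h1 := Complex.norm_eq_one_of_pow_eq_one (hfp k) hp.ne_zero
    rw [Complex.mul_conj, Complex.normSq_eq_norm_sq, h1]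
    simp
  have hfM : ∀ k : M', (k : T) ∈ M → f k = 1 := fun k hk => by
    rw [hf, hνM k hk, one_pow]
  refine ⟨(scalarTwist σ f).character, ?_, ?_, ?_⟩
  · -- irreducible
    haveI : Fintype (IrrCharacter M') := Fintype.ofFinite _
    haveI : Fintype M' := Fintype.ofFinite _
    apply isIrrCharacter_of_inner_self_eq_one (isCharacter_of_rep _)
    have h1 := classInner_irr_self (isIrrCharacter_of_rep σ hσirr)
    rw [← h1]
    simp only [classInner]
    congr 1
    refine Finset.sum_congr rfl fun k _ => ?_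
    rw [scalarTwist_character, map_mul]
    calc f k * σ.character k * (conj (f k) * conj (σ.character k)) =
        (f k * conj (f k)) * (σ.character k * conj (σ.character k)) := by ring
      _ = _ := by rw [hfnorm, one_mul]
  · intro k hk hk'
    rw [scalarTwist_character, hfM ⟨k, hk'⟩ (hHM hk), one_mul, hσ]
    have h1 := hres ⟨⟨k, hk'⟩, Subgroup.mem_subgroupOf.mpr (hHM hk)⟩
    have h2 : ψ₁ ⟨k, hHM hk⟩ = θ ⟨k, hk⟩ := hext₁ k hk (hHM hk)
    exact h1.trans h2
  · refine ⟨n, scalarTwist σ f, rfl, fun k => ?_⟩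
    rw [scalarTwist_det, hfinrank, mul_pow, ← pow_mul]
    have h1 : f k ^ (n * m) * LinearMap.det (σ k) ^ m = ν k ^ (n * m * r + 1) := by
      rw [hf, ← pow_mul, pow_succ, mul_comm r]
      rfl
    rw [h1]
    obtain ⟨c, hc⟩ := hr
    rw [hc, pow_mul, hνp, one_pow]

/-- Enlarging a proper subgroup containing the derived group by an index-`p` step. -/
theorem exists_prime_step (hab : ∀ x y : T, x * y * x⁻¹ * y⁻¹ ∈ H) {M : Subgroup T} (hHM : H ≤ M)
    (hM : M ≠ ⊤) : ∃ (M' : Subgroup T) (p : ℕ), M ≤ M' ∧ M ≠ M' ∧ p.Prime ∧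
      (M.subgroupOf M').index = p ∧ p ∣ M.index := by
  classical
  haveI hMn : M.Normal := normal_of_ge hab hHM
  obtain ⟨t, ht⟩ : ∃ t, t ∉ M := by
    by_contra hcon
    push Not at hcon
    exact hM (eq_top_iff.mpr fun x _ => hcon x)
  set q : T ⧸ M := (t : T ⧸ M) with hq
  have hq1 : q ≠ 1 := fun h => ht ((QuotientGroup.eq_one_iff t).mp h)
  have ho1 : orderOf q ≠ 1 := fun h => hq1 (orderOf_eq_one_iff.mp h)
  obtain ⟨p, hp, hpo⟩ := Nat.exists_prime_and_dvd ho1
  set y := t ^ (orderOf q / p) with hy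
  have hqy : orderOf ((y : T) : T ⧸ M) = p := by
    rw [hy, QuotientGroup.mk_pow]
    exact orderOf_pow_orderOf_div (orderOf_pos q).ne' hpo
  set M' := M ⊔ Subgroup.zpowers y with hM'
  have hle : M ≤ M' := le_sup_left
  have hmap : M'.map (QuotientGroup.mk' M) = Subgroup.zpowers ((y : T) : T ⧸ M) := by
    rw [hM', Subgroup.map_sup, MonoidHom.map_zpowers]
    have : M.map (QuotientGroup.mk' M) = ⊥ := by
      ext x
      simp only [Subgroup.mem_map, Subgroup.mem_bot]
      constructor
      · rintro ⟨m, hm, rfl⟩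
        exact (QuotientGroup.eq_one_iff m).mpr hm
      · rintro rfl
        exact ⟨1, M.one_mem, by simp⟩
    rw [this, bot_sup_eq]
    rfl
  have hcardmap : Nat.card (M'.map (QuotientGroup.mk' M)) = p := by
    rw [hmap, Nat.card_zpowers, hqy]
  have h1 := Cfsg.Agent.H01.card_map_mk_of_le M M' hle
  rw [hcardmap] at h1
  have h2 := Subgroup.card_mul_index (M.subgroupOf M')
  have h3 : Nat.card (M.subgroupOf M') = Nat.card M :=
    Nat.card_congr (Subgroup.subgroupOfEquivOfLe hle).toEquiv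
  rw [h3, ← h1, mul_comm] at h2
  have hidx : (M.subgroupOf M').index = p := Nat.eq_of_mul_eq_mul_right Nat.card_pos h2
  refine ⟨M', p, hle, ?_, hp, hidx, ?_⟩
  · intro h
    rw [← h] at hidx
    simp only [Subgroup.subgroupOf_self, Subgroup.index_top] at hidx
    exact hp.one_lt.ne hidx
  · rw [Subgroup.index_eq_card]
    have h4 : orderOf q ∣ Nat.card (T ⧸ M) := orderOf_dvd_natCard q
    exact hpo.trans h4

/-- **Extension in the coprime case**: an invariant irreducible character extends, if the quotient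
is abelian of coprime order. -/
theorem exists_extension (hθ : IsIrrCharacter H θ) (hinv : ∀ t : T, twist H θ t = θ)
    (hab : ∀ x y : T, x * y * x⁻¹ * y⁻¹ ∈ H) (hcop : (Nat.card H).Coprime H.index) :
    ∃ ψ : T → ℂ, IsIrrCharacter T ψ ∧ ∀ h : H, ψ h = θ h := by
  classical
  have key : ∀ n : ℕ, ∀ M : Subgroup T, H ≤ M → Nat.card T - Nat.card M = n →
      (∃ ψ : M → ℂ, CanExt H θ M ψ) → ∃ ψ : (⊤ : Subgroup T) → ℂ, CanExt H θ ⊤ ψ := by
    intro n
    induction n using Nat.strong_induction_on with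
    | _ n ih =>
      intro M hHM hn hψ
      by_cases hM : M = ⊤
      · subst hM
        exact hψ
      obtain ⟨M', p, hle, hne, hp, hidx, hdvd⟩ := exists_prime_step hab hHM hM
      obtain ⟨ψ₁, hψ₁⟩ := hψ
      have hpH : p.Coprime (Nat.card H) := by
        have h1 : M.index ∣ H.index := Subgroup.index_dvd_of_le hHM
        exact (Nat.Coprime.coprime_dvd_right (hdvd.trans h1) hcop).symm
      have hψ' := canExt_step hθ hinv hab hcop hHM hle hp hidx hpH hψ₁
      have hcard : Nat.card M < Nat.card M' := by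
        have h1 := Subgroup.card_mul_index (M.subgroupOf M')
        have h3 : Nat.card (M.subgroupOf M') = Nat.card M :=
          Nat.card_congr (Subgroup.subgroupOfEquivOfLe hle).toEquiv
        rw [h3, hidx] at h1
        rw [← h1]
        exact lt_mul_of_one_lt_right Nat.card_pos hp.one_lt
      have hcard2 : Nat.card M' ≤ Nat.card T := Subgroup.card_le_card_group M'
      exact ih (Nat.card T - Nat.card M') (by omega) M' (hHM.trans hle) rfl hψ'
  have hstart : ∃ ψ : H → ℂ, CanExt H θ H ψ := by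
    refine ⟨θ, hθ, fun h hH hM => rfl, detPow_card (isCharacter_of_irr hθ)⟩
  obtain ⟨ψ, hirr, hext, -⟩ := key _ H le_rfl rfl hstart
  refine ⟨ψ ∘ (Subgroup.topEquiv (G := T)).symm.toMonoidHom, ?_, ?_⟩
  · exact isIrrCharacter_comp_of_surjective _ (MulEquiv.surjective _) hirr
  · intro h
    exact hext h h.2 (Subgroup.mem_top _)

end Extension

end Cfsg.Agent.H06
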