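import Cfsg.Agent.Lib.H06.CharLin

/-!
# Sums over characters trivial on a subgroup, for a group with commuting elements
-/

set_option autoImplicit false

open Cfsg

namespace Cfsg.Agent.H06

open Cfsg.Agent.H21

universe u

section Ann

variable {V : Type u} [Group V] [Finite V]

/-- Characters trivial on `U` separate points outside `U` in a commutative group. -/
theorem exists_hom_trivial_ne (hV : ∀ a b : V, a * b = b * a) (U : Subgroup V) {z : V} (hz : z ∉ U) :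
    ∃ ω : V →* ℂˣ, (∀ u ∈ U, ω u = 1) ∧ ω z ≠ 1 := by
  haveI : U.Normal := by
    refine ⟨fun n hn g => ?_⟩
    rw [hV g n, mul_assoc, mul_inv_cancel, mul_one]
    exact hn
  letI : CommGroup (V ⧸ U) :=
    { (inferInstance : Group (V ⧸ U)) with
      mul_comm := by
        intro a b
        induction a using QuotientGroup.induction_on with
        | H a =>
          induction b using QuotientGroup.induction_on with
          | H b =>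
            rw [← QuotientGroup.mk_mul, ← QuotientGroup.mk_mul, hV a b] }
  have hz' : (QuotientGroup.mk z : V ⧸ U) ≠ 1 := by
    intro h
    exact hz ((QuotientGroup.eq_one_iff z).mp h)
  obtain ⟨ω₀, hω₀⟩ := CommGroup.exists_apply_ne_one_of_hasEnoughRootsOfUnity (V ⧸ U) ℂ hz'
  refine ⟨ω₀.comp (QuotientGroup.mk' U), fun u hu => ?_, hω₀⟩
  have : (QuotientGroup.mk' U) u = 1 := (QuotientGroup.eq_one_iff u).mpr hu
  rw [MonoidHom.comp_apply, this, map_one]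

theorem finite_dual' (hV : ∀ a b : V, a * b = b * a) : Finite (V →* ℂˣ) := by
  letI : CommGroup V := { (inferInstance : Group V) with mul_comm := hV }
  exact finite_dual

open Classical in
/-- Sum over the characters trivial on `U`. -/
theorem sum_ann (hV : ∀ a b : V, a * b = b * a) (U : Subgroup V) [Fintype (V →* ℂˣ)]
    (D : Finset (V →* ℂˣ)) (hD : ∀ ω, ω ∈ D ↔ ∀ u ∈ U, ω u = 1) (z : V) :
    ∑ ω ∈ D, (ω z : ℂ) = if z ∈ U then (D.card : ℂ) else 0 := by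
  split_ifs with hz
  · rw [Finset.sum_congr rfl (g := fun _ => (1 : ℂ))]
    · simp
    · intro ω hω
      rw [(hD ω).mp hω z hz]
      simp
  · obtain ⟨ω₀, h0, h1⟩ := exists_hom_trivial_ne hV U hz
    have hmem : ω₀ ∈ D := (hD _).mpr h0
    have h2 : (ω₀ z : ℂ) * ∑ ω ∈ D, (ω z : ℂ) = ∑ ω ∈ D, (ω z : ℂ) := by
      rw [Finset.mul_sum]
      refine Finset.sum_bij (fun ω _ => ω₀ * ω) ?_ ?_ ?_ ?_
      · intro ω hω
        rw [hD] at hω ⊢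
        intro u hu
        rw [MonoidHom.mul_apply, h0 u hu, hω u hu, one_mul]
      · intro a _ b _ h
        exact mul_left_cancel h
      · intro b hb
        refine ⟨ω₀⁻¹ * b, ?_, ?_⟩
        · rw [hD] at hb ⊢
          intro u hu
          rw [MonoidHom.mul_apply, hb u hu, MonoidHom.inv_apply, h0 u hu]
          simp
        · exact MonoidHom.ext fun v => by simp
      · intro ω _
        simp
    have h3 : ((ω₀ z : ℂ) - 1) * ∑ ω ∈ D, (ω z : ℂ) = 0 := by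
      rw [sub_mul, h2]
      ring
    refine (mul_eq_zero.mp h3).resolve_left ?_
    intro h4
    apply h1
    apply Units.ext
    exact sub_eq_zero.mp h4

section Delta

variable {V : Type u} [Group V] [Fintype V]

/-- If `f` is orthogonal to all `(1-φ)(1-ψ)`, then `f` vanishes off the union. -/
theorem vanish_of_orth_alpha (hV : ∀ a b : V, a * b = b * a) (U₁ U₂ : Subgroup V) (hdisj : U₁ ⊓ U₂ = ⊥)
    (f : V → ℂ)
    (horth : ∀ φ ψ : V →* ℂˣ, (∀ u ∈ U₂, φ u = 1) → (∀ u ∈ U₁, ψ u = 1) →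
      ∑ x : V, (1 - (φ x : ℂ) - (ψ x : ℂ) + (φ x : ℂ) * (ψ x : ℂ)) * f x = 0)
    (w : V) (hw₁ : w ∉ U₁) (hw₂ : w ∉ U₂) : f w = 0 := by
  classical
  haveI : Finite (V →* ℂˣ) := finite_dual' hV
  haveI : Fintype (V →* ℂˣ) := Fintype.ofFinite _
  set D₁ : Finset (V →* ℂˣ) := Finset.univ.filter (fun φ => ∀ u ∈ U₂, φ u = 1) with hD₁
  set D₂ : Finset (V →* ℂˣ) := Finset.univ.filter (fun ψ => ∀ u ∈ U₁, ψ u = 1) with hD₂
  have hmem₁ : ∀ ω, ω ∈ D₁ ↔ ∀ u ∈ U₂, ω u = 1 := by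
    intro ω
    simp [hD₁]
  have hmem₂ : ∀ ω, ω ∈ D₂ ↔ ∀ u ∈ U₁, ω u = 1 := by
    intro ω
    simp [hD₂]
  have hpos₁ : (D₁.card : ℂ) ≠ 0 := by
    rw [Nat.cast_ne_zero]
    exact Finset.card_ne_zero_of_mem ((hmem₁ 1).mpr fun _ _ => rfl)
  have hpos₂ : (D₂.card : ℂ) ≠ 0 := by
    rw [Nat.cast_ne_zero]
    exact Finset.card_ne_zero_of_mem ((hmem₂ 1).mpr fun _ _ => rfl)
  have hS₁ := sum_ann hV U₂ D₁ hmem₁
  have hS₂ := sum_ann hV U₁ D₂ hmem₂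
  have hwi₁ : w⁻¹ ∉ U₁ := fun h => hw₁ (by simpa using U₁.inv_mem h)
  have hwi₂ : w⁻¹ ∉ U₂ := fun h => hw₂ (by simpa using U₂.inv_mem h)
  have hzero : ∑ φ ∈ D₁, ∑ ψ ∈ D₂, ((φ w⁻¹ : ℂˣ) : ℂ) * ((ψ w⁻¹ : ℂˣ) : ℂ) *
      ∑ x : V, (1 - (φ x : ℂ) - (ψ x : ℂ) + (φ x : ℂ) * (ψ x : ℂ)) * f x = 0 := by
    refine Finset.sum_eq_zero fun φ hφ => Finset.sum_eq_zero fun ψ hψ => ?_
    rw [horth φ ψ ((hmem₁ φ).mp hφ) ((hmem₂ ψ).mp hψ), mul_zero]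
  have hrewrite : ∑ φ ∈ D₁, ∑ ψ ∈ D₂, ((φ w⁻¹ : ℂˣ) : ℂ) * ((ψ w⁻¹ : ℂˣ) : ℂ) *
      ∑ x : V, (1 - (φ x : ℂ) - (ψ x : ℂ) + (φ x : ℂ) * (ψ x : ℂ)) * f x =
      ∑ x : V, f x * ((∑ φ ∈ D₁, ((φ w⁻¹ : ℂˣ) : ℂ) - ∑ φ ∈ D₁, ((φ (w⁻¹ * x) : ℂˣ) : ℂ)) *
        (∑ ψ ∈ D₂, ((ψ w⁻¹ : ℂˣ) : ℂ) - ∑ ψ ∈ D₂, ((ψ (w⁻¹ * x) : ℂˣ) : ℂ))) := by
    have e1 : ∀ φ ψ : V →* ℂˣ, ((φ w⁻¹ : ℂˣ) : ℂ) * ((ψ w⁻¹ : ℂˣ) : ℂ) *
        ∑ x : V, (1 - (φ x : ℂ) - (ψ x : ℂ) + (φ x : ℂ) * (ψ x : ℂ)) * f x =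
        ∑ x : V, f x * (((φ w⁻¹ : ℂˣ) : ℂ) - ((φ (w⁻¹ * x) : ℂˣ) : ℂ)) *
          (((ψ w⁻¹ : ℂˣ) : ℂ) - ((ψ (w⁻¹ * x) : ℂˣ) : ℂ)) := by
      intro φ ψ
      rw [Finset.mul_sum]
      refine Finset.sum_congr rfl fun x _ => ?_
      rw [map_mul, map_mul, Units.val_mul, Units.val_mul]
      ring
    simp_rw [e1]
    have e2 : ∀ φ : V →* ℂˣ, ∑ ψ ∈ D₂, ∑ x : V, f x * (((φ w⁻¹ : ℂˣ) : ℂ) - ((φ (w⁻¹ * x) : ℂˣ) : ℂ)) *
          (((ψ w⁻¹ : ℂˣ) : ℂ) - ((ψ (w⁻¹ * x) : ℂˣ) : ℂ)) =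
        ∑ x : V, ∑ ψ ∈ D₂, f x * (((φ w⁻¹ : ℂˣ) : ℂ) - ((φ (w⁻¹ * x) : ℂˣ) : ℂ)) *
          (((ψ w⁻¹ : ℂˣ) : ℂ) - ((ψ (w⁻¹ * x) : ℂˣ) : ℂ)) := fun φ => Finset.sum_comm
    simp_rw [e2]
    rw [Finset.sum_comm]
    refine Finset.sum_congr rfl fun x _ => ?_
    rw [← Finset.sum_sub_distrib, ← Finset.sum_sub_distrib, Finset.sum_mul_sum, Finset.mul_sum]
    refine Finset.sum_congr rfl fun φ _ => ?_
    rw [Finset.mul_sum]
    refine Finset.sum_congr rfl fun ψ _ => ?_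
    ring
  rw [hrewrite] at hzero
  simp only [hS₁, hS₂, if_neg hwi₁, if_neg hwi₂, zero_sub, neg_mul_neg] at hzero
  rw [Finset.sum_eq_single w] at hzero
  · simp only [inv_mul_cancel, one_mem, if_true] at hzero
    have := mul_eq_zero.mp hzero
    rcases this with h | h
    · exact h
    · exact absurd h (mul_ne_zero hpos₁ hpos₂)
  · intro x _ hx
    have hne : w⁻¹ * x ≠ 1 := by
      intro h
      apply hx
      have := mul_left_cancel (a := w⁻¹) (b := x) (c := w) (by rw [h, inv_mul_cancel])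
      exact this
    by_cases h1 : w⁻¹ * x ∈ U₁
    · by_cases h2 : w⁻¹ * x ∈ U₂
      · exfalso
        have : w⁻¹ * x ∈ U₁ ⊓ U₂ := Subgroup.mem_inf.mpr ⟨h1, h2⟩
        rw [hdisj, Subgroup.mem_bot] at this
        exact hne this
      · simp [h2]
    · simp [h1]
  · intro h
    exact absurd (Finset.mem_univ _) h

end Delta

end Ann

end Cfsg.Agent.H06
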