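import Cfsg.Agent.Lib.H21.Adams
import Cfsg.Agent.Lib.H06.CharLin2
import Cfsg.Agent.Lib.H10.CharGen
import Mathlib.FieldTheory.Minpoly.IsIntegrallyClosed
import Mathlib.RingTheory.RootsOfUnity.Complex

/-!
# Brauer induction, first part: the span of induced generalized characters from elementary
subgroups, its scalar extension to `ℤ[ζ]`, and the functions attached to cosets.
-/

set_option autoImplicit false

namespace Cfsg.Agent.H06.Brauer

open Cfsg Cfsg.Agent.H21 Cfsg.Agent.H06
open scoped ComplexConjugate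

universe u

section Base

variable {G : Type u} [Group G] [Fintype G]

/-- Elementary subgroups (for some prime). -/
def IsElemSub (E : Subgroup G) : Prop := ∃ p : ℕ, p.Prime ∧ IsElementary p E

/-- The `ℤ`-span of the induced generalized characters from elementary subgroups. -/
def VZ (G : Type u) [Group G] [Fintype G] : AddSubgroup (G → ℂ) :=
  AddSubgroup.closure {f | ∃ (E : Subgroup G) (β : E → ℂ),
    IsElemSub E ∧ IsGeneralizedCharacter E β ∧ f = indFun E β}

theorem gen_restrict (E : Subgroup G) {θ : G → ℂ} (h : IsGeneralizedCharacter G θ) :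
    IsGeneralizedCharacter E (fun e => θ e) := by
  obtain ⟨a, b, ha, hb, rfl⟩ := h
  exact ⟨_, _, isCharacter_restrict E ha, isCharacter_restrict E hb, rfl⟩

theorem indFun_sub' (E : Subgroup G) (a b : E → ℂ) :
    indFun E (a - b) = indFun E a - indFun E b := by
  have h1 := indFun_add E a ((-1 : ℂ) • b)
  have h2 := indFun_smul E (-1 : ℂ) b
  rw [sub_eq_add_neg, sub_eq_add_neg]
  have h3 : -b = (-1 : ℂ) • b := by simp
  have h4 : - indFun E b = (-1 : ℂ) • indFun E b := by simp
  rw [h3, h4, h1, h2]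

theorem gen_indFun (E : Subgroup G) {β : E → ℂ} (h : IsGeneralizedCharacter E β) :
    IsGeneralizedCharacter G (indFun E β) := by
  obtain ⟨a, b, ha, hb, rfl⟩ := h
  rw [indFun_sub']
  haveI : Fintype E := Fintype.ofFinite E
  exact ⟨_, _, isCharacter_indFun E ha, isCharacter_indFun E hb, rfl⟩

/-- Projection formula. -/
theorem mul_indFun {θ : G → ℂ} (hθ : IsClassFunction G θ) (E : Subgroup G) (β : E → ℂ) :
    θ * indFun E β = indFun E (fun e => θ e * β e) := by
  funext g
  simp only [Pi.mul_apply, indFun]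
  rw [mul_left_comm, Finset.mul_sum]
  congr 1
  refine Finset.sum_congr rfl fun x _ => ?_
  by_cases hx : x⁻¹ * g * x ∈ E
  · have h1 := extendByZero_coe E (fun e => θ e * β e) ⟨_, hx⟩
    have h2 := extendByZero_coe E β ⟨_, hx⟩
    simp only at h1 h2
    rw [h1, h2]
    have := hθ g x⁻¹
    rw [inv_inv] at this
    rw [this]
  · rw [extendByZero_of_not_mem E _ hx, extendByZero_of_not_mem E _ hx, mul_zero]

theorem VZ_gen {f : G → ℂ} (hf : f ∈ VZ G) : IsGeneralizedCharacter G f := by
  induction hf using AddSubgroup.closure_induction with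
  | mem f hf =>
    obtain ⟨E, β, -, hβ, rfl⟩ := hf
    exact gen_indFun E hβ
  | zero => exact isGeneralized_zero
  | add _ _ _ _ h1 h2 => exact gen_add h1 h2
  | neg _ _ h => exact gen_neg h

theorem VZ_ind {E : Subgroup G} {β : E → ℂ} (hE : IsElemSub E)
    (hβ : IsGeneralizedCharacter E β) : indFun E β ∈ VZ G :=
  AddSubgroup.subset_closure ⟨E, β, hE, hβ, rfl⟩

theorem VZ_mul {θ f : G → ℂ} (hθ : IsGeneralizedCharacter G θ) (hf : f ∈ VZ G) :
    θ * f ∈ VZ G := by
  have hcl : IsClassFunction G θ := gen_isClass hθ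
  induction hf using AddSubgroup.closure_induction with
  | mem f hf =>
    obtain ⟨E, β, hE, hβ, rfl⟩ := hf
    rw [mul_indFun hcl]
    exact VZ_ind hE (gen_mul (gen_restrict E hθ) hβ)
  | zero => rw [mul_zero]; exact (VZ G).zero_mem
  | add _ _ _ _ h1 h2 => rw [mul_add]; exact (VZ G).add_mem h1 h2
  | neg _ _ h => rw [mul_neg]; exact (VZ G).neg_mem h

/-- If `1 ∈ VZ`, then Brauer's characterization holds. -/
theorem gen_of_restrict (hone : (fun _ : G => (1 : ℂ)) ∈ VZ G) {θ : G → ℂ}
    (hθ : IsClassFunction G θ)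
    (hE : ∀ E : Subgroup G, IsElemSub E → IsGeneralizedCharacter E (fun e : E => θ e)) :
    IsGeneralizedCharacter G θ := by
  have key : ∀ f ∈ VZ G, IsGeneralizedCharacter G (θ * f) := by
    intro f hf
    induction hf using AddSubgroup.closure_induction with
    | mem f hf =>
      obtain ⟨E, β, hE', hβ, rfl⟩ := hf
      rw [mul_indFun hθ]
      exact gen_indFun E (gen_mul (hE E hE') hβ)
    | zero => rw [mul_zero]; exact isGeneralized_zero
    | add _ _ _ _ h1 h2 => rw [mul_add]; exact gen_add h1 h2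
    | neg _ _ h => rw [mul_neg]; exact gen_neg h
  have := key _ hone
  convert this using 1
  funext g
  simp

end Base

section Coeff

variable (G : Type u) [Group G] [Fintype G]

/-- The `|G|`-th root of unity. -/
noncomputable def zetaG : ℂ := Complex.exp (2 * Real.pi * Complex.I / (Nat.card G : ℕ))

/-- The coefficient ring. -/
noncomputable def AZ : Subalgebra ℤ ℂ := Algebra.adjoin ℤ {zetaG G}

variable {G}

theorem zetaG_prim : IsPrimitiveRoot (zetaG G) (Nat.card G) :=
  Complex.isPrimitiveRoot_exp _ Nat.card_pos.ne'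

theorem root_mem_AZ {w : ℂ} (hw : w ^ (Nat.card G) = 1) : w ∈ AZ G := by
  haveI : NeZero (Nat.card G) := ⟨Nat.card_pos.ne'⟩
  obtain ⟨i, -, rfl⟩ := (zetaG_prim (G := G)).eq_pow_of_pow_eq_one hw
  exact Subalgebra.pow_mem _ (Algebra.subset_adjoin (Set.mem_singleton _)) i

theorem int_mem_AZ (n : ℤ) : (n : ℂ) ∈ AZ G := by
  have := (AZ G).algebraMap_mem n
  simpa using this

variable (G)

/-- The scalar extension of `VZ`. -/
noncomputable def VA : AddSubgroup (G → ℂ) :=
  AddSubgroup.closure {f | ∃ a ∈ AZ G, ∃ v ∈ VZ G, f = fun g => a * v g}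

variable {G}

theorem VA_of_VZ {a : ℂ} (ha : a ∈ AZ G) {v : G → ℂ} (hv : v ∈ VZ G) :
    (fun g => a * v g) ∈ VA G :=
  AddSubgroup.subset_closure ⟨a, ha, v, hv, rfl⟩

theorem VA_smul {a : ℂ} (ha : a ∈ AZ G) {f : G → ℂ} (hf : f ∈ VA G) :
    (fun g => a * f g) ∈ VA G := by
  induction hf using AddSubgroup.closure_induction with
  | mem f hf =>
    obtain ⟨b, hb, v, hv, rfl⟩ := hf
    have := VA_of_VZ (Subalgebra.mul_mem _ ha hb) hv
    convert this using 1
    funext g
    ring
  | zero =>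
    convert (VA G).zero_mem using 1
    funext g
    simp
  | add f₁ f₂ _ _ h1 h2 =>
    convert (VA G).add_mem h1 h2 using 1
    funext g
    simp [mul_add]
  | neg f _ h =>
    convert (VA G).neg_mem h using 1
    funext g
    simp

theorem VA_class {f : G → ℂ} (hf : f ∈ VA G) : IsClassFunction G f := by
  induction hf using AddSubgroup.closure_induction with
  | mem f hf =>
    obtain ⟨b, hb, v, hv, rfl⟩ := hf
    intro g h
    have := gen_isClass (VZ_gen hv) g h
    simp only [this]
  | zero => intro g h; rfl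
  | add f₁ f₂ _ _ h1 h2 =>
    intro g h
    simp only [Pi.add_apply, h1 g h, h2 g h]
  | neg f _ h =>
    intro g k
    simp only [Pi.neg_apply, h g k]

theorem VA_mul {f h : G → ℂ} (hf : f ∈ VA G) (hh : h ∈ VA G) : f * h ∈ VA G := by
  induction hf using AddSubgroup.closure_induction with
  | mem f hf =>
    obtain ⟨a, ha, v, hv, rfl⟩ := hf
    induction hh using AddSubgroup.closure_induction with
    | mem h hh =>
      obtain ⟨b, hb, w, hw, rfl⟩ := hh
      have := VA_of_VZ (Subalgebra.mul_mem _ ha hb) (VZ_mul (VZ_gen hv) hw)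
      convert this using 1
      funext g
      simp only [Pi.mul_apply]
      ring
    | zero => rw [mul_zero]; exact (VA G).zero_mem
    | add _ _ _ _ h1 h2 => rw [mul_add]; exact (VA G).add_mem h1 h2
    | neg _ _ h => rw [mul_neg]; exact (VA G).neg_mem h
  | zero => rw [zero_mul]; exact (VA G).zero_mem
  | add _ _ _ _ h1 h2 => rw [add_mul]; exact (VA G).add_mem h1 h2
  | neg _ _ h => rw [neg_mul]; exact (VA G).neg_mem h

theorem VA_pow {f : G → ℂ} (hf : f ∈ VA G) {n : ℕ} (hn : n ≠ 0) : f ^ n ∈ VA G := by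
  induction n with
  | zero => exact absurd rfl hn
  | succ n ih =>
    by_cases h0 : n = 0
    · subst h0
      simpa using hf
    · rw [pow_succ]
      exact VA_mul (ih h0) hf

theorem VA_sum {ι : Type*} (s : Finset ι) (f : ι → G → ℂ) (h : ∀ i ∈ s, f i ∈ VA G) :
    ∑ i ∈ s, f i ∈ VA G :=
  AddSubgroup.sum_mem _ h

/-- Descent from `ℤ[ζ]` to `ℤ`. -/
theorem one_mem_VZ_of_VA (hone : (fun _ : G => (1 : ℂ)) ∈ VA G) :
    (fun _ : G => (1 : ℂ)) ∈ VZ G := by
  classical
  have hint : IsIntegral ℤ (zetaG G) := (zetaG_prim (G := G)).isIntegral Nat.card_pos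
  let pb := Algebra.adjoin.powerBasis' (R := ℤ) hint
  have hdim : 0 < pb.dim := by
    rw [Algebra.adjoin.powerBasis'_dim]
    exact minpoly.natDegree_pos hint
  let L : AZ G →ₗ[ℤ] ℤ := pb.basis.coord ⟨0, hdim⟩
  have hL1 : L 1 = 1 := by
    have h1 : pb.basis ⟨0, hdim⟩ = 1 := by
      rw [pb.basis_eq_pow]
      simp
    have h2 : pb.basis.coord ⟨0, hdim⟩ (pb.basis ⟨0, hdim⟩) = 1 := by
      rw [Module.Basis.coord_apply, Module.Basis.repr_self, Finsupp.single_eq_same]
    rw [h1] at h2
    exact h2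
  have key : ∀ w ∈ VA G, ∃ v ∈ VZ G, ∀ χ : IrrCharacter G,
      ∃ c : AZ G, classInner w (χ : G → ℂ) = (c : ℂ) ∧
        classInner v (χ : G → ℂ) = (L c : ℂ) := by
    intro w hw
    induction hw using AddSubgroup.closure_induction with
    | mem f hf =>
      obtain ⟨a, ha, u, hu, rfl⟩ := hf
      refine ⟨(L ⟨a, ha⟩) • u, (VZ G).zsmul_mem hu _, fun χ => ?_⟩
      obtain ⟨k, hk⟩ := gen_inner_int (VZ_gen hu) (gen_of_char (isCharacter_of_irr χ.2))
      refine ⟨k • (⟨a, ha⟩ : AZ G), ?_, ?_⟩
      · have : (fun g => a * u g) = a • u := by funext g; simp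
        rw [this, classInner_smul_left, hk]
        simp [mul_comm]
      · have h1 : (L ⟨a, ha⟩) • u = ((L ⟨a, ha⟩ : ℤ) : ℂ) • u := by
          funext g
          simp
        rw [h1, classInner_smul_left, hk, map_zsmul]
        simp [mul_comm]
    | zero =>
      refine ⟨0, (VZ G).zero_mem, fun χ => ⟨0, ?_, ?_⟩⟩ <;> simp [classInner_zero_left]
    | add f₁ f₂ _ _ h1 h2 =>
      obtain ⟨v₁, hv₁, h1⟩ := h1
      obtain ⟨v₂, hv₂, h2⟩ := h2
      refine ⟨v₁ + v₂, (VZ G).add_mem hv₁ hv₂, fun χ => ?_⟩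
      obtain ⟨c₁, h11, h12⟩ := h1 χ
      obtain ⟨c₂, h21, h22⟩ := h2 χ
      refine ⟨c₁ + c₂, ?_, ?_⟩
      · rw [classInner_add_left, h11, h21]; simp
      · rw [classInner_add_left, h12, h22, map_add]; simp
    | neg f _ h =>
      obtain ⟨v, hv, h⟩ := h
      refine ⟨-v, (VZ G).neg_mem hv, fun χ => ?_⟩
      obtain ⟨c, h1, h2⟩ := h χ
      refine ⟨-c, ?_, ?_⟩
      · rw [classInner_neg_left', h1]; simp
      · rw [classInner_neg_left', h2, map_neg]; simp
  obtain ⟨v, hv, hv2⟩ := key _ hone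
  have hgen1 : IsGeneralizedCharacter G (fun _ : G => (1 : ℂ)) := gen_of_char isCharacter_one
  haveI : Fintype (IrrCharacter G) := Fintype.ofFinite _
  have : v = fun _ => (1 : ℂ) := by
    apply classFunction_ext (gen_isClass (VZ_gen hv)) (gen_isClass hgen1)
    intro χ
    obtain ⟨c, h1, h2⟩ := hv2 χ
    obtain ⟨k, hk⟩ := gen_inner_int hgen1 (gen_of_char (isCharacter_of_irr χ.2))
    have hc : c = k • (1 : AZ G) := by
      apply Subtype.ext
      rw [← h1, hk]
      simp
    rw [h2, hk, hc, map_zsmul, hL1]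
    simp
  rwa [this] at hv

end Coeff

end Cfsg.Agent.H06.Brauer
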