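import Cfsg.Agent.Lib.H06.CharClifford
import Mathlib.NumberTheory.Cyclotomic.Gal
import Mathlib.RingTheory.AlgebraicIndependent.TranscendenceBasis
import Mathlib.RingTheory.Polynomial.Cyclotomic.Roots
import Mathlib.FieldTheory.IsAlgClosed.Basic
import Mathlib.NumberTheory.Cyclotomic.Basic

/-!
# Galois twists of characters: automorphisms of cyclotomic fields extend to ring maps of `ℂ`
-/

set_option autoImplicit false

namespace Cfsg.Agent.H06

open Cfsg Cfsg.Agent.H21 Module
open scoped ComplexConjugate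

universe u

/-- A copy of `ℂ`, used to carry a twisted algebra structure. -/
def TwistC : Type := ℂ

noncomputable instance : Field TwistC := inferInstanceAs (Field ℂ)

instance : IsAlgClosed TwistC := inferInstanceAs (IsAlgClosed ℂ)

/-- A field automorphism of a subfield of `ℂ` extends to a ring endomorphism of `ℂ`. -/
theorem exists_ringHom_extend {K : Type} [Field K] [Algebra K ℂ] (σ : K ≃+* K) :
    ∃ τ : ℂ →+* ℂ, ∀ a : K, τ (algebraMap K ℂ a) = algebraMap K ℂ (σ a) := by
  obtain ⟨s, hs⟩ := exists_isTranscendenceBasis K ℂ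
  let x : s → ℂ := (↑)
  have hi : AlgebraicIndependent K x := hs.1
  let R := Algebra.adjoin K (Set.range x)
  let φ₀ : MvPolynomial s K →+* ℂ := MvPolynomial.eval₂Hom ((algebraMap K ℂ).comp σ.toRingHom) x
  have hφ₀ : Function.Injective φ₀ := by
    have h1 : ∀ p, φ₀ p = MvPolynomial.aeval x (MvPolynomial.map σ.toRingHom p) := by
      intro p
      rw [MvPolynomial.aeval_def, MvPolynomial.eval₂_map]
      rfl
    intro p q hpq
    rw [h1, h1] at hpq
    have h2 := algebraicIndependent_iff_injective_aeval.mp hi hpq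
    exact MvPolynomial.map_injective _ σ.injective h2
  let φ : R →+* TwistC := φ₀.comp (hi.aevalEquiv.symm : R →+* MvPolynomial s K)
  have hφ : Function.Injective φ := hφ₀.comp hi.aevalEquiv.symm.injective
  letI : Algebra R TwistC := φ.toAlgebra
  haveI : IsTorsionFree R TwistC := isTorsionFree_iff_algebraMap_injective.mpr hφ
  haveI : Algebra.IsAlgebraic R ℂ := hs.isAlgebraic
  let f : ℂ →ₐ[R] TwistC := IsAlgClosed.lift
  refine ⟨f.toRingHom, fun a => ?_⟩
  have h3 : algebraMap K ℂ a = algebraMap R ℂ (algebraMap K R a) := rfl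
  have h4 : f (algebraMap R ℂ (algebraMap K R a)) = φ (algebraMap K R a) :=
    f.commutes (algebraMap K R a)
  have h5 : hi.aevalEquiv.symm (algebraMap K R a) = MvPolynomial.C a :=
    hi.aevalEquiv.symm.commutes a
  show f (algebraMap K ℂ a) = _
  rw [h3, h4]
  show φ₀ (hi.aevalEquiv.symm (algebraMap K R a)) = _
  rw [h5]
  show MvPolynomial.eval₂ _ _ _ = _
  rw [MvPolynomial.eval₂_C]
  rfl

/-- For coprime `k` and `n`, there is a ring endomorphism of `ℂ` raising all `n`-th roots of unity
to the `k`-th power. -/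
theorem exists_galois_ringHom {n k : ℕ} (hn : n ≠ 0) (hk : k.Coprime n) :
    ∃ τ : ℂ →+* ℂ, ∀ μ : ℂ, μ ^ n = 1 → τ μ = μ ^ k := by
  classical
  haveI : NeZero n := ⟨hn⟩
  let K := CyclotomicField n ℚ
  haveI : IsCyclotomicExtension {n} ℚ K := CyclotomicField.isCyclotomicExtension n ℚ
  haveI : FiniteDimensional ℚ K := IsCyclotomicExtension.finiteDimensional {n} ℚ K
  haveI : Algebra.IsAlgebraic ℚ K := Algebra.IsAlgebraic.of_finite ℚ K
  let j : K →ₐ[ℚ] ℂ := IsAlgClosed.lift
  letI : Algebra K ℂ := j.toRingHom.toAlgebra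
  have hj : ∀ a : K, algebraMap K ℂ a = j a := fun _ => rfl
  set z : K := IsCyclotomicExtension.zeta n ℚ K with hz
  have hzp : IsPrimitiveRoot z n := IsCyclotomicExtension.zeta_spec n ℚ K
  have hμ : IsPrimitiveRoot (z ^ k) n := hzp.pow_of_coprime k hk
  have hirr : Irreducible (Polynomial.cyclotomic n ℚ) :=
    Polynomial.cyclotomic.irreducible_rat (Nat.pos_of_ne_zero hn)
  let σ : K ≃ₐ[ℚ] K := IsCyclotomicExtension.fromZetaAut hμ hirr
  have hσ : σ z = z ^ k := IsCyclotomicExtension.fromZetaAut_spec hμ hirr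
  obtain ⟨τ, hτ⟩ := exists_ringHom_extend (K := K) σ.toRingEquiv
  refine ⟨τ, fun μ hμ' => ?_⟩
  have hzC : IsPrimitiveRoot (j z) n := hzp.map_of_injective j.toRingHom.injective
  obtain ⟨i, -, rfl⟩ := hzC.eq_pow_of_pow_eq_one hμ'
  have h1 : τ (j z) = j (z ^ k) := by
    have := hτ z
    rw [hj, hj] at this
    rw [this]
    congr 1
  rw [map_pow, h1, map_pow, ← pow_mul, ← pow_mul, mul_comm]

section Twist

variable {G : Type u} [Group G]

/-- Entrywise twist of a representation by a ring endomorphism of `ℂ`. -/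
noncomputable def ringTwist {d : ℕ} (ρ : Representation ℂ G (Fin d → ℂ)) (τ : ℂ →+* ℂ) :
    Representation ℂ G (Fin d → ℂ) where
  toFun g := Matrix.toLin' ((LinearMap.toMatrix' (ρ g)).map τ)
  map_one' := by
    rw [map_one]
    have : LinearMap.toMatrix' (1 : (Fin d → ℂ) →ₗ[ℂ] (Fin d → ℂ)) = 1 := LinearMap.toMatrix'_one
    rw [this, Matrix.map_one _ (map_zero τ) (map_one τ), Matrix.toLin'_one]
    rfl
  map_mul' a b := by
    rw [map_mul]
    have : LinearMap.toMatrix' (ρ a * ρ b) = LinearMap.toMatrix' (ρ a) * LinearMap.toMatrix' (ρ b) :=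
      LinearMap.toMatrix'_mul _ _
    rw [this, Matrix.map_mul, Matrix.toLin'_mul]
    rfl

theorem ringTwist_character {d : ℕ} (ρ : Representation ℂ G (Fin d → ℂ)) (τ : ℂ →+* ℂ) (g : G) :
    (ringTwist ρ τ).character g = τ (ρ.character g) := by
  simp only [Representation.character]
  have h1 : ringTwist ρ τ g = Matrix.toLin' ((LinearMap.toMatrix' (ρ g)).map τ) := rfl
  rw [h1, Matrix.trace_toLin'_eq]
  have h2 : LinearMap.trace ℂ (Fin d → ℂ) (ρ g) = (LinearMap.toMatrix' (ρ g)).trace := by
    rw [LinearMap.trace_eq_matrix_trace ℂ (Pi.basisFun ℂ (Fin d)) (ρ g)]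
    rfl
  rw [h2]
  simp [Matrix.trace, map_sum]

end Twist

section Adams

variable {G : Type u} [Group G] [Finite G]

/-- For `k` coprime to the order of `G`, the composite of a character with the `k`-th power map is a
character. -/
theorem isCharacter_comp_pow {k : ℕ} (hk : k.Coprime (Nat.card G)) {χ : G → ℂ}
    (hχ : IsCharacter G χ) : IsCharacter G (fun g => χ (g ^ k)) := by
  obtain ⟨d, ρ, rfl⟩ := hχ
  obtain ⟨τ, hτ⟩ := exists_galois_ringHom (n := Nat.card G) Nat.card_pos.ne' hk
  refine ⟨d, ringTwist ρ τ, ?_⟩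
  funext g
  rw [ringTwist_character]
  obtain ⟨ι, _, b, μ, h1, h2, h3, -⟩ := exists_eigenbasis ρ g
  have hμ : ∀ i, μ i ^ Nat.card G = 1 := by
    intro i
    obtain ⟨c, hc⟩ := orderOf_dvd_natCard g
    rw [hc, pow_mul, h2, one_pow]
  simp only [Representation.character]
  rw [h3, map_sum]
  have hpow : ∀ i, ρ (g ^ k) (b i) = μ i ^ k • b i := by
    intro i
    rw [map_pow]
    have : ∀ m : ℕ, ((ρ g) ^ m) (b i) = μ i ^ m • b i := by
      intro m
      induction m with
      | zero => simp
      | succ m ih => rw [pow_succ, Module.End.mul_apply, h1, map_smul, ih, smul_smul, pow_succ, mul_comm]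
    exact this k
  rw [trace_of_eigenbasis _ b _ hpow]
  exact Finset.sum_congr rfl fun i _ => hτ _ (hμ i)

theorem isIrrCharacter_comp_pow {k : ℕ} (hk : k.Coprime (Nat.card G)) {χ : G → ℂ}
    (hχ : IsIrrCharacter G χ) : IsIrrCharacter G (fun g => χ (g ^ k)) := by
  classical
  haveI : Fintype G := Fintype.ofFinite _
  haveI : Fintype (IrrCharacter G) := Fintype.ofFinite _
  apply isIrrCharacter_of_inner_self_eq_one (isCharacter_comp_pow hk (isCharacter_of_irr hχ))
  rw [← classInner_irr_self hχ]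
  simp only [classInner]
  congr 1
  exact Fintype.sum_equiv (powCoprime hk.symm) _ _ (fun g => rfl)

end Adams

end Cfsg.Agent.H06
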