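import Mathlib
import Cfsg.Agent.Lib.H16.Affine

set_option autoImplicit false

namespace Cfsg.Agent.H06.AH

open Matrix

variable {F : Type*} [Field F] {d : ℕ}

/-- functional separating a vector from a subspace, as a dot product -/
theorem exists_dot (S : Submodule F (Fin d → F)) (w : Fin d → F) (hw : w ∉ S) :
    ∃ f : Fin d → F, (∀ s ∈ S, f ⬝ᵥ s = 0) ∧ f ⬝ᵥ w = 1 := by
  obtain ⟨φ, hφ, hS⟩ := Submodule.exists_le_ker_of_notMem hw
  have key : ∀ v : Fin d → F, φ v = (fun i => φ (Pi.single i 1)) ⬝ᵥ v := by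
    intro v
    have := LinearMap.pi_apply_eq_sum_univ φ v
    rw [this, dotProduct]
    refine Finset.sum_congr rfl fun i _ => ?_
    have h : (fun j => if i = j then (1 : F) else 0) = Pi.single i 1 := by
      ext j
      by_cases h : i = j
      · subst h; simp
      · simp [h, Pi.single_apply, Ne.symm h]
    rw [h, smul_eq_mul, mul_comm]
  refine ⟨(φ w)⁻¹ • (fun i => φ (Pi.single i 1)), fun s hs => ?_, ?_⟩
  · rw [smul_dotProduct, ← key, smul_eq_mul]
    have : φ s = 0 := hS hs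
    rw [this, mul_zero]
  · rw [smul_dotProduct, ← key, smul_eq_mul, inv_mul_cancel₀ hφ]

theorem vecMulVec_mulVec' (u f v : Fin d → F) : vecMulVec u f *ᵥ v = (f ⬝ᵥ v) • u := by
  ext i
  simp [Matrix.mulVec, dotProduct, vecMulVec_apply, Finset.mul_sum, mul_comm, mul_left_comm]

theorem det_one_add_smul_vec (s : F) (u f : Fin d → F) :
    (1 + s • vecMulVec u f : Matrix (Fin d) (Fin d) F).det = 1 + s * (f ⬝ᵥ u) := by
  have h : s • vecMulVec u f = Matrix.replicateCol Unit (s • u) * Matrix.replicateRow Unit f := by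
    rw [← Matrix.vecMulVec_eq]
    ext i j
    simp [vecMulVec_apply, mul_assoc]
  rw [h, Matrix.det_one_add_replicateCol_mul_replicateRow, dotProduct_smul, smul_eq_mul]

/-- the transvection `1 + s u⊗f` in `SL`, `f·u = 0` -/
noncomputable def tv (s : F) (u f : Fin d → F) (h : f ⬝ᵥ u = 0) : SpecialLinearGroup (Fin d) F :=
  ⟨1 + s • vecMulVec u f, by rw [det_one_add_smul_vec, h, mul_zero, add_zero]⟩

theorem vec_mul_vec (u f v g : Fin d → F) :
    vecMulVec u f * vecMulVec v g = (f ⬝ᵥ v) • vecMulVec u g := by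
  ext i j
  simp [Matrix.mul_apply, dotProduct, vecMulVec_apply, Finset.mul_sum, Finset.sum_mul]
  refine Finset.sum_congr rfl fun k _ => ?_
  ring

theorem tv_inv_coe (s : F) (u f : Fin d → F) (h : f ⬝ᵥ u = 0) :
    ((tv s u f h)⁻¹ : SpecialLinearGroup (Fin d) F).1 = 1 - s • vecMulVec u f := by
  have h1 : (tv s u f h).1 * (1 - s • vecMulVec u f) = 1 := by
    change (1 + s • vecMulVec u f) * (1 - s • vecMulVec u f) = 1
    rw [mul_sub, add_mul, add_mul, mul_one, one_mul, mul_one]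
    rw [smul_mul_smul_comm, vec_mul_vec, h]
    simp
  have h2 := congrArg Subtype.val (inv_mul_cancel (tv s u f h))
  change ((tv s u f h)⁻¹).1 * (tv s u f h).1 = 1 at h2
  calc ((tv s u f h)⁻¹).1 = ((tv s u f h)⁻¹).1 * ((tv s u f h).1 * (1 - s • vecMulVec u f)) := by
        rw [h1, mul_one]
    _ = _ := by rw [← mul_assoc, h2, one_mul]

theorem trace_mul_vec (M : Matrix (Fin d) (Fin d) F) (u f : Fin d → F) :
    (M * vecMulVec u f).trace = f ⬝ᵥ (M *ᵥ u) := by
  rw [Matrix.mul_vecMulVec]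
  simp only [Matrix.trace, Matrix.diag, vecMulVec_apply, dotProduct]
  refine Finset.sum_congr rfl fun i _ => ?_
  ring

/-- the trace along the linear family of conjugates -/
theorem trace_family (A B : Matrix (Fin d) (Fin d) F) (s : F) (u f : Fin d → F) (h : f ⬝ᵥ u = 0)
    (hB : f ⬝ᵥ (B *ᵥ u) = 0) :
    (A * ((tv s u f h).1 * B * ((tv s u f h)⁻¹ : SpecialLinearGroup (Fin d) F).1)).trace
      = (A * B).trace + s * (f ⬝ᵥ ((B * A - A * B) *ᵥ u)) := by
  rw [tv_inv_coe]
  change (A * ((1 + s • vecMulVec u f) * B * (1 - s • vecMulVec u f))).trace = _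
  have h0 : vecMulVec u f * B * vecMulVec u f = 0 := by
    have : vecMulVec u f * B = vecMulVec u (f ᵥ* B) := by
      rw [Matrix.vecMulVec_mul]
    rw [this, vec_mul_vec]
    have h2 : (f ᵥ* B) ⬝ᵥ u = f ⬝ᵥ (B *ᵥ u) := by
      rw [Matrix.dotProduct_mulVec]
    rw [h2, hB, zero_smul]
  have e : (1 + s • vecMulVec u f) * B * (1 - s • vecMulVec u f)
      = B + s • (vecMulVec u f * B) - s • (B * vecMulVec u f) := by
    have : (1 + s • vecMulVec u f) * B * (1 - s • vecMulVec u f)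
        = B + s • (vecMulVec u f * B) - s • (B * vecMulVec u f)
          - (s * s) • (vecMulVec u f * B * vecMulVec u f) := by
      simp only [add_mul, mul_sub, one_mul, mul_one, smul_mul_assoc, mul_smul_comm, smul_smul, smul_add, smul_sub, sub_mul, mul_add]
      abel
    rw [this, h0, smul_zero, sub_zero]
  rw [e, mul_sub, mul_add, Matrix.trace_sub, Matrix.trace_add, Matrix.mul_smul, Matrix.mul_smul,
    Matrix.trace_smul, Matrix.trace_smul, smul_eq_mul, smul_eq_mul]
  have e1 : (A * (vecMulVec u f * B)).trace = f ⬝ᵥ ((B * A) *ᵥ u) := by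
    rw [← trace_mul_vec, Matrix.trace_mul_comm A, Matrix.mul_assoc, Matrix.trace_mul_comm]
  have e2 : (A * (B * vecMulVec u f)).trace = f ⬝ᵥ ((A * B) *ᵥ u) := by
    rw [← trace_mul_vec, Matrix.mul_assoc]
  rw [e1, e2, Matrix.sub_mulVec, dotProduct_sub]
  ring

/-- tuple transitivity of `SL` with a scalar correction on the last vector -/
theorem exists_sl_tuple {k : ℕ} (v w : Fin (k + 1) → (Fin d → F))
    (hv : LinearIndependent F v) (hw : LinearIndependent F w) :
    ∃ (x : SpecialLinearGroup (Fin d) F) (c : F), c ≠ 0 ∧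
      (∀ i : Fin k, x.1 *ᵥ v i.castSucc = w i.castSucc) ∧
      x.1 *ᵥ v (Fin.last k) = c • w (Fin.last k) := by
  obtain ⟨ψ, hψ⟩ := Cfsg.Agent.H16.exists_equiv_of_independent hv hw
  let P : Matrix (Fin d) (Fin d) F := LinearMap.toMatrix' (ψ : (Fin d → F) →ₗ[F] (Fin d → F))
  have hPv : ∀ i, P *ᵥ v i = w i := by
    intro i
    rw [← hψ i]
    change LinearMap.toMatrix' (ψ : (Fin d → F) →ₗ[F] (Fin d → F)) *ᵥ v i = _
    rw [LinearMap.toMatrix'_mulVec]
    rfl
  let P' : Matrix (Fin d) (Fin d) F := LinearMap.toMatrix' (ψ.symm : (Fin d → F) →ₗ[F] (Fin d → F))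
  have hPP : P * P' = 1 := by
    change LinearMap.toMatrix' _ * LinearMap.toMatrix' _ = 1
    rw [← LinearMap.toMatrix'_comp]
    have : (ψ : (Fin d → F) →ₗ[F] (Fin d → F)) ∘ₗ (ψ.symm : (Fin d → F) →ₗ[F] (Fin d → F)) = LinearMap.id := by
      ext1 x; simp
    rw [this, LinearMap.toMatrix'_id]
  have hdet : P.det ≠ 0 := by
    intro h
    have := congrArg Matrix.det hPP
    rw [Matrix.det_mul, h, zero_mul, Matrix.det_one] at this
    exact zero_ne_one this
  have hnot : v (Fin.last k) ∉ Submodule.span F (v '' (Set.range (Fin.castSucc : Fin k → Fin (k+1)))) := by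
    apply hv.notMem_span_image
    rintro ⟨i, hi⟩
    exact (Fin.castSucc_lt_last i).ne hi
  obtain ⟨f, hf0, hf1⟩ := exists_dot _ _ hnot
  have hfi : ∀ i : Fin k, f ⬝ᵥ v i.castSucc = 0 := fun i =>
    hf0 _ (Submodule.subset_span ⟨_, ⟨i, rfl⟩, rfl⟩)
  let δ := P.det
  let S : Matrix (Fin d) (Fin d) F := 1 + (δ⁻¹ - 1) • vecMulVec (v (Fin.last k)) f
  have hS : S.det = δ⁻¹ := by
    change (1 + (δ⁻¹ - 1) • vecMulVec (v (Fin.last k)) f).det = _
    rw [det_one_add_smul_vec, hf1]; ring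
  refine ⟨⟨P * S, ?_⟩, δ⁻¹, inv_ne_zero hdet, fun i => ?_, ?_⟩
  · rw [Matrix.det_mul, hS]; exact mul_inv_cancel₀ hdet
  · change (P * S) *ᵥ _ = _
    rw [← Matrix.mulVec_mulVec]
    have : S *ᵥ v i.castSucc = v i.castSucc := by
      change (1 + (δ⁻¹ - 1) • vecMulVec (v (Fin.last k)) f) *ᵥ _ = _
      rw [Matrix.add_mulVec, Matrix.one_mulVec, Matrix.smul_mulVec, vecMulVec_mulVec', hfi i]
      simp
    rw [this, hPv]
  · change (P * S) *ᵥ _ = _
    rw [← Matrix.mulVec_mulVec]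
    have : S *ᵥ v (Fin.last k) = δ⁻¹ • v (Fin.last k) := by
      change (1 + (δ⁻¹ - 1) • vecMulVec (v (Fin.last k)) f) *ᵥ _ = _
      rw [Matrix.add_mulVec, Matrix.one_mulVec, Matrix.smul_mulVec, vecMulVec_mulVec', hf1]
      rw [one_smul, sub_smul, one_smul]
      abel
    rw [this, Matrix.mulVec_smul, hPv]

end Cfsg.Agent.H06.AH
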