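import Cfsg.Agent.Lib.H06.AH1

set_option autoImplicit false

namespace Cfsg.Agent.H06.AH

open Matrix

variable {F : Type*} [Field F] {d : ℕ}

theorem li3 {a b c : Fin d → F} (h : LinearIndependent F ![a, b])
    (hc : c ∉ Submodule.span F ({a, b} : Set (Fin d → F))) : LinearIndependent F ![a, b, c] := by
  have e : ![a, b, c] = (Fin.snoc ![a, b] c : Fin 3 → (Fin d → F)) := by
    funext i
    fin_cases i <;> rfl
  rw [e, linearIndependent_fin_snoc]
  refine ⟨h, ?_⟩
  have : Set.range ![a, b] = {a, b} := by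
    ext x; simp [Matrix.range_cons]; tauto
  rwa [this]

theorem li4 {a b c e : Fin d → F} (h : LinearIndependent F ![a, b, c])
    (hc : e ∉ Submodule.span F ({a, b, c} : Set (Fin d → F))) : LinearIndependent F ![a, b, c, e] := by
  have e' : ![a, b, c, e] = (Fin.snoc ![a, b, c] e : Fin 4 → (Fin d → F)) := by
    funext i
    fin_cases i <;> rfl
  rw [e', linearIndependent_fin_snoc]
  refine ⟨h, ?_⟩
  have : Set.range ![a, b, c] = {a, b, c} := by
    ext x; simp [Matrix.range_cons]; tauto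
  rwa [this]

theorem li3_perm {a b c : Fin d → F} (h : LinearIndependent F ![a, b, c]) :
    LinearIndependent F ![a, c, b] := by
  have e : ![a, c, b] = ![a, b, c] ∘ ![0, 2, 1] := by
    ext i j
    fin_cases i <;> simp
  rw [e]
  exact h.comp _ (by decide)

theorem li2_of_3 {a b c : Fin d → F} (h : LinearIndependent F ![a, b, c]) :
    LinearIndependent F ![a, b] := by
  have e : ![a, b] = ![a, b, c] ∘ ![0, 1] := by
    ext i j
    fin_cases i <;> simp
  rw [e]
  exact h.comp _ (by decide)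

theorem notMem_of_li3 {a b c : Fin d → F} (h : LinearIndependent F ![a, b, c]) :
    c ∉ Submodule.span F ({a, b} : Set (Fin d → F)) := by
  have := h.notMem_span_image (s := {0, 1}) (x := 2) (by decide)
  have e : ![a, b, c] '' {0, 1} = {a, b} := by
    ext x; simp [Set.image_insert_eq]
  rw [e] at this
  simpa using this

theorem exists_notMem_span (s : Finset (Fin d → F)) (h : s.card < d) :
    ∃ y, y ∉ Submodule.span F (s : Set (Fin d → F)) := by
  by_contra hc
  push_neg at hc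
  have htop : Submodule.span F (s : Set (Fin d → F)) = ⊤ := by
    ext x; simp [hc x]
  have h1 := finrank_span_finset_le_card (R := F) s
  change Module.finrank F (Submodule.span F (s : Set (Fin d → F))) ≤ _ at h1
  rw [htop, finrank_top, Module.finrank_fin_fun] at h1
  omega

theorem exists_notMem_span2 (hd : 3 ≤ d) (a b : Fin d → F) :
    ∃ y, y ∉ Submodule.span F ({a, b} : Set (Fin d → F)) := by
  classical
  obtain ⟨y, hy⟩ := exists_notMem_span (F := F) (d := d) {a, b} (by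
    refine lt_of_le_of_lt (Finset.card_le_two) (by omega))
  exact ⟨y, by simpa using hy⟩

theorem exists_notMem_span3 (hd : 4 ≤ d) (a b c : Fin d → F) :
    ∃ y, y ∉ Submodule.span F ({a, b, c} : Set (Fin d → F)) := by
  classical
  obtain ⟨y, hy⟩ := exists_notMem_span (F := F) (d := d) {a, b, c} (by
    refine lt_of_le_of_lt (Finset.card_le_three) (by omega))
  exact ⟨y, by simpa using hy⟩

theorem comm_mulVec (A B : Matrix (Fin d) (Fin d) F) (u : Fin d → F) :
    (A * B - B * A) *ᵥ u = A *ᵥ (B *ᵥ u) - B *ᵥ (A *ᵥ u) := by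
  rw [Matrix.sub_mulVec, Matrix.mulVec_mulVec, Matrix.mulVec_mulVec]

theorem conj_apply (x : SpecialLinearGroup (Fin d) F) (b : Matrix (Fin d) (Fin d) F) (p : Fin d → F) :
    (x.1 * b * (x⁻¹ : SpecialLinearGroup (Fin d) F).1) *ᵥ (x.1 *ᵥ p) = x.1 *ᵥ (b *ᵥ p) := by
  have h : (x⁻¹ : SpecialLinearGroup (Fin d) F).1 * x.1 = 1 := congrArg Subtype.val (inv_mul_cancel x)
  rw [Matrix.mulVec_mulVec, Matrix.mul_assoc, h, Matrix.mul_one, Matrix.mulVec_mulVec]

/-- the choice of `y`. -/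
theorem exists_y {u w y₀ : Fin d → F} (A : Matrix (Fin d) (Fin d) F) (hu : LinearIndependent F ![u, w])
    (hAu : A *ᵥ u = w)
    (hy : y₀ ∉ Submodule.span F ({u, w} : Set (Fin d → F))) (μ : F) :
    ∃ y, y ∉ Submodule.span F ({u, w} : Set (Fin d → F)) ∧
      A *ᵥ y - μ • w ∉ Submodule.span F ({u, y} : Set (Fin d → F)) := by
  by_cases h0 : A *ᵥ y₀ - μ • w ∈ Submodule.span F ({u, y₀} : Set (Fin d → F))
  · refine ⟨y₀ + u, ?_, ?_⟩
    · intro h
      apply hy
      have hu' : u ∈ Submodule.span F ({u, w} : Set (Fin d → F)) :=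
        Submodule.subset_span (by simp)
      simpa using Submodule.sub_mem _ h hu'
    · intro h
      have hle : Submodule.span F ({u, y₀ + u} : Set (Fin d → F)) ≤
          Submodule.span F ({u, y₀} : Set (Fin d → F)) := by
        refine Submodule.span_le.mpr ?_
        rintro x (rfl | rfl)
        · exact Submodule.subset_span (by simp)
        · exact Submodule.add_mem _ (Submodule.subset_span (by simp)) (Submodule.subset_span (by simp))
      have h1 := Submodule.sub_mem _ (hle h) h0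
      have h2 : A *ᵥ (y₀ + u) - μ • w - (A *ᵥ y₀ - μ • w) = w := by
        rw [Matrix.mulVec_add, hAu]; abel
      rw [h2] at h1
      have hnot := notMem_of_li3 (li3_perm (li3 hu hy))
      exact hnot h1
  · exact ⟨y₀, hy, h0⟩

/-- the key configuration. -/
theorem exists_good (hd : 3 ≤ d) (A b : Matrix (Fin d) (Fin d) F) (u p : Fin d → F)
    (hu : LinearIndependent F ![u, A *ᵥ u]) (hp : LinearIndependent F ![p, b *ᵥ p]) :
    ∃ x : SpecialLinearGroup (Fin d) F,
      (A * (x.1 * b * (x⁻¹ : SpecialLinearGroup (Fin d) F).1)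
        - (x.1 * b * (x⁻¹ : SpecialLinearGroup (Fin d) F).1) * A) *ᵥ u ∉
        Submodule.span F ({u, (x.1 * b * (x⁻¹ : SpecialLinearGroup (Fin d) F).1) *ᵥ u} : Set (Fin d → F)) := by
  obtain ⟨q₀, hq₀⟩ := exists_notMem_span2 hd p (b *ᵥ p)
  obtain ⟨y₀, hy₀⟩ := exists_notMem_span2 hd u (A *ᵥ u)
  have hli3 := li3 hp hq₀
  by_cases hcase : b *ᵥ q₀ ∈ Submodule.span F ({p, b *ᵥ p, q₀} : Set (Fin d → F))
  · -- case (ii)
    obtain ⟨α, r, hr, hα⟩ := Submodule.mem_span_insert.mp hcase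
    obtain ⟨β, μ, hβ⟩ := Submodule.mem_span_pair.mp hr
    obtain ⟨y, hy, hyy⟩ := exists_y A hu rfl hy₀ μ
    have hw := li3_perm (li3 hu hy)
    obtain ⟨x, c, hc, hx, hlast⟩ := exists_sl_tuple (k := 2) ![p, b *ᵥ p, q₀] ![u, y, A *ᵥ u] hli3 hw
    have hx0 : x.1 *ᵥ p = u := by simpa using hx 0
    have hx1 : x.1 *ᵥ (b *ᵥ p) = y := by simpa using hx 1
    have hx2 : x.1 *ᵥ q₀ = c • (A *ᵥ u) := by simpa using hlast
    refine ⟨x, ?_⟩
    have hBu : (x.1 * b * (x⁻¹ : SpecialLinearGroup (Fin d) F).1) *ᵥ u = y := by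
      rw [← hx0, conj_apply, hx1]
    have hBAu : (x.1 * b * (x⁻¹ : SpecialLinearGroup (Fin d) F).1) *ᵥ (A *ᵥ u)
        = c⁻¹ • α • u + c⁻¹ • β • y + μ • (A *ᵥ u) := by
      have e1 : A *ᵥ u = x.1 *ᵥ (c⁻¹ • q₀) := by
        rw [Matrix.mulVec_smul, hx2, smul_smul, inv_mul_cancel₀ hc, one_smul]
      have h5 : x.1 *ᵥ (b *ᵥ q₀) = α • u + (β • y + (μ * c) • (A *ᵥ u)) := by
        rw [hα, ← hβ, Matrix.mulVec_add, Matrix.mulVec_smul, Matrix.mulVec_add, Matrix.mulVec_smul,
          Matrix.mulVec_smul, hx0, hx1, hx2, smul_smul]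
      conv_lhs => rw [e1]
      rw [conj_apply, Matrix.mulVec_smul, Matrix.mulVec_smul, h5, smul_add, smul_add,
        smul_smul c⁻¹ (μ * c)]
      have : c⁻¹ * (μ * c) = μ := by field_simp
      rw [this]
      abel
    rw [comm_mulVec, hBu, hBAu]
    intro hmem
    apply hyy
    have h3 : A *ᵥ y - μ • (A *ᵥ u) = (A *ᵥ y - (c⁻¹ • α • u + c⁻¹ • β • y + μ • (A *ᵥ u)))
        + c⁻¹ • α • u + c⁻¹ • β • y := by abel
    rw [h3]
    refine Submodule.add_mem _ (Submodule.add_mem _ hmem ?_) ?_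
    · exact Submodule.smul_mem _ _ (Submodule.smul_mem _ _ (Submodule.subset_span (by simp)))
    · exact Submodule.smul_mem _ _ (Submodule.smul_mem _ _ (Submodule.subset_span (by simp)))
  · -- case (i)
    have hli4 := li4 hli3 hcase
    have hd4 : 4 ≤ d := by
      have := hli4.fintype_card_le_finrank
      simpa using this
    have hli3' := li3_perm (li3 hu hy₀)
    obtain ⟨z₀, hz₀⟩ := exists_notMem_span3 hd4 u y₀ (A *ᵥ u)
    have hw := li4 hli3' hz₀
    obtain ⟨x, c, hc, hx, hlast⟩ := exists_sl_tuple (k := 3) ![p, b *ᵥ p, q₀, b *ᵥ q₀]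
      ![u, y₀, A *ᵥ u, z₀] hli4 hw
    have hx0 : x.1 *ᵥ p = u := by simpa using hx 0
    have hx1 : x.1 *ᵥ (b *ᵥ p) = y₀ := by simpa using hx 1
    have hx2 : x.1 *ᵥ q₀ = A *ᵥ u := by simpa using hx 2
    have hx3 : x.1 *ᵥ (b *ᵥ q₀) = c • z₀ := by simpa using hlast
    have hnot := notMem_of_li3 hli3'
    by_cases hgood : A *ᵥ y₀ - c • z₀ ∈ Submodule.span F ({u, y₀} : Set (Fin d → F))
    · -- modify by a transvection
      have hz : c • z₀ ∉ Submodule.span F ({u, y₀, A *ᵥ u} : Set (Fin d → F)) := by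
        intro h
        apply hz₀
        have := Submodule.smul_mem _ c⁻¹ h
        rwa [smul_smul, inv_mul_cancel₀ hc, one_smul] at this
      obtain ⟨g, hg0, hg1⟩ := exists_dot _ _ hz
      have hg_u : g ⬝ᵥ u = 0 := hg0 _ (Submodule.subset_span (by simp))
      have hg_y : g ⬝ᵥ y₀ = 0 := hg0 _ (Submodule.subset_span (by simp))
      have hg_A : g ⬝ᵥ (A *ᵥ u) = 0 := hg0 _ (Submodule.subset_span (by simp))
      let τ := tv 1 (A *ᵥ u) g hg_A
      have hτ : ∀ v, τ.1 *ᵥ v = v + (g ⬝ᵥ v) • (A *ᵥ u) := by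
        intro v
        change (1 + (1 : F) • vecMulVec (A *ᵥ u) g) *ᵥ v = _
        rw [Matrix.add_mulVec, Matrix.one_mulVec, one_smul, vecMulVec_mulVec']
      let x' := τ * x
      have hx'v : ∀ v, x'.1 *ᵥ v = τ.1 *ᵥ (x.1 *ᵥ v) := by
        intro v
        change (τ.1 * x.1) *ᵥ v = _
        rw [Matrix.mulVec_mulVec]
      have hx0' : x'.1 *ᵥ p = u := by rw [hx'v, hx0, hτ, hg_u]; simp
      have hx1' : x'.1 *ᵥ (b *ᵥ p) = y₀ := by rw [hx'v, hx1, hτ, hg_y]; simp
      have hx2' : x'.1 *ᵥ q₀ = A *ᵥ u := by rw [hx'v, hx2, hτ, hg_A]; simp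
      have hx3' : x'.1 *ᵥ (b *ᵥ q₀) = c • z₀ + A *ᵥ u := by rw [hx'v, hx3, hτ, hg1]; simp
      refine ⟨x', ?_⟩
      have hBu : (x'.1 * b * (x'⁻¹ : SpecialLinearGroup (Fin d) F).1) *ᵥ u = y₀ := by
        rw [← hx0', conj_apply, hx1']
      have hBAu : (x'.1 * b * (x'⁻¹ : SpecialLinearGroup (Fin d) F).1) *ᵥ (A *ᵥ u) = c • z₀ + A *ᵥ u := by
        conv_lhs => rw [← hx2']
        rw [conj_apply, hx3']
      rw [comm_mulVec, hBu, hBAu]
      intro hmem
      apply hnot
      have h3 : A *ᵥ u = (A *ᵥ y₀ - c • z₀) - (A *ᵥ y₀ - (c • z₀ + A *ᵥ u)) := by abel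
      rw [h3]
      exact Submodule.sub_mem _ hgood hmem
    · refine ⟨x, ?_⟩
      have hBu : (x.1 * b * (x⁻¹ : SpecialLinearGroup (Fin d) F).1) *ᵥ u = y₀ := by
        rw [← hx0, conj_apply, hx1]
      have hBAu : (x.1 * b * (x⁻¹ : SpecialLinearGroup (Fin d) F).1) *ᵥ (A *ᵥ u) = c • z₀ := by
        conv_lhs => rw [← hx2]
        rw [conj_apply, hx3]
      rw [comm_mulVec, hBu, hBAu]
      exact hgood

end Cfsg.Agent.H06.AH
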