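import Cfsg.Agent.Lib.H06.AH2

set_option autoImplicit false

namespace Cfsg.Agent.H06.AH

open Matrix

variable {F : Type*} [Field F] {d : ℕ}

theorem exists_li_of_notMem_center [NeZero d] (a : SpecialLinearGroup (Fin d) F)
    (ha : a ∉ Subgroup.center (SpecialLinearGroup (Fin d) F)) :
    ∃ u : Fin d → F, LinearIndependent F ![u, a.1 *ᵥ u] := by
  by_contra hc
  push_neg at hc
  obtain ⟨c, hc'⟩ := LinearMap.exists_eq_smul_id_of_forall_notLinearIndependent
    (f := Matrix.toLin' a.1) (fun v => by simpa using hc v)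
  have hm : a.1 = Matrix.scalar (Fin d) c := by
    apply Matrix.toLin'.injective
    rw [hc']
    ext i j
    simp [Matrix.scalar_apply, Matrix.diagonal_apply, Matrix.mulVec, dotProduct,
      Pi.single_apply, Matrix.one_apply]
  apply ha
  rw [Matrix.SpecialLinearGroup.mem_center_iff]
  refine ⟨c, ?_, hm.symm⟩
  have := a.2
  rw [hm, Matrix.scalar_apply, Matrix.det_diagonal] at this
  simpa using this

theorem arad_herzog (d : ℕ) (hd : 3 ≤ d)
    (a b : Matrix.ProjectiveSpecialLinearGroup (Fin d) F) (ha : a ≠ 1) (hb : b ≠ 1) :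
    ∃ g h : Matrix.ProjectiveSpecialLinearGroup (Fin d) F,
      ¬ IsConj (a * b) (g * a * g⁻¹ * (h * b * h⁻¹)) := by
  classical
  haveI : NeZero d := ⟨by omega⟩
  let π : SpecialLinearGroup (Fin d) F →* Matrix.ProjectiveSpecialLinearGroup (Fin d) F :=
    QuotientGroup.mk' _
  have hπ : Function.Surjective π := QuotientGroup.mk'_surjective _
  obtain ⟨a₀, rfl⟩ := hπ a
  obtain ⟨b₀, rfl⟩ := hπ b
  have hker : ∀ z, π z = 1 ↔ z ∈ Subgroup.center (SpecialLinearGroup (Fin d) F) := fun z =>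
    QuotientGroup.eq_one_iff z
  have ha₀ : a₀ ∉ Subgroup.center (SpecialLinearGroup (Fin d) F) := fun h => ha ((hker _).2 h)
  have hb₀ : b₀ ∉ Subgroup.center (SpecialLinearGroup (Fin d) F) := fun h => hb ((hker _).2 h)
  obtain ⟨u, hu⟩ := exists_li_of_notMem_center a₀ ha₀
  obtain ⟨p, hp⟩ := exists_li_of_notMem_center b₀ hb₀
  obtain ⟨x, hx⟩ := exists_good hd a₀.1 b₀.1 u p hu hp
  set B : Matrix (Fin d) (Fin d) F := x.1 * b₀.1 * (x⁻¹ : SpecialLinearGroup (Fin d) F).1 with hB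
  obtain ⟨f, hf0, hf1⟩ := exists_dot _ _ hx
  have hfu : f ⬝ᵥ u = 0 := hf0 _ (Submodule.subset_span (by simp))
  have hfB : f ⬝ᵥ (B *ᵥ u) = 0 := hf0 _ (Submodule.subset_span (by simp))
  have hfw : f ⬝ᵥ ((B * a₀.1 - a₀.1 * B) *ᵥ u) = -1 := by
    rw [← neg_sub, Matrix.neg_mulVec, dotProduct_neg, hf1]
  have htr : ∀ s : F, (a₀.1 * ((tv s u f hfu).1 * B * ((tv s u f hfu)⁻¹ : SpecialLinearGroup (Fin d) F).1)).trace
      = (a₀.1 * B).trace - s := by
    intro s
    rw [trace_family a₀.1 B s u f hfu hfB, hfw]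
    ring
  -- the two elements
  let c : F → SpecialLinearGroup (Fin d) F := fun s => tv s u f hfu * x
  have hcoe : ∀ s, (a₀ * (c s * b₀ * (c s)⁻¹)).1 =
      a₀.1 * ((tv s u f hfu).1 * B * ((tv s u f hfu)⁻¹ : SpecialLinearGroup (Fin d) F).1) := by
    intro s
    simp only [c, _root_.mul_inv_rev, Matrix.SpecialLinearGroup.coe_mul, hB]
    simp only [Matrix.mul_assoc]
  have ht : ∀ s, (a₀ * (c s * b₀ * (c s)⁻¹)).1.trace = (a₀.1 * B).trace - s := by
    intro s
    rw [hcoe, htr]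
  by_contra hcon
  push_neg at hcon
  have hc : ∀ s, IsConj (π a₀ * π b₀) (π (a₀ * (c s * b₀ * (c s)⁻¹))) := by
    intro s
    have := hcon 1 (π (c s))
    simpa [map_mul, map_inv] using this
  have h01 : IsConj (π (a₀ * (c (a₀.1 * B).trace * b₀ * (c (a₀.1 * B).trace)⁻¹)))
      (π (a₀ * (c ((a₀.1 * B).trace - 1) * b₀ * (c ((a₀.1 * B).trace - 1))⁻¹))) :=
    (hc _).symm.trans (hc _)
  obtain ⟨k, hk⟩ := isConj_iff.mp h01
  obtain ⟨k₀, rfl⟩ := hπ k
  set X := a₀ * (c (a₀.1 * B).trace * b₀ * (c (a₀.1 * B).trace)⁻¹) with hX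
  set Y := a₀ * (c ((a₀.1 * B).trace - 1) * b₀ * (c ((a₀.1 * B).trace - 1))⁻¹) with hY
  have htX : X.1.trace = 0 := by rw [hX, ht, sub_self]
  have htY : Y.1.trace = 1 := by rw [hY, ht]; ring
  have hz : (k₀ * X * k₀⁻¹)⁻¹ * Y ∈ Subgroup.center (SpecialLinearGroup (Fin d) F) := by
    rw [← hker, map_mul, map_inv, map_mul, map_mul, map_inv, hk]
    simp
  obtain ⟨r, _, hr⟩ := Matrix.SpecialLinearGroup.mem_center_iff.mp hz
  have hY' : Y = (k₀ * X * k₀⁻¹) * ((k₀ * X * k₀⁻¹)⁻¹ * Y) := by group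
  have h1 : Y.1.trace = r * X.1.trace := by
    rw [hY', Matrix.SpecialLinearGroup.coe_mul, ← hr, Matrix.scalar_apply]
    have : ∀ M : Matrix (Fin d) (Fin d) F, M * Matrix.diagonal (fun _ => r) = r • M := by
      intro M
      ext i j
      simp [Matrix.mul_diagonal, mul_comm]
    rw [this, Matrix.trace_smul, smul_eq_mul]
    congr 1
    rw [Matrix.SpecialLinearGroup.coe_mul, Matrix.SpecialLinearGroup.coe_mul, Matrix.trace_mul_comm,
      ← Matrix.mul_assoc]
    have h2 : (k₀⁻¹ : SpecialLinearGroup (Fin d) F).1 * k₀.1 = 1 := congrArg Subtype.val (inv_mul_cancel k₀)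
    rw [h2, Matrix.one_mul]
  rw [htY, htX, mul_zero] at h1
  exact one_ne_zero h1

end Cfsg.Agent.H06.AH
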