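import Cfsg.Agent.Lib.H06.Brauer1
import Cfsg.Agent.Lib.H01.Coprime

/-!
# Brauer induction, second part: coset functions and the proof that `1` lies in `VZ G`.
-/

set_option autoImplicit false

namespace Cfsg.Agent.H06.Brauer

open Cfsg Cfsg.Agent.H21 Cfsg.Agent.H06

universe u

section Coset

variable {G : Type u} [Group G] [Fintype G]

open Classical in
/-- The function attached to a coset: `s ↦ |Q|⁻¹ #{g : g⁻¹ s g ∈ x Q}`. -/
noncomputable def cosetFun (x : G) (Q : Subgroup G) : G → ℂ := fun s =>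
  (Nat.card Q : ℂ)⁻¹ * ((Finset.univ.filter fun g : G => x⁻¹ * (g⁻¹ * s * g) ∈ Q).card : ℂ)

theorem cosetFun_mem (E Q : Subgroup G) (hQE : Q ≤ E) (hE : IsElemSub E)
    (hcomm : ∀ a ∈ E, ∀ b ∈ E, a * b * a⁻¹ * b⁻¹ ∈ Q) {x : G} (hx : x ∈ E) :
    cosetFun x Q ∈ VA G := by
  classical
  haveI : Fintype E := Fintype.ofFinite E
  let K : Subgroup E := Q.subgroupOf E
  have hKmem : ∀ a : E, a ∈ K ↔ (a : G) ∈ Q := fun a => Subgroup.mem_subgroupOf
  haveI hKn : K.Normal := by
    refine ⟨fun n hn g => ?_⟩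
    rw [hKmem] at hn ⊢
    have h1 := hcomm g g.2 n n.2
    have h2 := Q.mul_mem h1 hn
    simpa using h2
  let W := E ⧸ K
  have hW : ∀ a b : W, a * b = b * a := by
    intro a b
    obtain ⟨a, rfl⟩ := QuotientGroup.mk_surjective a
    obtain ⟨b, rfl⟩ := QuotientGroup.mk_surjective b
    rw [← QuotientGroup.mk_mul, ← QuotientGroup.mk_mul]
    apply QuotientGroup.eq.mpr
    rw [hKmem]
    have h1 := hcomm _ (b⁻¹).2 _ (a⁻¹).2
    simpa [mul_assoc] using h1
  haveI : Finite (W →* ℂˣ) := finite_dual' hW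
  haveI : Fintype (W →* ℂˣ) := Fintype.ofFinite _
  have hcard : Nat.card (W →* ℂˣ) = Nat.card W := by
    letI : CommGroup W := { (inferInstance : Group W) with mul_comm := hW }
    obtain ⟨e⟩ := CommGroup.monoidHom_mulEquiv_of_hasEnoughRootsOfUnity W ℂ
    exact Nat.card_congr e.toEquiv
  let xt : E := ⟨x, hx⟩
  let lam : (W →* ℂˣ) → E → ℂ := fun μ e => ((μ (QuotientGroup.mk e) : ℂˣ) : ℂ)
  let cc : (W →* ℂˣ) → ℂ := fun μ => ((μ (QuotientGroup.mk xt⁻¹) : ℂˣ) : ℂ)
  let ψ : E → ℂ := ∑ μ : W →* ℂˣ, cc μ • lam μ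
  have hψ : ∀ y : E, ψ y = if (x⁻¹ * (y : G) ∈ Q) then (Nat.card W : ℂ) else 0 := by
    intro y
    have h1 : ψ y = ∑ μ : W →* ℂˣ, ((μ (QuotientGroup.mk (xt⁻¹ * y)) : ℂˣ) : ℂ) := by
      simp only [ψ, Finset.sum_apply, Pi.smul_apply, smul_eq_mul, cc, lam]
      refine Finset.sum_congr rfl fun μ _ => ?_
      rw [QuotientGroup.mk_mul, map_mul]
      simp
    have h2 := sum_ann hW (⊥ : Subgroup W) (Finset.univ : Finset (W →* ℂˣ))
      (fun ω => by simp) (QuotientGroup.mk (xt⁻¹ * y))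
    rw [h1, h2]
    have h3 : (QuotientGroup.mk (xt⁻¹ * y) : W) ∈ (⊥ : Subgroup W) ↔ x⁻¹ * (y : G) ∈ Q := by
      rw [Subgroup.mem_bot, QuotientGroup.eq_one_iff, hKmem]
      simp [xt]
    have h4 : ((Finset.univ : Finset (W →* ℂˣ)).card : ℂ) = (Nat.card W : ℂ) := by
      rw [← hcard, Nat.card_eq_fintype_card, Finset.card_univ]
    simp only [h3, h4]
  have hext : ∀ w : G, extendByZero E ψ w =
      if (x⁻¹ * w ∈ Q) then (Nat.card W : ℂ) else 0 := by
    intro w
    by_cases hw : w ∈ E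
    · have h1 := extendByZero_coe E ψ ⟨w, hw⟩
      simp only at h1
      rw [h1, hψ]
    · rw [extendByZero_of_not_mem E _ hw, if_neg]
      intro h
      apply hw
      have := E.mul_mem hx (hQE h)
      simpa using this
  have hEcard : (Nat.card E : ℂ) = (Nat.card W : ℂ) * (Nat.card Q : ℂ) := by
    have h1 := Subgroup.index_mul_card K
    have h2 : Nat.card K = Nat.card Q := Nat.card_congr (Subgroup.subgroupOfEquivOfLe hQE).toEquiv
    rw [← h1, h2]
    push_cast
    rfl
  have hWne : (Nat.card W : ℂ) ≠ 0 := Nat.cast_ne_zero.mpr Nat.card_pos.ne'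
  have heq : cosetFun x Q = indFun E ψ := by
    funext s
    simp only [cosetFun, indFun, hext]
    rw [Finset.sum_ite]
    simp only [Finset.sum_const_zero, add_zero, Finset.sum_const, nsmul_eq_mul]
    rw [hEcard]
    field_simp
  rw [heq]
  have h5 : indFun E ψ = ∑ μ : W →* ℂˣ, cc μ • indFun E (lam μ) := by
    simp only [ψ]
    rw [indFun_sum]
    exact Finset.sum_congr rfl fun μ _ => indFun_smul E _ _
  rw [h5]
  refine VA_sum _ _ fun μ _ => ?_
  have hcc : cc μ ∈ AZ G := by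
    apply root_mem_AZ
    have h6 : (xt⁻¹) ^ (Nat.card G) = 1 := by
      apply Subtype.ext
      simp [pow_card_eq_one', xt]
    simp only [cc]
    rw [← Units.val_pow_eq_pow_val, ← map_pow, ← QuotientGroup.mk_pow, h6]
    simp
  have hlam : IsGeneralizedCharacter E (lam μ) := by
    refine gen_of_char (Cfsg.Agent.H10.isCharacter_of_mul _ (fun a b => ?_) ?_)
    · simp [lam, QuotientGroup.mk_mul, map_mul]
    · simp only [lam]
      rw [QuotientGroup.mk_one, map_one]
      simp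
  have := VA_of_VZ hcc (VZ_ind hE hlam)
  convert this using 1
  funext g
  simp

/-- Cyclic subgroups are elementary. -/
theorem elem_zpowers (x : G) : IsElemSub (Subgroup.zpowers x) := by
  obtain ⟨p, hp1, hp⟩ := Nat.exists_infinite_primes (orderOf x + 1)
  have hndvd : ¬ p ∣ orderOf x := fun h =>
    absurd (Nat.le_of_dvd (orderOf_pos x) h) (by omega)
  refine ⟨p, hp, ⟨x, Subgroup.mem_zpowers x⟩, ?_, ?_, 0, ?_⟩
  · rw [Subgroup.mem_center_iff]
    rintro ⟨g, i, rfl⟩
    apply Subtype.ext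
    have := ((Commute.refl x).zpow_left i).eq
    simpa using this
  · rw [Subgroup.orderOf_mk]
    exact ((Nat.Prime.coprime_iff_not_dvd hp).2 hndvd).symm
  · have : Subgroup.zpowers (⟨x, Subgroup.mem_zpowers x⟩ : Subgroup.zpowers x) = ⊤ := by
      rw [eq_top_iff]
      rintro ⟨g, i, rfl⟩ -
      exact ⟨i, Subtype.ext (by simp)⟩
    rw [this]
    simp

theorem cosetFun_bot_mem (x : G) : cosetFun x ⊥ ∈ VA G := by
  refine cosetFun_mem (Subgroup.zpowers x) ⊥ bot_le (elem_zpowers x) ?_ (Subgroup.mem_zpowers x)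
  rintro _ ⟨i, rfl⟩ _ ⟨j, rfl⟩
  have := ((Commute.refl x).zpow_zpow i j).eq
  simp only at this ⊢
  rw [this]
  simp

/-- Class functions with values in `|G| · ℤ[ζ]` lie in `VA`. -/
theorem class_mem {c : G → ℂ} (hc : IsClassFunction G c) (hA : ∀ x, c x ∈ AZ G) :
    (fun s => (Nat.card G : ℂ) * c s) ∈ VA G := by
  classical
  have h1 : (fun s => (Nat.card G : ℂ) * c s) =
      ∑ x : G, (fun s => c x * cosetFun x ⊥ s) := by
    funext s
    simp only [Finset.sum_apply, cosetFun]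
    have h2 : ∀ x : G, c x * ((Nat.card (⊥ : Subgroup G) : ℂ)⁻¹ *
        ((Finset.univ.filter fun g : G => x⁻¹ * (g⁻¹ * s * g) ∈ (⊥ : Subgroup G)).card : ℂ)) =
        ∑ g : G, if g⁻¹ * s * g = x then c x else 0 := by
      intro x
      rw [Subgroup.card_bot]
      simp only [Nat.cast_one, inv_one, one_mul]
      have h3 : ∀ g : G, x⁻¹ * (g⁻¹ * s * g) ∈ (⊥ : Subgroup G) ↔ g⁻¹ * s * g = x := by
        intro g
        rw [Subgroup.mem_bot, inv_mul_eq_one, eq_comm]
      simp only [h3]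
      rw [Finset.sum_ite]
      simp [mul_comm]
    simp only [h2]
    rw [Finset.sum_comm]
    have h4 : ∀ g : G, ∑ x : G, (if g⁻¹ * s * g = x then c x else 0) = c s := by
      intro g
      rw [Finset.sum_ite_eq]
      simp only [Finset.mem_univ, if_true]
      have := hc s g⁻¹
      simpa using this
    simp only [h4, Finset.sum_const, Finset.card_univ, nsmul_eq_mul, Nat.card_eq_fintype_card]
  rw [h1]
  refine VA_sum _ _ fun x _ => ?_
  exact VA_smul (hA x) (cosetFun_bot_mem x)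

end Coset

section Sylow

/-- Counting fixed cosets of a `p`-element. -/
theorem count_sylow {Z : Type u} [Group Z] [Finite Z] (p : ℕ) [Fact p.Prime] (P : Sylow p Z) (u : Z)
    (a : ℕ) (hu : u ^ (p ^ a) = 1) :
    ∃ n : ℕ, ¬ p ∣ n ∧ Nat.card {g : Z // g⁻¹ * u * g ∈ (P : Subgroup Z)} = n * Nat.card P := by
  classical
  let U : Subgroup Z := Subgroup.zpowers u
  have hU : IsPGroup p U := by
    rintro ⟨_, i, rfl⟩
    refine ⟨a, Subtype.ext ?_⟩
    simp only [SubmonoidClass.coe_pow, OneMemClass.coe_one]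
    rw [← zpow_natCast, ← zpow_mul, mul_comm, zpow_mul, zpow_natCast, hu, one_zpow]
  let t : Set (Z ⧸ (P : Subgroup Z)) := {q | u • q = q}
  have hfix : MulAction.fixedPoints U (Z ⧸ (P : Subgroup Z)) = t := by
    ext q
    constructor
    · intro h
      exact h ⟨u, Subgroup.mem_zpowers u⟩
    · intro (h : u • q = q)
      rintro ⟨_, i, rfl⟩
      have : u ∈ MulAction.stabilizer Z q := h
      have h2 : u ^ i ∈ MulAction.stabilizer Z q := Subgroup.zpow_mem _ this i
      exact h2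
  have hmod := IsPGroup.card_modEq_card_fixedPoints hU (Z ⧸ (P : Subgroup Z))
  rw [hfix] at hmod
  have hndvd : ¬ p ∣ Nat.card t := by
    intro h
    have h2 := (hmod.dvd_iff (dvd_refl p)).mpr h
    have h3 := P.not_dvd_index
    rw [Subgroup.index_eq_card] at h3
    exact h3 h2
  refine ⟨Nat.card t, hndvd, ?_⟩
  have hiff : ∀ g : Z, g⁻¹ * u * g ∈ (P : Subgroup Z) ↔
      g ∈ (QuotientGroup.mk ⁻¹' t : Set Z) := by
    intro g
    simp only [Set.mem_preimage, t, Set.mem_ofPred_eq]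
    rw [MulAction.Quotient.smul_mk, smul_eq_mul]
    constructor
    · intro h
      apply (QuotientGroup.eq).mpr
      have : (u * g)⁻¹ * g = (g⁻¹ * u * g)⁻¹ := by group
      rw [this]
      exact (P : Subgroup Z).inv_mem h
    · intro h
      have h1 := (QuotientGroup.eq).mp h
      have : (u * g)⁻¹ * g = (g⁻¹ * u * g)⁻¹ := by group
      rw [this] at h1
      simpa using (P : Subgroup Z).inv_mem h1
  have e1 : {g : Z // g⁻¹ * u * g ∈ (P : Subgroup Z)} ≃ (QuotientGroup.mk ⁻¹' t : Set Z) :=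
    Equiv.subtypeEquivRight hiff
  rw [Nat.card_congr e1, Nat.card_congr (QuotientGroup.preimageMkEquivSubgroupProdSet _ t),
    Nat.card_prod, mul_comm]

end Sylow

end Cfsg.Agent.H06.Brauer
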