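import Cfsg.Agent.Lib.H06.Brauer2

/-!
# Brauer induction, third part: `1 ∈ VZ G`.
-/

set_option autoImplicit false

namespace Cfsg.Agent.H06.Brauer

open Cfsg Cfsg.Agent.H21 Cfsg.Agent.H06

universe u

section Decomp

variable {G : Type u} [Group G] [Fintype G]

theorem exists_decomp (p : ℕ) (hp : p.Prime) : ∃ m a e : ℕ, Nat.card G = p ^ a * m ∧ ¬ p ∣ m ∧
    (∀ x : G, x ^ m = 1 → x ^ e = x) ∧ (∀ u : G, u ^ (p ^ a) = 1 → u ^ e = 1) ∧
    (∀ y : G, (y ^ e) ^ m = 1) ∧ (∀ y : G, ((y ^ e)⁻¹ * y) ^ (p ^ a) = 1) := by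
  have hG : Nat.card G ≠ 0 := Nat.card_pos.ne'
  set a := (Nat.card G).factorization p with ha
  set m := Nat.card G / p ^ a with hm
  have hcard : Nat.card G = p ^ a * m := (Nat.ordProj_mul_ordCompl_eq_self _ p).symm
  have hndvd : ¬ p ∣ m := Nat.not_dvd_ordCompl hp hG
  have hcop : (p ^ a).Coprime m := Nat.Coprime.pow_left a ((Nat.Prime.coprime_iff_not_dvd hp).2 hndvd)
  obtain ⟨e, he0, he1⟩ := Nat.chineseRemainder hcop 0 1
  refine ⟨m, a, e, hcard, hndvd, ?_, ?_, ?_, ?_⟩
  · intro x hx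
    have h1 := pow_eq_pow_mod e hx
    rw [h1, he1, ← pow_eq_pow_mod 1 hx, pow_one]
  · intro u hu
    have h1 := pow_eq_pow_mod e hu
    rw [h1, he0, ← pow_eq_pow_mod 0 hu, pow_zero]
  · intro y
    have h1 : p ^ a ∣ e := (Nat.modEq_zero_iff_dvd).mp he0
    obtain ⟨f, rfl⟩ := h1
    have h2 : (y ^ (p ^ a * f)) ^ m = (y ^ (p ^ a * m)) ^ f := by
      rw [← pow_mul, ← pow_mul]
      congr 1
      ring
    rw [h2, ← hcard, pow_card_eq_one', one_pow]
  · intro y
    have hc : Commute ((y ^ e)⁻¹) y := ((Commute.refl y).pow_left e).inv_left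
    rw [hc.mul_pow, inv_pow, ← pow_mul]
    have h1 : (e * p ^ a) ≡ (1 * p ^ a) [MOD (m * p ^ a)] := Nat.ModEq.mul_right' _ he1
    have h2 : y ^ (m * p ^ a) = 1 := by
      rw [mul_comm, ← hcard, pow_card_eq_one']
    have h3 : y ^ (e * p ^ a) = y ^ (p ^ a) := by
      rw [pow_eq_pow_mod _ h2, h1, ← pow_eq_pow_mod _ h2, one_mul]
    rw [h3]
    simp

theorem conj_pow' (g s : G) (e : ℕ) : (g⁻¹ * s * g) ^ e = g⁻¹ * s ^ e * g := by
  have := conj_pow (a := g⁻¹) (b := s) (i := e)
  simpa using this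

/-- Commutators of products of commuting factors. -/
theorem comm_mul_mul {A B a b : G} (h1 : Commute A a) (h2 : Commute A b) (h3 : Commute B a)
    (h4 : Commute B b) (h5 : Commute A B) :
    (A * a) * (B * b) * (A * a)⁻¹ * (B * b)⁻¹ = a * b * a⁻¹ * b⁻¹ := by
  have e1 : A * a * (B * b) = (A * B) * (a * b) := by
    calc A * a * (B * b) = A * (a * B) * b := by group
      _ = A * (B * a) * b := by rw [h3.eq.symm]
      _ = (A * B) * (a * b) := by group
  have e2 : B * b * (A * a) = (A * B) * (b * a) := by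
    calc B * b * (A * a) = B * (b * A) * a := by group
      _ = B * (A * b) * a := by rw [h2.eq.symm]
      _ = (B * A) * (b * a) := by group
      _ = (A * B) * (b * a) := by rw [h5.eq.symm]
  have e3 : (A * a) * (B * b) * (A * a)⁻¹ * (B * b)⁻¹ =
      ((A * a) * (B * b)) * ((B * b) * (A * a))⁻¹ := by group
  rw [e3, e1, e2]
  have hc : Commute (A * B) (a * b * (b * a)⁻¹) := by
    apply Commute.mul_right
    · exact (h1.mul_left h3).mul_right (h2.mul_left h4)
    · exact ((h2.mul_left h4).mul_right (h1.mul_left h3)).inv_right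
  have e4 : A * B * (a * b) * (A * B * (b * a))⁻¹ = (A * B) * (a * b * (b * a)⁻¹) * (A * B)⁻¹ := by
    group
  rw [e4, hc.eq]
  group

/-- The local function. -/
theorem local_fun (p : ℕ) (hp : p.Prime) {m a e : ℕ} (hcard : Nat.card G = p ^ a * m) (hm : ¬ p ∣ m)
    (he1 : ∀ x : G, x ^ m = 1 → x ^ e = x) (he2 : ∀ u : G, u ^ (p ^ a) = 1 → u ^ e = 1)
    (he4 : ∀ y : G, ((y ^ e)⁻¹ * y) ^ (p ^ a) = 1)
    (x : G) (hx : x ^ m = 1) :
    ∃ T ∈ VA G, (∀ s, (∀ g : G, g⁻¹ * s ^ e * g ≠ x) → T s = 0) ∧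
      (∀ s, s ^ e = x → ∃ n : ℕ, T s = n ∧ ¬ p ∣ n) := by
  classical
  haveI : Fact p.Prime := ⟨hp⟩
  let Z : Subgroup G := Subgroup.centralizer ({x} : Set G)
  have hZ : ∀ g ∈ Z, x * g = g * x := by
    intro g hg
    exact Subgroup.mem_centralizer_iff.mp hg x rfl
  have hZ' : ∀ g, x * g = g * x → g ∈ Z := by
    intro g hg
    refine Subgroup.mem_centralizer_iff.mpr ?_
    rintro _ rfl
    exact hg
  let P₀ : Sylow p Z := default
  let P : Subgroup G := (P₀ : Subgroup Z).map Z.subtype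
  have hPZ : P ≤ Z := by
    rintro _ ⟨u, -, rfl⟩
    exact u.2
  have hPp : IsPGroup p P := P₀.isPGroup'.map _
  have hPcard : Nat.card P = Nat.card P₀ :=
    Nat.card_congr (Subgroup.equivMapOfInjective _ _ Subtype.val_injective).symm.toEquiv
  obtain ⟨k, hk⟩ := IsPGroup.iff_card.mp hPp
  have hordm : orderOf x ∣ m := orderOf_dvd_of_pow_eq_one hx
  have hordp : ¬ p ∣ orderOf x := fun h => hm (h.trans hordm)
  have hPe : ∀ u ∈ P, u ^ (p ^ a) = 1 := by
    intro u hu
    have h1 : Nat.card P ∣ Nat.card G := Subgroup.card_subgroup_dvd_card P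
    rw [hk, hcard] at h1
    have h2 : (p ^ k).Coprime m := Nat.Coprime.pow_left k ((Nat.Prime.coprime_iff_not_dvd hp).2 hm)
    have h3 : p ^ k ∣ p ^ a := h2.dvd_of_dvd_mul_right h1
    obtain ⟨c, hc⟩ := h3
    have h4 : (⟨u, hu⟩ : P) ^ Nat.card P = 1 := pow_card_eq_one'
    have h5 : u ^ Nat.card P = 1 := by
      have h6 := congrArg Subtype.val h4
      rw [SubmonoidClass.coe_pow] at h6
      exact h6
    rw [hc, pow_mul, ← hk, h5, one_pow]
  -- the key identity for conjugates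
  have hkey : ∀ s g : G, x⁻¹ * (g⁻¹ * s * g) ∈ P → g⁻¹ * s ^ e * g = x := by
    intro s g hw
    have h1 : g⁻¹ * s * g = x * (x⁻¹ * (g⁻¹ * s * g)) := by group
    set w := x⁻¹ * (g⁻¹ * s * g) with hw'
    have hcw : Commute x w := hZ w (hPZ hw)
    rw [← conj_pow', h1, hcw.mul_pow, he1 x hx, he2 w (hPe w hw), mul_one]
  have hxzp : ∀ n ∈ Subgroup.zpowers x, ∀ g ∈ Z, Commute n g := by
    rintro _ ⟨i, rfl⟩ g hg
    exact (show Commute x g from hZ g hg).zpow_left i
  let E : Subgroup G := Subgroup.zpowers x ⊔ P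
  have hEZ : E ≤ Z := by
    refine sup_le ?_ hPZ
    rintro _ ⟨i, rfl⟩
    apply hZ'
    exact ((Commute.refl x).zpow_right i).eq
  have hxE : x ∈ E := (le_sup_left : Subgroup.zpowers x ≤ E) (Subgroup.mem_zpowers x)
  have hnorm : P ≤ Subgroup.normalizer (Subgroup.zpowers x : Set G) := by
    intro u hu
    refine Subgroup.mem_normalizer_iff.mpr fun h => ?_
    have hcomm : ∀ v ∈ P, ∀ n ∈ Subgroup.zpowers x, v * n * v⁻¹ = n := by
      intro v hv n hn
      have := (hxzp n hn v (hPZ hv)).eq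
      rw [← this]
      simp
    constructor
    · intro hh
      rw [hcomm u hu h hh]
      exact hh
    · intro hh
      have h3 := hcomm u⁻¹ (P.inv_mem hu) _ hh
      have h4 : u⁻¹ * (u * h * u⁻¹) * u⁻¹⁻¹ = h := by group
      rw [h4] at h3
      rw [h3]
      exact hh
  have hcop : (Nat.card (Subgroup.zpowers x)).Coprime (Nat.card P) := by
    rw [Nat.card_zpowers, hk]
    exact Nat.Coprime.pow_right k (((Nat.Prime.coprime_iff_not_dvd hp).2 hordp).symm)
  have hEcard : Nat.card (Subgroup.zpowers x) * Nat.card P = Nat.card E :=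
    Cfsg.Agent.H01.card_sup_of_le_normalizer hnorm hcop
  have hEelem : IsElemSub E := by
    refine ⟨p, hp, ⟨x, hxE⟩, ?_, ?_, k, ?_⟩
    · rw [Subgroup.mem_center_iff]
      rintro ⟨g, hg⟩
      apply Subtype.ext
      exact (hZ g (hEZ hg)).symm
    · rw [Subgroup.orderOf_mk]
      exact ((Nat.Prime.coprime_iff_not_dvd hp).2 hordp).symm
    · have h1 := Subgroup.index_mul_card (Subgroup.zpowers (⟨x, hxE⟩ : E))
      rw [Nat.card_zpowers, Subgroup.orderOf_mk, ← hEcard, Nat.card_zpowers, mul_comm] at h1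
      rw [← hk]
      exact Nat.eq_of_mul_eq_mul_left (orderOf_pos x) h1
  have hcomm : ∀ c ∈ E, ∀ d ∈ E, c * d * c⁻¹ * d⁻¹ ∈ P := by
    intro c hc d hd
    obtain ⟨A, hA, u, hu, rfl⟩ := Cfsg.Agent.H01.exists_mul_of_mem_sup hnorm hc
    obtain ⟨B, hB, v, hv, rfl⟩ := Cfsg.Agent.H01.exists_mul_of_mem_sup hnorm hd
    have hAZ := hxzp A hA
    have hBZ := hxzp B hB
    rw [comm_mul_mul (hAZ u (hPZ hu)) (hAZ v (hPZ hv)) (hBZ u (hPZ hu)) (hBZ v (hPZ hv))
      (hAZ B (hEZ ((le_sup_left : Subgroup.zpowers x ≤ E) hB)))]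
    exact P.mul_mem (P.mul_mem (P.mul_mem hu hv) (P.inv_mem hu)) (P.inv_mem hv)
  refine ⟨cosetFun x P, cosetFun_mem E P le_sup_right hEelem hcomm hxE, ?_, ?_⟩
  · intro s hs
    simp only [cosetFun]
    rw [Finset.filter_false_of_mem]
    · simp
    · intro g _ hg
      exact hs g (hkey s g hg)
  · intro s hsx
    -- the `p`-part
    set u := x⁻¹ * s with hu
    have hu1 : u ^ (p ^ a) = 1 := by
      have := he4 s
      rw [hsx] at this
      exact this
    have hxs : Commute x s := by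
      rw [← hsx]
      exact (Commute.refl s).pow_left e
    have hcu : Commute x u := ((Commute.refl x).inv_right).mul_right hxs
    have huZ : u ∈ Z := hZ' u hcu.eq
    let ut : Z := ⟨u, huZ⟩
    have hut : ut ^ (p ^ a) = 1 := Subtype.ext hu1
    obtain ⟨n, hn, hcount⟩ := count_sylow p P₀ ut a hut
    refine ⟨n, ?_, hn⟩
    have hfil : ∀ g : G, x⁻¹ * (g⁻¹ * s * g) ∈ P ↔
        ∃ hg : g ∈ Z, (⟨g, hg⟩ : Z)⁻¹ * ut * ⟨g, hg⟩ ∈ (P₀ : Subgroup Z) := by
      intro g
      have hs : s = x * u := by simp [hu]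
      constructor
      · intro h
        have h1 := hkey s g h
        rw [hsx] at h1
        have hgZ : x * g = g * x := by
          have h2 : g * (g⁻¹ * x * g) = g * x := by rw [h1]
          simpa [mul_assoc] using h2
        refine ⟨hZ' g hgZ, ?_⟩
        have h3 : (g⁻¹ * u * g) = x⁻¹ * (g⁻¹ * s * g) := by
          rw [hs]
          have h4 : g⁻¹ * (x * u) * g = (g⁻¹ * x * g) * (g⁻¹ * u * g) := by group
          rw [h4, h1]
          group
        have h5 : Z.subtype ((⟨g, hZ' g hgZ⟩ : Z)⁻¹ * ut * ⟨g, hZ' g hgZ⟩) ∈ P := by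
          show g⁻¹ * u * g ∈ P
          rw [h3]
          exact h
        exact (Subgroup.mem_map_iff_mem Subtype.val_injective).mp h5
      · rintro ⟨hg, h⟩
        have h5 : Z.subtype ((⟨g, hg⟩ : Z)⁻¹ * ut * ⟨g, hg⟩) ∈ P :=
          Subgroup.mem_map_of_mem _ h
        have h6 : g⁻¹ * u * g ∈ P := h5
        have hgZ : x * g = g * x := hZ g hg
        have h7 : g⁻¹ * x * g = x := by
          rw [mul_assoc, hgZ]
          group
        have h3 : x⁻¹ * (g⁻¹ * s * g) = (g⁻¹ * u * g) := by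
          rw [hs]
          have h4 : g⁻¹ * (x * u) * g = (g⁻¹ * x * g) * (g⁻¹ * u * g) := by group
          rw [h4, h7]
          group
        rw [h3]
        exact h6
    let ε : {g : G // x⁻¹ * (g⁻¹ * s * g) ∈ P} ≃
        {g : Z // g⁻¹ * ut * g ∈ (P₀ : Subgroup Z)} :=
      { toFun := fun g => ⟨⟨g.1, ((hfil g.1).1 g.2).1⟩, ((hfil g.1).1 g.2).2⟩
        invFun := fun g => ⟨g.1.1, (hfil g.1.1).2 ⟨g.1.2, g.2⟩⟩
        left_inv := fun g => rfl
        right_inv := fun g => rfl }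
    have hc2 : (Finset.univ.filter fun g : G => x⁻¹ * (g⁻¹ * s * g) ∈ P).card = n * Nat.card P := by
      rw [← Fintype.card_subtype, ← Nat.card_eq_fintype_card, Nat.card_congr ε, hcount, hPcard]
    simp only [cosetFun]
    rw [hc2]
    have hPne : (Nat.card P : ℂ) ≠ 0 := Nat.cast_ne_zero.mpr Nat.card_pos.ne'
    push_cast
    field_simp

/-- For every prime there is an integer prime to `p` in `VA`. -/
theorem exists_prime_to_mem (p : ℕ) (hp : p.Prime) :
    ∃ m : ℕ, ¬ p ∣ m ∧ (fun _ : G => (m : ℂ)) ∈ VA G := by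
  classical
  obtain ⟨m, a, e, hcard, hm, he1, he2, he3, he4⟩ := exists_decomp (G := G) p hp
  have hl := fun (x : G) (hx : x ^ m = 1) => local_fun p hp hcard hm he1 he2 he4 x hx
  choose T hT h0 h1 using hl
  haveI : Fintype (ConjClasses G) := Fintype.ofFinite _
  let F : G → ℂ := ∑ c : ConjClasses G,
    if h : (Quotient.out c) ^ m = 1 then T _ h else 0
  have hFmem : F ∈ VA G := by
    refine VA_sum _ _ fun c _ => ?_
    split_ifs with h
    · exact hT _ h
    · exact (VA G).zero_mem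
  have hFcl := VA_class hFmem
  have hFval : ∀ s, ∃ n : ℕ, F s = n ∧ ¬ p ∣ n := by
    intro s
    let c₀ : ConjClasses G := ConjClasses.mk (s ^ e)
    let x₀ : G := Quotient.out c₀
    have hc₀ : ConjClasses.mk x₀ = c₀ := Quotient.out_eq c₀
    have hconj : IsConj (s ^ e) x₀ := ConjClasses.mk_eq_mk_iff_isConj.mp hc₀.symm
    obtain ⟨g, hg⟩ := isConj_iff.mp hconj
    have hg' : g * s ^ e * g⁻¹ = x₀ := hg
    have hx₀ : x₀ ^ m = 1 := by
      rw [← hg', conj_pow, he3 s]
      simp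
    have hother : ∀ c : ConjClasses G, c ≠ c₀ →
        (if h : (Quotient.out c) ^ m = 1 then T _ h else 0) s = 0 := by
      intro c hc
      split_ifs with h
      · apply h0
        intro k hk
        apply hc
        have h2 : IsConj (s ^ e) (Quotient.out c) := by
          rw [isConj_iff]
          refine ⟨k⁻¹, ?_⟩
          rw [← hk]
          simp
        have h3 : ConjClasses.mk (Quotient.out c) = c := Quotient.out_eq c
        rw [← h3]
        exact (ConjClasses.mk_eq_mk_iff_isConj.mpr h2).symm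
      · rfl
    have hF : F s = T x₀ hx₀ s := by
      simp only [F, Finset.sum_apply]
      rw [Finset.sum_eq_single c₀ (fun c _ hc => hother c hc) (by simp)]
      rw [dif_pos hx₀]
    have hs' : (g * s * g⁻¹) ^ e = x₀ := by
      rw [conj_pow, hg']
    obtain ⟨n, hn1, hn2⟩ := h1 x₀ hx₀ _ hs'
    refine ⟨n, ?_, hn2⟩
    rw [hF, ← hn1]
    exact (VA_class (hT x₀ hx₀) s g).symm
  refine ⟨m, hm, ?_⟩
  set M := (p ^ a).totient with hM
  have hMpos : M ≠ 0 := (Nat.totient_pos.mpr (pow_pos hp.pos a)).ne'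
  have hf : F ^ M ∈ VA G := VA_pow hFmem hMpos
  let c : G → ℂ := fun s => (F s ^ M - 1) / ((p ^ a : ℕ) : ℂ)
  have hcl : IsClassFunction G c := by
    intro g h
    simp only [c]
    rw [hFcl g h]
  have hpne : ((p ^ a : ℕ) : ℂ) ≠ 0 := Nat.cast_ne_zero.mpr (pow_pos hp.pos a).ne'
  have hcA : ∀ s, c s ∈ AZ G := by
    intro s
    obtain ⟨n, hn, hn2⟩ := hFval s
    have h1 : n.Coprime (p ^ a) :=
      Nat.Coprime.pow_right a (((Nat.Prime.coprime_iff_not_dvd hp).2 hn2).symm)
    have h2 : n ^ M ≡ 1 [MOD p ^ a] := Nat.ModEq.pow_totient h1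
    have h3 : ((p ^ a : ℕ) : ℤ) ∣ ((n ^ M : ℕ) : ℤ) - ((1 : ℕ) : ℤ) := (Nat.modEq_iff_dvd.mp h2.symm)
    obtain ⟨k, hk⟩ := h3
    have h4 : c s = (k : ℂ) := by
      simp only [c]
      rw [hn, div_eq_iff hpne]
      have h5 : (((n ^ M : ℕ) : ℤ) - ((1 : ℕ) : ℤ) : ℂ) = (((p ^ a : ℕ) : ℤ) * k : ℂ) := by
        exact_mod_cast hk
      push_cast at h5 ⊢
      rw [h5]
      ring
    rw [h4]
    exact int_mem_AZ k
  have hmA : (m : ℂ) ∈ AZ G := by
    have := int_mem_AZ (G := G) (m : ℤ)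
    simpa using this
  have hsub := (VA G).sub_mem (VA_smul hmA hf) (class_mem hcl hcA)
  convert hsub using 1
  funext s
  simp only [Pi.sub_apply, Pi.pow_apply, c]
  rw [hcard]
  push_cast at hpne ⊢
  field_simp
  ring

/-- **`1` lies in the scalar extension.** -/
theorem one_mem_VA : (fun _ : G => (1 : ℂ)) ∈ VA G := by
  let I : AddSubgroup ℤ :=
    { carrier := {n | (fun _ : G => (n : ℂ)) ∈ VA G}
      zero_mem' := by
        have h0 : (fun _ : G => (((0 : ℤ) : ℂ))) = 0 := by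
          funext g
          simp
        show (fun _ : G => (((0 : ℤ) : ℂ))) ∈ VA G
        rw [h0]
        exact (VA G).zero_mem
      add_mem' := by
        intro a b ha hb
        have := (VA G).add_mem ha hb
        simp only [Set.mem_ofPred_eq] at *
        convert this using 1
        funext g
        simp
      neg_mem' := by
        intro a ha
        have := (VA G).neg_mem ha
        simp only [Set.mem_ofPred_eq] at *
        convert this using 1
        funext g
        simp }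
  have hI : ∀ n : ℤ, n ∈ I ↔ (fun _ : G => (n : ℂ)) ∈ VA G := fun n => Iff.rfl
  obtain ⟨a, ha⟩ := Int.subgroup_cyclic I
  have hamem : a ∈ I := by
    rw [ha]
    exact AddSubgroup.subset_closure rfl
  have hunit : a.natAbs = 1 := by
    by_contra hne
    obtain ⟨q, hq, hqa⟩ := Nat.exists_prime_and_dvd hne
    obtain ⟨m, hm, hmem⟩ := exists_prime_to_mem (G := G) q hq
    have h1 : (m : ℤ) ∈ I := by
      rw [hI]
      simpa using hmem
    rw [ha, AddSubgroup.mem_closure_singleton] at h1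
    obtain ⟨k, hk⟩ := h1
    apply hm
    have h2 : (q : ℤ) ∣ a := Int.natCast_dvd.mpr hqa
    have h3 : (q : ℤ) ∣ (m : ℤ) := by
      rw [← hk, smul_eq_mul]
      exact Dvd.dvd.mul_left h2 k
    exact_mod_cast h3
  have h1mem : (1 : ℤ) ∈ I := by
    rcases Int.natAbs_eq a with h | h
    · rw [hunit] at h
      rw [h] at hamem
      exact hamem
    · rw [hunit] at h
      rw [h] at hamem
      simpa using I.neg_mem hamem
  rw [hI] at h1mem
  simpa using h1mem

/-- **`1` lies in `VZ G`** (the heart of Brauer's induction theorem). -/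
theorem one_mem_VZ : (fun _ : G => (1 : ℂ)) ∈ VZ G :=
  one_mem_VZ_of_VA one_mem_VA

/-- **Brauer's characterization of characters.** -/
theorem gen_of_elementary {θ : G → ℂ} (hθ : IsClassFunction G θ)
    (hE : ∀ (E : Subgroup G) (p : ℕ), p.Prime → IsElementary p E →
      IsGeneralizedCharacter E (fun e : E => θ e)) :
    IsGeneralizedCharacter G θ :=
  gen_of_restrict one_mem_VZ hθ fun E ⟨p, hp, h⟩ => hE E p hp h

end Decomp

end Cfsg.Agent.H06.Brauer
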