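import Cfsg.Agent.Lib.H06.Brauer3
import Cfsg.Agent.Lib.H06.CharClifford2
import Cfsg.Agent.Lib.H06.Nilp

/-!
# Nilpotent groups are monomial.
-/

set_option autoImplicit false

namespace Cfsg.Agent.H06.Brauer

open Cfsg Cfsg.Agent.H21 Cfsg.Agent.H06
open scoped ComplexConjugate

universe u

section Cliff

variable {N : Type u} [Group N] [Fintype N]

/-- Existence part of the Clifford correspondence. -/
theorem exists_clifford_ind (H T : Subgroup N) [hN : H.Normal] [Fintype H] [Fintype T] (hHT : H ≤ T)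
    {θ : H → ℂ} (hθ : IsIrrCharacter H θ)
    (hT : ∀ g : N, g ∈ T ↔ ∀ h : H, θ ⟨g * h * g⁻¹, hN.conj_mem h h.2 g⟩ = θ h)
    {χ : N → ℂ} (hχ : IsIrrCharacter N χ) (hc : classInner (fun h : H => χ h) θ ≠ 0) :
    ∃ ψ : T → ℂ, IsIrrCharacter T ψ ∧ χ = indFun T ψ := by
  classical
  haveI : Fintype (H.subgroupOf T) := Fintype.ofFinite _
  haveI : Fintype (IrrCharacter T) := Fintype.ofFinite _
  haveI : Fintype (IrrCharacter N) := Fintype.ofFinite _
  have hχc := isCharacter_of_irr hχ
  have hχT : IsCharacter T (fun t : T => χ t) := isCharacter_restrict T hχc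
  have hclT := isClassFunction_of_isCharacter hχT
  set θ' : H.subgroupOf T → ℂ := subTheta H T θ with hθ'
  have hcard : Nat.card (H.subgroupOf T) = Nat.card H :=
    Nat.card_congr (Subgroup.subgroupOfEquivOfLe hHT).toEquiv
  have h1 : classInner (fun h : H.subgroupOf T => χ ((h : T) : N)) θ' =
      classInner (fun h : H => χ h) θ := by
    simp only [classInner]
    rw [hcard]
    congr 1
    refine Fintype.sum_equiv (Subgroup.subgroupOfEquivOfLe hHT).toEquiv _ _ fun h => ?_
    rfl
  have h2 : classInner (indFun (H.subgroupOf T) θ') (fun t : T => χ t) ≠ 0 := by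
    rw [frobenius_reciprocity (H.subgroupOf T) θ' _ hclT]
    intro h3
    apply hc
    rw [← h1, ← classInner_comm_conj, h3, map_zero]
  have hind := isCharacter_indFun (H.subgroupOf T) (isCharacter_of_irr (subTheta_irr H T hHT hθ))
  rw [classInner_parseval (isClassFunction_of_isCharacter hind) hclT] at h2
  obtain ⟨ψ, -, hψ⟩ := Finset.exists_ne_zero_of_sum_ne_zero h2
  have hψ1 := left_ne_zero_of_mul hψ
  have hψ2 : classInner (fun t : T => χ t) (ψ : T → ℂ) ≠ 0 := by
    intro h
    apply right_ne_zero_of_mul hψ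
    rw [h, map_zero]
  obtain ⟨hirr, -⟩ := clifford_correspondence H T hHT hθ hT ψ.2 ψ.2 hψ1 hψ1
  refine ⟨ψ, ψ.2, ?_⟩
  have h3 : classInner (indFun T (ψ : T → ℂ)) χ ≠ 0 := by
    rw [frobenius_reciprocity T _ _ (isClassFunction_of_isCharacter hχc)]
    intro h
    apply hψ2
    rw [← classInner_comm_conj, h, map_zero]
  by_contra hne
  exact h3 (classInner_irr_ne hirr hχ (fun h => hne h.symm))

theorem indFun_top (θ : (⊤ : Subgroup N) → ℂ) {f : N → ℂ} (hf : IsClassFunction N f)
    (hθ : ∀ x : (⊤ : Subgroup N), θ x = f x) : indFun (⊤ : Subgroup N) θ = f := by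
  funext g
  simp only [indFun]
  have h1 : ∀ x : N, extendByZero (⊤ : Subgroup N) θ (x⁻¹ * g * x) = f g := by
    intro x
    have h2 := extendByZero_coe (⊤ : Subgroup N) θ ⟨x⁻¹ * g * x, Subgroup.mem_top _⟩
    simp only at h2
    rw [h2, hθ]
    have := hf g x⁻¹
    simpa using this
  simp only [h1, Finset.sum_const, Finset.card_univ, nsmul_eq_mul]
  rw [Subgroup.card_top, Nat.card_eq_fintype_card]
  have : (Fintype.card N : ℂ) ≠ 0 := by
    rw [← Nat.card_eq_fintype_card]
    exact Nat.cast_ne_zero.mpr Nat.card_pos.ne'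
  field_simp

theorem indFun_congr {S S' : Subgroup N} (he : S' = S) (θ : S → ℂ) (θ' : S' → ℂ)
    (hθ' : ∀ x : S', θ' x = θ ⟨x, he ▸ x.2⟩) : indFun S' θ' = indFun S θ := by
  subst he
  have : θ' = θ := funext hθ'
  rw [this]

/-- A linear character, as a homomorphism. -/
theorem exists_hom_of_linear {χ : N → ℂ} (hχ : IsCharacter N χ) (h1 : charDegree χ = 1) :
    ∃ l : N →* ℂˣ, ∀ g, ((l g : ℂˣ) : ℂ) = χ g := by
  let f : N →* ℂ :=
    { toFun := χ
      map_one' := linear_one hχ h1
      map_mul' := linear_mul hχ h1 }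
  exact ⟨f.toHomUnits, fun g => MonoidHom.coe_toHomUnits f g⟩

end Cliff

/-- The monomiality predicate. -/
def IsMonomialChar (N : Type u) [Group N] [Fintype N] (χ : N → ℂ) : Prop :=
  ∃ (T : Subgroup N) (l : T →* ℂˣ), χ = indFun T (fun t => ((l t : ℂˣ) : ℂ))

section Quot

variable {N : Type u} [Group N] [Fintype N]

open Classical in
/-- Monomial characters of a quotient inflate to monomial characters. -/
theorem monomial_of_quotient (K : Subgroup N) [K.Normal] {χ : N → ℂ} {χ' : N ⧸ K → ℂ}
    [Fintype (N ⧸ K)] (hχ' : χ' ∘ QuotientGroup.mk' K = χ) (h : IsMonomialChar (N ⧸ K) χ') :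
    IsMonomialChar N χ := by
  obtain ⟨T', l', rfl⟩ := h
  let T : Subgroup N := T'.comap (QuotientGroup.mk' K)
  have hKT : K ≤ T := by
    intro k hk
    show ((k : N) : N ⧸ K) ∈ T'
    rw [(QuotientGroup.eq_one_iff k).mpr hk]
    exact T'.one_mem
  have he : T.map (QuotientGroup.mk' K) = T' :=
    Subgroup.map_comap_eq_self_of_surjective (QuotientGroup.mk'_surjective K) T'
  refine ⟨T, l'.comp ((QuotientGroup.mk' K).subgroupComap T'), ?_⟩
  haveI : Fintype ↥(T.map (QuotientGroup.mk' K)) := Fintype.ofFinite _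
  funext g
  rw [← hχ']
  have h1 := indFun_quotient K T hKT (fun t => (((l'.comp ((QuotientGroup.mk' K).subgroupComap T')) t : ℂˣ) : ℂ))
    (fun x => ((l' ⟨x, he ▸ x.2⟩ : ℂˣ) : ℂ)) (fun x => rfl) g
  rw [← h1]
  have h2 := indFun_congr he (fun t => ((l' t : ℂˣ) : ℂ))
    (fun x => ((l' ⟨x, he ▸ x.2⟩ : ℂˣ) : ℂ)) (fun x => rfl)
  rw [h2]
  rfl

end Quot

section Trans

variable {N : Type u} [Group N] [Fintype N]

/-- Monomial characters of a subgroup induce to monomial characters. -/
theorem monomial_of_subgroup' (T : Subgroup N) [Fintype T] {ψ : T → ℂ} (h : IsMonomialChar T ψ) :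
    ∃ (S : Subgroup N) (_ : S ≤ T) (l : S →* ℂˣ), indFun T ψ = indFun S (fun t => ((l t : ℂˣ) : ℂ)) := by
  obtain ⟨T₁, l, rfl⟩ := h
  let S : Subgroup N := T₁.map T.subtype
  have hST : S ≤ T := Subgroup.map_subtype_le T₁
  have he : S.subgroupOf T = T₁ :=
    Subgroup.comap_map_eq_self_of_injective T.subtype_injective T₁
  let e : S.subgroupOf T ≃* S := Subgroup.subgroupOfEquivOfLe hST
  have hmem : ∀ x : S.subgroupOf T, (x : T) ∈ T₁ := fun x => he ▸ x.2
  let j : S →* T₁ :=
    { toFun := fun x => ⟨(e.symm x : T), hmem _⟩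
      map_one' := by
        apply Subtype.ext
        simp
      map_mul' := fun a b => by
        apply Subtype.ext
        simp }
  refine ⟨S, hST, l.comp j, ?_⟩
  have h1 := indFun_trans S T hST (fun s => (((l.comp j) s : ℂˣ) : ℂ))
  rw [← h1]
  congr 1
  symm
  refine indFun_congr he _ _ fun x => ?_
  show ((l (j ⟨(x : T), Subgroup.mem_subgroupOf.mp x.2⟩) : ℂˣ) : ℂ) = _
  congr 2

/-- Monomial characters of a subgroup induce to monomial characters. -/
theorem monomial_of_subgroup (T : Subgroup N) [Fintype T] {ψ : T → ℂ} (h : IsMonomialChar T ψ) :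
    IsMonomialChar N (indFun T ψ) := by
  obtain ⟨S, -, l, hl⟩ := monomial_of_subgroup' T h
  exact ⟨S, l, hl⟩

end Trans

section Step

variable {N : Type u} [Group N] [Fintype N]

/-- A faithful irreducible character of a nonabelian nilpotent group is induced from a proper
subgroup. -/
theorem exists_proper_ind [Group.IsNilpotent N] (hab : ¬ ∀ a b : N, a * b = b * a) {χ : N → ℂ}
    (hχ : IsIrrCharacter N χ) (hker : ∀ g, χ g = χ 1 → g = 1) :
    ∃ T : Subgroup N, T ≠ ⊤ ∧ ∃ _ : Fintype T, ∃ ψ : T → ℂ, IsIrrCharacter T ψ ∧ χ = indFun T ψ := by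
  classical
  haveI : Fintype (IrrCharacter N) := Fintype.ofFinite _
  have hχc := isCharacter_of_irr hχ
  have hcl := isClassFunction_of_isCharacter hχc
  set Z : Subgroup N := Subgroup.center N with hZ
  have hZtop : Z ≠ ⊤ := by
    intro h
    apply hab
    intro a b
    have h1 : a ∈ Z := by rw [h]; exact Subgroup.mem_top a
    exact ((Subgroup.mem_center_iff.mp h1) b).symm
  haveI : Group.IsNilpotent (N ⧸ Z) := inferInstance
  have hQne : (⊤ : Subgroup (N ⧸ Z)) ≠ ⊥ := by
    intro h
    apply hZtop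
    rw [eq_top_iff]
    intro x _
    have h1 : (x : N ⧸ Z) ∈ (⊤ : Subgroup (N ⧸ Z)) := Subgroup.mem_top _
    rw [h, Subgroup.mem_bot] at h1
    exact (QuotientGroup.eq_one_iff x).mp h1
  obtain ⟨y, -, hy1, hyc⟩ := exists_central_of_normal (Subgroup.normal_top) hQne
  obtain ⟨a, rfl⟩ := QuotientGroup.mk_surjective y
  have haZ : a ∉ Z := fun h => hy1 ((QuotientGroup.eq_one_iff a).mpr h)
  let C : Subgroup (N ⧸ Z) := Subgroup.zpowers (a : N ⧸ Z)
  haveI hCn : C.Normal := by
    refine ⟨?_⟩
    rintro _ ⟨i, rfl⟩ g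
    have h1 : Commute g (a : N ⧸ Z) := (Subgroup.mem_center_iff.mp hyc) g
    have h2 : g * ((a : N ⧸ Z) ^ i) * g⁻¹ = (a : N ⧸ Z) ^ i := by
      rw [(h1.zpow_right i).eq]
      simp
    show g * ((a : N ⧸ Z) ^ i) * g⁻¹ ∈ C
    rw [h2]
    exact Subgroup.zpow_mem _ (Subgroup.mem_zpowers _) i
  let A : Subgroup N := C.comap (QuotientGroup.mk' Z)
  haveI hAn : A.Normal := Subgroup.Normal.comap hCn _
  haveI : Fintype A := Fintype.ofFinite A
  haveI : Fintype (IrrCharacter A) := Fintype.ofFinite _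
  have haA : a ∈ A := Subgroup.mem_zpowers (a : N ⧸ Z)
  have hAform : ∀ x ∈ A, ∃ i : ℤ, ∃ z ∈ Z, x = a ^ i * z := by
    intro x hx
    obtain ⟨i, hi⟩ : (x : N ⧸ Z) ∈ C := hx
    refine ⟨i, (a ^ i)⁻¹ * x, ?_, by group⟩
    apply (QuotientGroup.eq).mp
    simpa using hi
  have hAcomm : ∀ x ∈ A, ∀ w ∈ A, x * w = w * x := by
    intro x hx w hw
    obtain ⟨i, z, hz, rfl⟩ := hAform x hx
    obtain ⟨j, z', hz', rfl⟩ := hAform w hw
    have h1 : Commute (a ^ i) (a ^ j) := (Commute.refl a).zpow_zpow i j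
    have h2 : ∀ u, Commute z u := fun u => (Subgroup.mem_center_iff.mp hz u).symm
    have h3 : ∀ u, Commute z' u := fun u => (Subgroup.mem_center_iff.mp hz' u).symm
    have h4 : Commute (a ^ i * z) (a ^ j * z') :=
      (h1.mul_right (h3 _).symm).mul_left ((h2 _).mul_right (h2 _))
    exact h4.eq
  -- a constituent of the restriction
  have hres := isCharacter_restrict A hχc
  obtain ⟨θ, hθ⟩ : ∃ θ : IrrCharacter A, classInner (fun h : A => χ h) (θ : A → ℂ) ≠ 0 := by
    by_contra hcon
    push Not at hcon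
    have h0 := classFunction_expansion _ (isClassFunction_of_isCharacter hres)
    have h1 := congrFun h0 1
    simp only [hcon, zero_smul, Finset.sum_const_zero, Pi.zero_apply] at h1
    exact irr_one_ne_zero' hχ (by simpa using h1)
  have hdeg : charDegree (θ : A → ℂ) = 1 :=
    irr_degree_one_of_comm (fun x w => Subtype.ext (hAcomm x x.2 w w.2)) θ.2
  have hcongr : ∀ x w : A, (x : N) = w → (θ : A → ℂ) x = (θ : A → ℂ) w := by
    intro x w h
    rw [Subtype.ext h]
  let T : Subgroup N :=
    { carrier := {g | ∀ h : A, (θ : A → ℂ) ⟨g * h * g⁻¹, hAn.conj_mem h h.2 g⟩ = (θ : A → ℂ) h}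
      one_mem' := by
        intro h
        exact hcongr _ _ (by simp)
      mul_mem' := by
        intro g₁ g₂ h₁ h₂ h
        have e1 := h₁ ⟨g₂ * h * g₂⁻¹, hAn.conj_mem h h.2 g₂⟩
        rw [h₂ h] at e1
        rw [← e1]
        exact hcongr _ _ (by simp [mul_assoc])
      inv_mem' := by
        intro g hg h
        have e1 := hg ⟨g⁻¹ * h * g⁻¹⁻¹, hAn.conj_mem h h.2 g⁻¹⟩
        exact e1.symm.trans (hcongr _ _ (by simp [mul_assoc])) }
  have hT : ∀ g : N, g ∈ T ↔ ∀ h : A, (θ : A → ℂ) ⟨g * h * g⁻¹, hAn.conj_mem h h.2 g⟩ = (θ : A → ℂ) h :=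
    fun g => Iff.rfl
  have hAT : A ≤ T := by
    intro g hg h
    refine hcongr _ _ ?_
    show g * (h : N) * g⁻¹ = h
    rw [hAcomm g hg h h.2]
    simp
  haveI : Fintype T := Fintype.ofFinite T
  have hTne : T ≠ ⊤ := by
    intro htop
    have hmem : ∀ t : N, t ∈ T := fun t => by rw [htop]; exact Subgroup.mem_top t
    have hinv : ∀ t : N, twist A (θ : A → ℂ) t = θ := by
      intro t
      funext h
      exact hmem t h
    have hne : classInner (indFun A (θ : A → ℂ)) χ ≠ 0 := by
      rw [frobenius_reciprocity A _ _ hcl]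
      intro h
      apply hθ
      rw [← classInner_comm_conj, h, map_zero]
    obtain ⟨e, -, -, hval⟩ := clifford_restrict A θ.2 hχ hinv hne
    have hθc := isCharacter_of_irr θ.2
    have hv1 := hval ⟨1, A.one_mem⟩
    have hva := hval ⟨a, haA⟩
    have hθ1 : (θ : A → ℂ) ⟨1, A.one_mem⟩ = 1 := linear_one hθc hdeg
    rw [hθ1, mul_one] at hv1
    have hθa := linear_norm hθc hdeg ⟨a, haA⟩
    obtain ⟨n, ρ, -, rfl⟩ := id hχ
    have hfin : (Module.finrank ℂ (Fin n → ℂ) : ℂ) = e := by
      have := Representation.char_one ρ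
      rw [← hv1, ← this]
    have hfin' : (Module.finrank ℂ (Fin n → ℂ) : ℝ) = e := by exact_mod_cast hfin
    have hnorm : ‖ρ.character a‖ = (Module.finrank ℂ (Fin n → ℂ) : ℝ) := by
      rw [hfin']
      have h1 : ρ.character a = e * (θ : A → ℂ) ⟨a, haA⟩ := hva
      rw [h1, norm_mul, hθa, mul_one]
      simp
    obtain ⟨c, hc⟩ := (norm_character_eq_finrank_iff ρ a).mp hnorm
    apply haZ
    rw [hZ, Subgroup.mem_center_iff]
    intro g
    have hcomm : ρ g * ρ a = ρ a * ρ g := by
      rw [hc]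
      simp
    have h2 : ρ (g * a * g⁻¹ * a⁻¹) = 1 := by
      rw [map_mul, map_mul, map_mul, hcomm, mul_assoc, mul_assoc]
      rw [← mul_assoc (ρ g) (ρ g⁻¹), ← map_mul]
      simp only [mul_inv_cancel, map_one, one_mul]
      rw [← map_mul]
      simp
    have h3 : ρ.character (g * a * g⁻¹ * a⁻¹) = ρ.character 1 := by
      simp [Representation.character, h2]
    have h4 := hker _ h3
    have h5 : g * a * g⁻¹ = a := by
      rwa [mul_inv_eq_one] at h4
    rwa [mul_inv_eq_iff_eq_mul] at h5
  obtain ⟨ψ, hψ, he⟩ := exists_clifford_ind A T hAT θ.2 hT hχ hθ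
  exact ⟨T, hTne, inferInstance, ψ, hψ, he⟩

/-- **Nilpotent groups are monomial.** -/
theorem monomial_of_nilpotent (n : ℕ) : ∀ (N : Type u) [Group N] [Fintype N],
    Group.IsNilpotent N → Nat.card N ≤ n → ∀ χ : N → ℂ, IsIrrCharacter N χ → IsMonomialChar N χ := by
  induction n with
  | zero =>
    intro N _ _ _ h
    have := Nat.card_pos (α := N)
    omega
  | succ n ih =>
    intro N _ _ hnil hcard χ hχ
    classical
    haveI := hnil
    have hχc := isCharacter_of_irr hχ
    haveI : Fintype (IrrCharacter N) := Fintype.ofFinite _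
    by_cases hker : ∀ g, χ g = χ 1 → g = 1
    · by_cases hab : ∀ a b : N, a * b = b * a
      · have hdeg := irr_degree_one_of_comm hab hχ
        obtain ⟨l, hl⟩ := exists_hom_of_linear hχc hdeg
        refine ⟨⊤, l.comp (⊤ : Subgroup N).subtype, ?_⟩
        exact (indFun_top _ (isClassFunction_of_isCharacter hχc) (fun x => hl x)).symm
      · obtain ⟨T, hT, hF, ψ, hψ, he⟩ := exists_proper_ind hab hχ hker
        have hlt : Nat.card T < Nat.card N := by
          have h1 := Subgroup.card_le_card_group T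
          have h2 : Nat.card T ≠ Nat.card N := by
            intro h
            apply hT
            exact Subgroup.eq_top_of_card_eq T h
          omega
        have hm := ih T inferInstance (by omega) ψ hψ
        rw [he]
        exact monomial_of_subgroup T hm
    · push Not at hker
      obtain ⟨k, hk, hk1⟩ := hker
      let K := charKer χ hχc
      haveI : K.Normal := charKer_normal χ hχc
      haveI : Fintype (N ⧸ K) := Fintype.ofFinite _
      have hKne : K ≠ ⊥ := by
        intro h
        have : k ∈ K := hk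
        rw [h, Subgroup.mem_bot] at this
        exact hk1 this
      have hlt : Nat.card (N ⧸ K) < Nat.card N := by
        have h1 := Subgroup.index_mul_card K
        have h2 : 1 < Nat.card K := by
          rw [Subgroup.one_lt_card_iff_ne_bot]
          exact hKne
        rw [← Subgroup.index_eq_card]
        have h3 : 0 < K.index := Nat.pos_of_ne_zero (Subgroup.index_ne_zero_of_finite)
        nlinarith
      obtain ⟨χ', hχ', hcomp⟩ := isIrrCharacter_descend (QuotientGroup.mk' K)
        (QuotientGroup.mk'_surjective K) hχ (fun g hg => by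
          have : g ∈ K := (QuotientGroup.eq_one_iff g).mp hg
          exact this)
      have hm := ih (N ⧸ K) inferInstance (by omega) χ' hχ'
      exact monomial_of_quotient K hcomp hm

end Step

end Cfsg.Agent.H06.Brauer
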