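import Cfsg.Prelude.Def_Transfer
import Cfsg.Prelude.Def_CaseTheorems
import Cfsg.Agent.Lib.H06.OddPGroup
import Cfsg.Agent.Lib.H06.Nilp
import Cfsg.Agent.Lib.H06.Dade
import Cfsg.Agent.Lib.H01.Basic
import Mathlib

/-! Normal elementary abelian subgroups of odd `p`-groups (helper6). -/

set_option autoImplicit false

namespace Cfsg.Agent.H06

open Cfsg

variable {p : ℕ} [Fact p.Prime]

/-- A central element of `D / Z` inside `W / Z`. -/
theorem exists_central_mod {D : Type*} [Group D] [Finite D] (hD : IsPGroup p D) {Z W : Subgroup D}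
    (hZ : Z.Normal) (hW : W.Normal) (h : Z < W) :
    ∃ w ∈ W, w ∉ Z ∧ ∀ x : D, x * w * x⁻¹ * w⁻¹ ∈ Z := by
  haveI := hZ
  haveI : Group.IsNilpotent (D ⧸ Z) := (hD.to_quotient Z).isNilpotent
  have hmapn := hW.map (QuotientGroup.mk' Z) (QuotientGroup.mk'_surjective Z)
  have hne : W.map (QuotientGroup.mk' Z) ≠ ⊥ := by
    intro hb
    obtain ⟨w, hw, hwZ⟩ := SetLike.exists_of_lt h
    apply hwZ
    have h1 : QuotientGroup.mk' Z w ∈ W.map (QuotientGroup.mk' Z) := ⟨w, hw, rfl⟩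
    rw [hb, Subgroup.mem_bot] at h1
    exact (QuotientGroup.eq_one_iff w).mp h1
  obtain ⟨y, ⟨w, hw, rfl⟩, hy1, hyc⟩ := exists_central_of_normal hmapn hne
  refine ⟨w, hw, fun hwZ => hy1 ((QuotientGroup.eq_one_iff w).mpr hwZ), fun x => ?_⟩
  rw [← QuotientGroup.eq_one_iff]
  have h2 := (Subgroup.mem_center_iff.mp hyc) (x : D ⧸ Z)
  have h3 : ((x * w * x⁻¹ * w⁻¹ : D) : D ⧸ Z) =
      (x : D ⧸ Z) * (w : D ⧸ Z) * (x : D ⧸ Z)⁻¹ * (w : D ⧸ Z)⁻¹ := rfl
  rw [h3]
  have h4 : (x : D ⧸ Z) * (w : D ⧸ Z) = (w : D ⧸ Z) * (x : D ⧸ Z) := h2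
  rw [h4]
  group

section sup

variable {R : Type*} [Group R]

theorem mem_sup_zpowers_of_comm {E : Subgroup R} {f : R} (hf : ∀ e ∈ E, e * f = f * e) {x : R}
    (hx : x ∈ E ⊔ Subgroup.zpowers f) : ∃ e ∈ E, ∃ k : ℤ, x = e * f ^ k := by
  have hnorm : ∀ d ∈ Subgroup.zpowers f, ∀ n ∈ E, d * n * d⁻¹ ∈ E := by
    intro d hd n hn
    obtain ⟨k, rfl⟩ := hd
    have : Commute n (f ^ k) := Commute.zpow_right (hf n hn) k
    have h2 : f ^ k * n * (f ^ k)⁻¹ = n := by
      rw [← this.eq]; group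
    show f ^ k * n * (f ^ k)⁻¹ ∈ E
    rw [h2]; exact hn
  obtain ⟨e, he, d, hd, rfl⟩ := mem_sup_of_normalizes hnorm hx
  obtain ⟨k, rfl⟩ := hd
  exact ⟨e, he, k, rfl⟩

theorem sup_zpowers_normal {E : Subgroup R} (hE : E.Normal) {f : R}
    (hf : ∀ x : R, x * f * x⁻¹ * f⁻¹ ∈ E) : (E ⊔ Subgroup.zpowers f).Normal := by
  constructor
  intro n hn g
  have hmap : (E ⊔ Subgroup.zpowers f) ≤ (E ⊔ Subgroup.zpowers f).comap (MulAut.conj g).toMonoidHom := by
    apply sup_le
    · intro e he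
      exact Subgroup.mem_sup_left (hE.conj_mem e he g)
    · rw [Subgroup.zpowers_le]
      show g * f * g⁻¹ ∈ E ⊔ Subgroup.zpowers f
      have h1 : g * f * g⁻¹ = (g * f * g⁻¹ * f⁻¹) * f := by group
      rw [h1]
      exact Subgroup.mul_mem _ (Subgroup.mem_sup_left (hf g))
        (Subgroup.mem_sup_right (Subgroup.mem_zpowers f))
  exact hmap hn

theorem sup_zpowers_comm {E : Subgroup R} {f : R} (hEc : ∀ a ∈ E, ∀ b ∈ E, a * b = b * a)
    (hf : ∀ e ∈ E, e * f = f * e) {x y : R} (hx : x ∈ E ⊔ Subgroup.zpowers f)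
    (hy : y ∈ E ⊔ Subgroup.zpowers f) : x * y = y * x := by
  obtain ⟨a, ha, k, rfl⟩ := mem_sup_zpowers_of_comm hf hx
  obtain ⟨b, hb, l, rfl⟩ := mem_sup_zpowers_of_comm hf hy
  have h1 : Commute a b := hEc a ha b hb
  have h2 : Commute a (f ^ l) := Commute.zpow_right (hf a ha) l
  have h3 : Commute b (f ^ k) := Commute.zpow_right (hf b hb) k
  have h4 : Commute (f ^ k) (f ^ l) := (Commute.refl f).zpow_zpow k l
  have h5 : Commute (a * f ^ k) (b * f ^ l) :=
    Commute.mul_left (Commute.mul_right h1 h2) (Commute.mul_right h3.symm h4)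
  exact h5

theorem sup_zpowers_pow {E : Subgroup R} {f : R} (hEp : ∀ a ∈ E, a ^ p = 1) (hfp : f ^ p = 1)
    (hf : ∀ e ∈ E, e * f = f * e) {x : R} (hx : x ∈ E ⊔ Subgroup.zpowers f) : x ^ p = 1 := by
  obtain ⟨a, ha, k, rfl⟩ := mem_sup_zpowers_of_comm hf hx
  have h2 : Commute a (f ^ k) := Commute.zpow_right (hf a ha) k
  rw [h2.mul_pow, hEp a ha, one_mul, ← zpow_natCast, ← zpow_mul, mul_comm, zpow_mul, zpow_natCast,
    hfp, one_zpow]

theorem isElementaryAbelian_sup_zpowers {E : Subgroup R} {f : R} (hE : IsElementaryAbelian p E)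
    (hfp : f ^ p = 1) (hf : ∀ e ∈ E, e * f = f * e) :
    IsElementaryAbelian p (E ⊔ Subgroup.zpowers f) := by
  have hEc : ∀ a ∈ E, ∀ b ∈ E, a * b = b * a := by
    intro a ha b hb
    have := hE.1.is_comm.comm (⟨a, ha⟩ : E) ⟨b, hb⟩
    exact congrArg Subtype.val this
  refine ⟨⟨⟨fun a b => Subtype.ext (sup_zpowers_comm hEc hf a.2 b.2)⟩⟩, fun a ha => ?_⟩
  exact sup_zpowers_pow hE.2 hfp hf ha

end sup

section main

variable {R : Type*} [Group R] [Finite R]

/-- The elements of the group generated by `D`-conjugates of an element central mod `E` in `N`. -/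
theorem exists_central_elt_aux (hR : IsPGroup p R) (hp2 : p ≠ 2) {E : Subgroup R} (hEn : E.Normal)
    (hEc : ∀ a ∈ E, ∀ b ∈ E, a * b = b * a) (hEp : ∀ a ∈ E, a ^ p = 1) (D : Subgroup R) :
    E ≤ D → ∀ f₀ ∈ D, f₀ ∉ E → f₀ ^ p = 1 → (∀ e ∈ E, e * f₀ = f₀ * e) →
      ∃ f ∈ D, f ∉ E ∧ f ^ p = 1 ∧ (∀ e ∈ E, e * f = f * e) ∧ ∀ x ∈ D, x * f * x⁻¹ * f⁻¹ ∈ E := by
  have hprime : p.Prime := Fact.out
  induction D using WellFoundedLT.induction with
  | ind D ih =>
    intro hED f₀ hf₀D hf₀E hf₀p hf₀c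
    by_cases hcase : E ⊔ Subgroup.zpowers f₀ = D
    · refine ⟨f₀, hf₀D, hf₀E, hf₀p, hf₀c, fun x hx => ?_⟩
      rw [← hcase] at hx
      obtain ⟨e, he, k, rfl⟩ := mem_sup_zpowers_of_comm hf₀c hx
      have h1 : Commute e f₀ := hf₀c e he
      have h2 : Commute (f₀ ^ k) f₀ := (Commute.refl f₀).zpow_left k
      have h3 : Commute (e * f₀ ^ k) f₀ := Commute.mul_left h1 h2
      have h4 : e * f₀ ^ k * f₀ * (e * f₀ ^ k)⁻¹ * f₀⁻¹ = 1 := by
        rw [h3.eq]; group
      rw [h4]; exact E.one_mem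
    · have hle : E ⊔ Subgroup.zpowers f₀ ≤ D :=
        sup_le hED ((Subgroup.zpowers_le).mpr hf₀D)
      have hDp : IsPGroup p ↥D := hR.to_subgroup D
      have hne : (E ⊔ Subgroup.zpowers f₀).subgroupOf D ≠ ⊤ := by
        intro htop
        apply hcase
        apply le_antisymm hle
        rw [Subgroup.subgroupOf_eq_top] at htop
        exact htop
      obtain ⟨N', hN'c, hN'le⟩ := (eq_top_or_exists_le_coatom
        ((E ⊔ Subgroup.zpowers f₀).subgroupOf D)).resolve_left hne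
      have hN'n := (H01.isCoatom_normal_index hDp hN'c).1
      set N : Subgroup R := N'.map D.subtype with hN
      have hND : N ≤ D := by
        rintro _ ⟨x, _, rfl⟩
        exact x.2
      have hNlt : N < D := by
        refine lt_of_le_of_ne hND ?_
        intro heq
        apply hN'c.1
        rw [eq_top_iff]
        intro x _
        have hxN : (x : R) ∈ N := by rw [heq]; exact x.2
        obtain ⟨y, hy, hyx⟩ := hxN
        have : y = x := Subtype.ext hyx
        rwa [← this]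
      have hmemN : ∀ {x : R}, (hx : x ∈ D) → (⟨x, hx⟩ : ↥D) ∈ N' → x ∈ N :=
        fun hx h => ⟨⟨_, hx⟩, h, rfl⟩
      have hEN : E ≤ N := by
        intro e he
        apply hmemN (hED he)
        apply hN'le
        rw [Subgroup.mem_subgroupOf]
        exact Subgroup.mem_sup_left he
      have hf₀N : f₀ ∈ N := by
        apply hmemN hf₀D
        apply hN'le
        rw [Subgroup.mem_subgroupOf]
        exact Subgroup.mem_sup_right (Subgroup.mem_zpowers f₀)
      have hNnorm : ∀ x ∈ D, ∀ n ∈ N, x * n * x⁻¹ ∈ N := by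
        rintro x hx _ ⟨n, hn, rfl⟩
        exact ⟨_, hN'n.conj_mem n hn ⟨x, hx⟩, rfl⟩
      obtain ⟨f₁, hf₁N, hf₁E, hf₁p, hf₁c, hf₁z⟩ := ih N hNlt hEN f₀ hf₀N hf₀E hf₀p hf₀c
      -- the group `W`
      obtain ⟨S, hS⟩ : ∃ S : Set R, S = {y | ∃ x ∈ D, y = x * f₁ * x⁻¹} ∪ (E : Set R) := ⟨_, rfl⟩
      obtain ⟨W, hW⟩ : ∃ W : Subgroup R, W = Subgroup.closure S := ⟨_, rfl⟩
      have hP : ∀ w ∈ W, w ∈ N ∧ (∀ e ∈ E, e * w = w * e) ∧ ∀ n ∈ N, n * w * n⁻¹ * w⁻¹ ∈ E := by
        intro w hw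
        rw [hW] at hw
        induction hw using Subgroup.closure_induction with
        | mem y hy =>
          rw [hS] at hy
          rcases hy with ⟨x, hx, rfl⟩ | hy
          · refine ⟨hNnorm x hx f₁ hf₁N, ?_, ?_⟩
            · intro e he
              have h1 : x⁻¹ * e * x⁻¹⁻¹ ∈ E := hEn.conj_mem e he x⁻¹
              have h2 := hf₁c _ h1
              calc e * (x * f₁ * x⁻¹) = x * ((x⁻¹ * e * x⁻¹⁻¹) * f₁) * x⁻¹ := by group
                _ = x * (f₁ * (x⁻¹ * e * x⁻¹⁻¹)) * x⁻¹ := by rw [h2]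
                _ = x * f₁ * x⁻¹ * e := by group
            · intro n hn
              have h1 : x⁻¹ * n * x⁻¹⁻¹ ∈ N := hNnorm x⁻¹ (D.inv_mem hx) n hn
              have h2 := hf₁z _ h1
              have h3 := hEn.conj_mem _ h2 x
              have h4 : n * (x * f₁ * x⁻¹) * n⁻¹ * (x * f₁ * x⁻¹)⁻¹ =
                  x * (x⁻¹ * n * x⁻¹⁻¹ * f₁ * (x⁻¹ * n * x⁻¹⁻¹)⁻¹ * f₁⁻¹) * x⁻¹ := by group
              rw [h4]; exact h3
          · have hy' : y ∈ E := hy
            refine ⟨hEN hy', fun e he => hEc e he y hy', fun n _ => ?_⟩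
            exact E.mul_mem (hEn.conj_mem y hy' n) (E.inv_mem hy')
        | one =>
          refine ⟨N.one_mem, fun e _ => by simp, fun n _ => ?_⟩
          have : n * 1 * n⁻¹ * (1 : R)⁻¹ = 1 := by group
          rw [this]; exact E.one_mem
        | mul a b _ _ ha hb =>
          obtain ⟨ha1, ha2, ha3⟩ := ha
          obtain ⟨hb1, hb2, hb3⟩ := hb
          refine ⟨N.mul_mem ha1 hb1, fun e he => ?_, fun n hn => ?_⟩
          · rw [← mul_assoc, ha2 e he, mul_assoc, hb2 e he, mul_assoc]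
          · have h4 : n * (a * b) * n⁻¹ * (a * b)⁻¹ =
                (n * a * n⁻¹ * a⁻¹) * (a * (n * b * n⁻¹ * b⁻¹) * a⁻¹) := by group
            rw [h4]
            exact E.mul_mem (ha3 n hn) (hEn.conj_mem _ (hb3 n hn) a)
        | inv a _ ha =>
          obtain ⟨ha1, ha2, ha3⟩ := ha
          refine ⟨N.inv_mem ha1, fun e he => ?_, fun n hn => ?_⟩
          · have h1 : Commute e a := ha2 e he
            exact h1.inv_right
          · have h4 : n * a⁻¹ * n⁻¹ * a⁻¹⁻¹ = a⁻¹ * (n * a * n⁻¹ * a⁻¹)⁻¹ * a⁻¹⁻¹ := by group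
            rw [h4]
            exact hEn.conj_mem _ (E.inv_mem (ha3 n hn)) a⁻¹
      have hPp : ∀ w ∈ W, w ^ p = 1 := by
        intro w hw
        rw [hW] at hw
        induction hw using Subgroup.closure_induction with
        | mem y hy =>
          rw [hS] at hy
          rcases hy with ⟨x, _, rfl⟩ | hy
          · rw [conj_pow, hf₁p]; group
          · exact hEp y hy
        | one => simp
        | mul a b ha hb iha ihb =>
          rw [← hW] at ha hb
          obtain ⟨ha1, ha2, ha3⟩ := hP a ha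
          obtain ⟨hb1, hb2, hb3⟩ := hP b hb
          have hc := hb3
          have hcE : b * a * b⁻¹ * a⁻¹ ∈ E := ha3 b hb1
          have h1 := mul_pow_prime_of_class_two hprime hp2 (x := a) (z := b)
            (c := b * a * b⁻¹ * a⁻¹) rfl (ha2 _ hcE) (hb2 _ hcE) (by rw [ihb]; group)
          rw [h1, iha, ihb, one_mul]
        | inv a _ iha => rw [inv_pow, iha, inv_one]
      have hWn : ∀ x ∈ D, ∀ w ∈ W, x * w * x⁻¹ ∈ W := by
        intro x hx w hw
        rw [hW] at hw ⊢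
        induction hw using Subgroup.closure_induction with
        | mem y hy =>
          apply Subgroup.subset_closure
          rw [hS] at hy ⊢
          rcases hy with ⟨z, hz, rfl⟩ | hy
          · exact Or.inl ⟨x * z, D.mul_mem hx hz, by group⟩
          · exact Or.inr (hEn.conj_mem y hy x)
        | one => simp
        | mul a b _ _ iha ihb =>
          have h4 : x * (a * b) * x⁻¹ = (x * a * x⁻¹) * (x * b * x⁻¹) := by group
          rw [h4]; exact Subgroup.mul_mem _ iha ihb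
        | inv a _ iha =>
          have h4 : x * a⁻¹ * x⁻¹ = (x * a * x⁻¹)⁻¹ := by group
          rw [h4]; exact Subgroup.inv_mem _ iha
      have hEW : E ≤ W := fun e he => by
        rw [hW]; apply Subgroup.subset_closure; rw [hS]; exact Or.inr he
      have hf₁W : f₁ ∈ W := by
        rw [hW]; apply Subgroup.subset_closure; rw [hS]
        exact Or.inl ⟨1, D.one_mem, by group⟩
      have hWD : W ≤ D := fun w hw => hND (hP w hw).1
      have hZn : (E.subgroupOf D).Normal := Subgroup.Normal.subgroupOf hEn D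
      have hWnn : (W.subgroupOf D).Normal := by
        constructor
        intro w hw x
        rw [Subgroup.mem_subgroupOf] at hw ⊢
        exact hWn x x.2 w hw
      have hlt : E.subgroupOf D < W.subgroupOf D := by
        refine lt_of_le_of_ne (fun x hx => by
          rw [Subgroup.mem_subgroupOf] at hx ⊢; exact hEW hx) ?_
        intro heq
        have h1 : (⟨f₁, hND hf₁N⟩ : ↥D) ∈ W.subgroupOf D := by
          rw [Subgroup.mem_subgroupOf]; exact hf₁W
        rw [← heq, Subgroup.mem_subgroupOf] at h1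
        exact hf₁E h1
      obtain ⟨w, hwW, hwE, hwc⟩ := exists_central_mod hDp hZn hWnn hlt
      rw [Subgroup.mem_subgroupOf] at hwW hwE
      refine ⟨w, w.2, hwE, hPp _ hwW, (hP _ hwW).2.1, fun x hx => ?_⟩
      have := hwc ⟨x, hx⟩
      rw [Subgroup.mem_subgroupOf] at this
      exact this

/-- An element outside `E`, of order `p`, centralizing `E` yields another one central mod `E`. -/
theorem exists_central_elt (hR : IsPGroup p R) (hp2 : p ≠ 2) {E : Subgroup R} (hEn : E.Normal)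
    (hEc : ∀ a ∈ E, ∀ b ∈ E, a * b = b * a) (hEp : ∀ a ∈ E, a ^ p = 1) {f₀ : R} (hf₀E : f₀ ∉ E)
    (hf₀p : f₀ ^ p = 1) (hf₀c : ∀ e ∈ E, e * f₀ = f₀ * e) :
    ∃ f, f ∉ E ∧ f ^ p = 1 ∧ (∀ e ∈ E, e * f = f * e) ∧ ∀ x : R, x * f * x⁻¹ * f⁻¹ ∈ E := by
  obtain ⟨f, _, h1, h2, h3, h4⟩ := exists_central_elt_aux hR hp2 hEn hEc hEp ⊤ le_top f₀
    (Subgroup.mem_top _) hf₀E hf₀p hf₀c
  exact ⟨f, h1, h2, h3, fun x => h4 x (Subgroup.mem_top _)⟩

/-- A normal abelian subgroup lies in a self-centralizing normal abelian subgroup. -/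
theorem exists_selfCentralizing (hR : IsPGroup p R) {F : Subgroup R} (hFn : F.Normal)
    (hFc : ∀ a ∈ F, ∀ b ∈ F, a * b = b * a) :
    ∃ A : Subgroup R, F ≤ A ∧ A.Normal ∧ Subgroup.centralizer (A : Set R) = A := by
  set s : Set (Subgroup R) := {A | F ≤ A ∧ A.Normal ∧ ∀ a ∈ A, ∀ b ∈ A, a * b = b * a} with hs
  have hsf : s.Finite := Set.toFinite s
  obtain ⟨A, hFA, hAmax⟩ := hsf.exists_le_maximal (show F ∈ s from ⟨le_rfl, hFn, hFc⟩)
  obtain ⟨h1, h2, h3⟩ := hAmax.prop
  refine ⟨A, hFA, h2, ?_⟩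
  have hle : A ≤ Subgroup.centralizer (A : Set R) := by
    intro a ha
    rw [Subgroup.mem_centralizer_iff]
    intro b hb
    exact h3 b hb a ha
  by_contra hne
  have hlt : A < Subgroup.centralizer (A : Set R) := lt_of_le_of_ne hle (Ne.symm hne)
  haveI := h2
  obtain ⟨w, hwC, hwA, hwz⟩ := exists_central_mod hR h2 Subgroup.normal_centralizer hlt
  have hwc : ∀ e ∈ A, e * w = w * e := fun e he => Subgroup.mem_centralizer_iff.mp hwC e he
  have hmem : A ⊔ Subgroup.zpowers w ∈ s :=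
    ⟨hFA.trans le_sup_left, sup_zpowers_normal h2 hwz, fun a ha b hb =>
      sup_zpowers_comm h3 hwc ha hb⟩
  have hle2 : A ≤ A ⊔ Subgroup.zpowers w := le_sup_left
  have h4 := hAmax.le_of_ge hmem hle2
  exact hwA (h4 (Subgroup.mem_sup_right (Subgroup.mem_zpowers w)))

/-- Hom-fibre bound: commutator with `e` maps `B` into a central subgroup `Z`. -/
theorem card_le_card_inf_centralizer_mul {B Z : Subgroup R} {e : R}
    (hZc : ∀ z ∈ Z, ∀ x : R, x * z = z * x)
    (hB : ∀ b ∈ B, b * e * b⁻¹ * e⁻¹ ∈ Z) :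
    Nat.card B ≤ Nat.card ↥(B ⊓ Subgroup.centralizer ({e} : Set R)) * Nat.card Z := by
  let ψ : B →* Z :=
    { toFun := fun b => ⟨(b : R) * e * (b : R)⁻¹ * e⁻¹, hB b b.2⟩
      map_one' := by
        apply Subtype.ext; simp
      map_mul' := by
        rintro ⟨a, ha⟩ ⟨b, hb⟩
        apply Subtype.ext
        show a * b * e * (a * b)⁻¹ * e⁻¹ = (a * e * a⁻¹ * e⁻¹) * (b * e * b⁻¹ * e⁻¹)
        have h1 := hZc _ (hB b hb) a
        have h2 := hZc _ (hB b hb) (a * e * a⁻¹ * e⁻¹)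
        calc a * b * e * (a * b)⁻¹ * e⁻¹ = a * (b * e * b⁻¹ * e⁻¹) * e * a⁻¹ * e⁻¹ := by group
          _ = (b * e * b⁻¹ * e⁻¹) * a * e * a⁻¹ * e⁻¹ := by rw [h1]
          _ = (b * e * b⁻¹ * e⁻¹) * (a * e * a⁻¹ * e⁻¹) := by group
          _ = _ := by rw [← h2] }
  have hker : Nat.card ψ.ker = Nat.card ↥(B ⊓ Subgroup.centralizer ({e} : Set R)) := by
    have hle : B ⊓ Subgroup.centralizer ({e} : Set R) ≤ B := inf_le_left
    have heq : ψ.ker = (B ⊓ Subgroup.centralizer ({e} : Set R)).subgroupOf B := by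
      ext ⟨b, hb⟩
      rw [MonoidHom.mem_ker, Subgroup.mem_subgroupOf]
      constructor
      · intro h
        have h1 : b * e * b⁻¹ * e⁻¹ = 1 := congrArg Subtype.val h
        refine Subgroup.mem_inf.mpr ⟨hb, ?_⟩
        rw [Subgroup.mem_centralizer_iff]
        intro y hy
        rw [Set.mem_singleton_iff.mp hy]
        rw [mul_inv_eq_one, mul_inv_eq_iff_eq_mul] at h1
        exact h1.symm
      · intro h
        apply Subtype.ext
        have h1 := Subgroup.mem_centralizer_iff.mp (Subgroup.mem_inf.mp h).2 e rfl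
        show b * e * b⁻¹ * e⁻¹ = 1
        rw [← h1]; group
    rw [heq]
    exact Nat.card_congr (Subgroup.subgroupOfEquivOfLe hle).toEquiv
  have h1 : Nat.card ψ.ker * Nat.card ψ.range = Nat.card B := by
    rw [mul_comm, Nat.card_congr (QuotientGroup.quotientKerEquivRange ψ).symm.toEquiv]
    exact (Subgroup.card_eq_card_quotient_mul_card_subgroup ψ.ker).symm
  rw [← h1, hker]
  apply Nat.mul_le_mul_left
  exact Nat.card_le_card_of_injective (fun x : ψ.range => (x : Z)) Subtype.val_injective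

theorem exists_f0 (hR : IsPGroup p R) {E : Subgroup R} (hEn : E.Normal)
    (hEc : ∀ a ∈ E, ∀ b ∈ E, a * b = b * a) (hEp : ∀ a ∈ E, a ^ p = 1)
    (hE2 : Nat.card E = p ^ 2) {B : Subgroup R} (hBc : ∀ a ∈ B, ∀ b ∈ B, a * b = b * a)
    (hBp : ∀ a ∈ B, a ^ p = 1) (hB : p ^ 2 < Nat.card B) :
    ∃ f₀ ∈ B, f₀ ∉ E ∧ f₀ ^ p = 1 ∧ ∀ e ∈ E, e * f₀ = f₀ * e := by
  have hprime : p.Prime := Fact.out
  have hp1 : 1 < p := hprime.one_lt
  -- central element of `E`
  have hbotE : (⊥ : Subgroup R) < E := by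
    rw [bot_lt_iff_ne_bot]
    intro h
    rw [h] at hE2
    simp only [Subgroup.card_bot] at hE2
    have : 1 < p ^ 2 := Nat.one_lt_pow (by norm_num) hp1
    omega
  obtain ⟨z, hzE, hz1, hzc⟩ := exists_central_mod hR Subgroup.normal_bot hEn hbotE
  have hzc' : ∀ x : R, x * z * x⁻¹ * z⁻¹ = 1 := fun x => by simpa using hzc x
  have hz1' : z ≠ 1 := fun h => hz1 (h ▸ Subgroup.one_mem _)
  have hzcomm : ∀ x : R, x * z = z * x := fun x => by
    have := hzc' x
    rwa [mul_inv_eq_one, mul_inv_eq_iff_eq_mul] at this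
  have hoz : orderOf z = p := orderOf_eq_prime (hEp z hzE) hz1'
  set Z₁ := Subgroup.zpowers z with hZ₁
  have hZ₁card : Nat.card Z₁ = p := by rw [Nat.card_zpowers, hoz]
  have hZ₁c : ∀ y ∈ Z₁, ∀ x : R, x * y = y * x := by
    rintro _ ⟨k, rfl⟩ x
    have : Commute x z := hzcomm x
    exact this.zpow_right k
  have hZ₁n : Z₁.Normal := by
    constructor
    intro n hn g
    have h1 := hZ₁c n hn g
    have h2 : g * n * g⁻¹ = n := by rw [h1]; group
    rw [h2]; exact hn
  have hZ₁E : Z₁ ≤ E := (Subgroup.zpowers_le).mpr hzE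
  have hZ₁lt : Z₁ < E := by
    refine lt_of_le_of_ne hZ₁E ?_
    intro h
    rw [← h, hZ₁card] at hE2
    have : p < p ^ 2 := by nlinarith
    omega
  obtain ⟨e, heE, heZ, hec⟩ := exists_central_mod hR hZ₁n hEn hZ₁lt
  have hcard := card_le_card_inf_centralizer_mul (B := B) (e := e) hZ₁c (fun b _ => hec b)
  rw [hZ₁card] at hcard
  set H := B ⊓ Subgroup.centralizer ({e} : Set R) with hH
  -- `E = Z₁ ⟨e⟩`
  have hEgen : Z₁ ⊔ Subgroup.zpowers e = E := by
    have hle : Z₁ ⊔ Subgroup.zpowers e ≤ E := sup_le hZ₁E ((Subgroup.zpowers_le).mpr heE)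
    apply Subgroup.eq_of_le_of_card_ge hle
    have hlt : Z₁ < Z₁ ⊔ Subgroup.zpowers e := by
      refine lt_of_le_of_ne le_sup_left ?_
      intro h
      exact heZ (h ▸ Subgroup.mem_sup_right (Subgroup.mem_zpowers e))
    have h1 : Nat.card (Z₁ ⊔ Subgroup.zpowers e : Subgroup R) ∣ p ^ 2 :=
      hE2 ▸ Subgroup.card_dvd_of_le hle
    have h2 := card_lt_of_lt hlt
    rw [hZ₁card] at h2
    obtain ⟨i, hi, hi2⟩ := (Nat.dvd_prime_pow hprime).mp h1
    rw [hi2] at h2 ⊢
    rw [hE2]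
    have hi3 : i = 2 := by
      interval_cases i
      · simp at h2; omega
      · simp at h2
      · rfl
    rw [hi3]
  have hHc : ∀ h ∈ H, ∀ x ∈ E, x * h = h * x := by
    intro h hh x hx
    have h1 : e * h = h * e :=
      (Subgroup.mem_centralizer_iff.mp (Subgroup.mem_inf.mp hh).2 e rfl)
    have h2 : E ≤ Subgroup.centralizer ({h} : Set R) := by
      rw [← hEgen]
      apply sup_le
      · intro y hy
        rw [Subgroup.mem_centralizer_iff]
        intro w hw
        rw [Set.mem_singleton_iff.mp hw]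
        exact (hZ₁c y hy h)
      · rw [Subgroup.zpowers_le, Subgroup.mem_centralizer_iff]
        intro w hw
        rw [Set.mem_singleton_iff.mp hw]
        exact h1.symm
    have h3 := Subgroup.mem_centralizer_iff.mp (h2 hx) h rfl
    exact h3.symm
  by_contra hcon
  push Not at hcon
  have hHE : H ≤ E := by
    intro h hh
    by_contra hnE
    obtain ⟨y, hy, hne⟩ := hcon h (Subgroup.mem_inf.mp hh).1 hnE (hBp h (Subgroup.mem_inf.mp hh).1)
    exact hne (hHc h hh y hy)
  have hHcardle : Nat.card H ≤ p := by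
    by_cases hheq : H = E
    · exfalso
      have hEB : E ≤ B := hheq ▸ (inf_le_left : H ≤ B)
      have hBH : B ≤ H := by
        intro b hb
        refine Subgroup.mem_inf.mpr ⟨hb, ?_⟩
        rw [Subgroup.mem_centralizer_iff]
        intro y hy
        rw [Set.mem_singleton_iff.mp hy]
        exact hBc e (hEB heE) b hb
      have h1 : Nat.card B ≤ Nat.card E := Subgroup.card_le_of_le (hBH.trans hHE)
      omega
    · have hlt : H < E := lt_of_le_of_ne hHE hheq
      have h2 := card_lt_of_lt hlt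
      have h1 : Nat.card H ∣ p ^ 2 := hE2 ▸ Subgroup.card_dvd_of_le hHE
      obtain ⟨i, hi, hi2⟩ := (Nat.dvd_prime_pow hprime).mp h1
      rw [hi2, hE2] at h2
      rw [hi2]
      have hi3 : i < 2 := (Nat.pow_lt_pow_iff_right hp1).mp h2
      calc p ^ i ≤ p ^ 1 := Nat.pow_le_pow_right hprime.pos (by omega)
        _ = p := pow_one p
  have : Nat.card B ≤ p ^ 2 := by
    calc Nat.card B ≤ Nat.card H * p := hcard
      _ ≤ p * p := Nat.mul_le_mul_right p hHcardle
      _ = p ^ 2 := (pow_two p).symm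
  omega

end main

end Cfsg.Agent.H06
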