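import Cfsg.Prelude.Def_LieExceptional
import Cfsg.Agent.Lib.H19.Basic
import Cfsg.Agent.Lib.H13.Basic
import Cfsg.Agent.Lib.H06.Nilp
import Cfsg.Agent.Lib.H06.SCN

/-! Finite nilpotent groups and CN-groups (helper6). -/

set_option autoImplicit false

namespace Cfsg.Agent.H06

open Cfsg

universe u

/-- Elements of coprime orders commute in a finite nilpotent group. -/
theorem commute_of_coprime_order {N : Type u} [Group N] [Finite N] [Group.IsNilpotent N] {x y : N}
    (h : (orderOf x).Coprime (orderOf y)) : Commute x y := by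
  induction hn : Nat.card N using Nat.strong_induction_on generalizing N with
  | _ n ih =>
    by_cases hN : Nontrivial N
    · obtain ⟨z, _, hz1, hzc⟩ := exists_central_of_normal (N := (⊤ : Subgroup N))
        Subgroup.normal_top (by
          intro hb
          exact top_ne_bot hb)
      set Z := Subgroup.center N with hZ
      have hZne : Z ≠ ⊥ := by
        intro hb
        rw [hb, Subgroup.mem_bot] at hzc
        exact hz1 hzc
      have hcard : Nat.card (N ⧸ Z) < n := by
        rw [← hn]
        have h1 := Subgroup.card_eq_card_quotient_mul_card_subgroup Z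
        have h2 : 1 < Nat.card Z := by
          have : Nontrivial Z := (Subgroup.nontrivial_iff_ne_bot Z).mpr hZne
          exact Finite.one_lt_card
        have h3 : 0 < Nat.card (N ⧸ Z) := Nat.card_pos
        rw [h1]
        nlinarith
      have hcop : (orderOf (x : N ⧸ Z)).Coprime (orderOf (y : N ⧸ Z)) :=
        Nat.Coprime.coprime_dvd_left (orderOf_map_dvd (QuotientGroup.mk' Z) x)
          (Nat.Coprime.coprime_dvd_right (orderOf_map_dvd (QuotientGroup.mk' Z) y) h)
      have h1 : Commute (x : N ⧸ Z) (y : N ⧸ Z) := ih _ hcard hcop rfl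
      have hc : x * y * x⁻¹ * y⁻¹ ∈ Z := by
        rw [← QuotientGroup.eq_one_iff]
        have h2 : ((x * y * x⁻¹ * y⁻¹ : N) : N ⧸ Z) =
            (x : N ⧸ Z) * (y : N ⧸ Z) * (x : N ⧸ Z)⁻¹ * (y : N ⧸ Z)⁻¹ := rfl
        rw [h2, h1.eq]
        group
      set c := x * y * x⁻¹ * y⁻¹ with hcdef
      have hcz : ∀ w : N, c * w = w * c := fun w => ((Subgroup.mem_center_iff.mp hc) w).symm
      have hb : c ^ orderOf y = 1 := by
        have h2 : x * y * x⁻¹ = c * y := by rw [hcdef]; group
        have h3 : (x * y * x⁻¹) ^ orderOf y = 1 := by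
          rw [conj_pow, pow_orderOf_eq_one]; group
        rw [h2] at h3
        have h4 : Commute c y := hcz y
        rw [h4.mul_pow, pow_orderOf_eq_one, mul_one] at h3
        exact h3
      have ha : c ^ orderOf x = 1 := by
        have h2 : y * x⁻¹ * y⁻¹ = x⁻¹ * c := by rw [hcdef]; group
        have h3 : (y * x⁻¹ * y⁻¹) ^ orderOf x = 1 := by
          rw [conj_pow, inv_pow, pow_orderOf_eq_one]; group
        rw [h2] at h3
        have h4 : Commute x⁻¹ c := (hcz x⁻¹).symm
        rw [h4.mul_pow, inv_pow, pow_orderOf_eq_one, inv_one, one_mul] at h3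
        exact h3
      have hc1 : c = 1 := (pow_eq_one_iff_of_coprime h).mp ⟨ha, hb⟩
      have h5 : x * y * x⁻¹ * y⁻¹ = 1 := hc1
      rw [mul_inv_eq_one, mul_inv_eq_iff_eq_mul] at h5
      exact h5
    · rw [not_nontrivial_iff_subsingleton] at hN
      have hxy : x = y := Subsingleton.elim x y
      rw [hxy]

section sub

variable {G : Type u} [Group G] [Finite G]

/-- Two elements of a nilpotent subgroup with coprime orders commute. -/
theorem commute_of_coprime_order_sub {H : Subgroup G} (hH : Group.IsNilpotent H) {x y : G}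
    (hx : x ∈ H) (hy : y ∈ H) (h : (orderOf x).Coprime (orderOf y)) : x * y = y * x := by
  have h1 : ((orderOf (⟨x, hx⟩ : H))).Coprime (orderOf (⟨y, hy⟩ : H)) := by
    simpa using h
  have h2 := commute_of_coprime_order h1
  exact congrArg Subtype.val h2.eq

/-- A `p`-subgroup `T` containing `Q` with `Q` of index prime to `p` is equal to `Q`. -/
theorem eq_of_le_of_isPGroup_of_not_dvd_index {p : ℕ} [Fact p.Prime] {Q W : Subgroup G} (hQW : Q ≤ W)
    (hW : IsPGroup p W) (hnd : ¬ p ∣ Q.index) : Q = W := by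
  have h1 := Subgroup.relIndex_mul_index hQW
  obtain ⟨k, hk⟩ := hW.index (Q.subgroupOf W)
  have hk' : Q.relIndex W = p ^ k := hk
  have h2 : p ^ k ∣ Q.index := by
    rw [← hk', ← h1]
    exact Nat.dvd_mul_right _ _
  have hk0 : k = 0 := by
    by_contra hne
    exact hnd ((dvd_pow_self p hne).trans h2)
  rw [hk0, pow_zero] at hk'
  exact le_antisymm hQW ((Subgroup.relIndex_eq_one).mp hk')

/-- An element central in a Sylow `p`-subgroup of a nilpotent subgroup is central there. -/
theorem commute_of_center_sylow {H : Subgroup G} (hH : Group.IsNilpotent H) {p : ℕ} [Fact p.Prime]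
    (P : Sylow p ↥H) {z : G} (hzP : z ∈ (P : Subgroup ↥H).map H.subtype)
    (hz : ∀ a ∈ (P : Subgroup ↥H).map H.subtype, z * a = a * z) {h : G} (hh : h ∈ H) :
    z * h = h * z := by
  obtain ⟨a, b, hab, _, ⟨k, ha⟩, hb, _, _⟩ := H19.exists_primary_decomp p (⟨h, hh⟩ : ↥H)
  have hPn : (P : Subgroup ↥H).Normal :=
    (Group.isNilpotent_of_finite_tfae (G := ↥H)).out 0 3 rfl rfl |>.mp hH p inferInstance P
  have haP : a ∈ (P : Subgroup ↥H) := H19.mem_sylow_of_normal ha P hPn
  obtain ⟨z', hz'P, rfl⟩ := hzP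
  have h1 : (z' : G) * a = a * z' := hz _ ⟨a, haP, rfl⟩
  have hzo : ∃ j, orderOf z' = p ^ j := by
    obtain ⟨j, hj⟩ := P.isPGroup' ⟨z', hz'P⟩
    have h2 : z' ^ p ^ j = 1 := congrArg Subtype.val hj
    obtain ⟨i, _, hi⟩ := (Nat.dvd_prime_pow (Fact.out : p.Prime)).mp (orderOf_dvd_of_pow_eq_one h2)
    exact ⟨i, hi⟩
  obtain ⟨j, hj⟩ := hzo
  have hcop : (orderOf z').Coprime (orderOf b) := by
    rw [hj]
    exact Nat.Coprime.pow_left _ hb.symm
  have h2 := commute_of_coprime_order hcop
  have h3 : (z' : G) * b = b * z' := congrArg Subtype.val h2.eq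
  have h4 : h = (a : G) * b := congrArg Subtype.val hab
  show (z' : G) * h = h * (z' : G)
  rw [h4, ← mul_assoc, h1, mul_assoc, h3, mul_assoc]

end sub

end Cfsg.Agent.H06
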