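import Cfsg.Prelude.Def_LieExceptional
import Cfsg.Prelude.Def_OddOrderLocal
import Cfsg.Agent.Lib.H06.CN
import Cfsg.Agent.Lib.H06.FittingHall
import Cfsg.Agent.Lib.H01.FrobConj
import Cfsg.Agent.Lib.H01.FrobAct
import Cfsg.Agent.Lib.H01.FrobComp2
import Cfsg.Agent.Lib.H01.CoprimeAb
import Cfsg.Agent.Lib.H14.UniqueSub
import Cfsg.Agent.Lib.H19.ZCoprime

/-! Groups acting without fixed points; CN-groups with a normal Sylow subgroup (helper6). -/

set_option autoImplicit false

namespace Cfsg.Agent.H06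

open Cfsg

universe u

variable {G : Type u} [Group G] [Finite G]

/-- A nontrivial Z-group in which elements of distinct prime orders, the second normalizing the
first, commute has a nontrivial centre. -/
theorem exists_central_of_isZGroup {E : Type u} [Group E] [Finite E] [IsZGroup E] [Nontrivial E]
    (hprime : ∀ (v b : E) (r q : ℕ), r.Prime → q.Prime → r ≠ q → orderOf v = r → orderOf b = q →
      b * v * b⁻¹ ∈ Subgroup.zpowers v → v * b = b * v) :
    ∃ z : E, z ≠ 1 ∧ ∀ e : E, z * e = e * z := by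
  classical
  have hcop := IsZGroup.coprime_commutator_index (G := E)
  obtain ⟨T, hT⟩ := Subgroup.exists_right_complement'_of_coprime hcop
  have hclt : commutator E < ⊤ := IsZGroup.commutator_lt E
  have hcard : Nat.card (commutator E) * Nat.card T = Nat.card E := hT.card_mul
  have hidx : (commutator E).index = Nat.card T := by
    have h3 := Subgroup.card_mul_index (commutator E)
    have h4 : 0 < Nat.card (commutator E) := Nat.card_pos
    exact Nat.eq_of_mul_eq_mul_left h4 (h3.trans hcard.symm)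
  rw [hidx] at hcop
  have hT1 : Nat.card T ≠ 1 := by
    intro h
    rw [h, mul_one] at hcard
    exact hclt.ne (Subgroup.eq_top_of_card_eq _ hcard)
  obtain ⟨q, hq, hqT⟩ := Nat.exists_prime_and_dvd hT1
  haveI := Fact.mk hq
  obtain ⟨b', hb'⟩ := exists_prime_orderOf_dvd_card' q hqT
  set b : E := (b' : E) with hbdef
  have hbT : b ∈ T := b'.2
  have hb : orderOf b = q := by
    rw [hbdef, Subgroup.orderOf_coe]
    exact hb'
  have hb1 : b ≠ 1 := by
    intro h
    rw [h, orderOf_one] at hb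
    exact hq.one_lt.ne hb
  have hTab : ∀ x ∈ T, b * x = x * b := by
    intro x hx
    have h3 : b * x * b⁻¹ * x⁻¹ ∈ commutator E := by
      have := Subgroup.commutator_mem_commutator (Subgroup.mem_top b) (Subgroup.mem_top x)
      rw [commutatorElement_def] at this
      exact this
    have h4 : b * x * b⁻¹ * x⁻¹ ∈ T := T.mul_mem (T.mul_mem (T.mul_mem hbT hx) (T.inv_mem hbT)) (T.inv_mem hx)
    have h5 := Subgroup.disjoint_def.mp hT.disjoint h3 h4
    rw [mul_inv_eq_one, mul_inv_eq_iff_eq_mul] at h5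
    exact h5
  haveI hcyc : IsCyclic (commutator E) := IsZGroup.isCyclic_commutator E
  haveI : IsMulCommutative (commutator E) := IsCyclic.commutative
  set A : Subgroup E := Subgroup.zpowers b with hA
  have hAV : A ≤ Subgroup.normalizer ((commutator E : Subgroup E) : Set E) := by
    intro a _
    exact Subgroup.mem_normalizer_iff.mpr (fun h => by
      constructor
      · intro hh
        exact (inferInstance : (commutator E).Normal).conj_mem h hh a
      · intro hh
        have := (inferInstance : (commutator E).Normal).conj_mem _ hh a⁻¹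
        simpa [mul_assoc] using this)
  have hcopA : (Nat.card A).Coprime (Nat.card (commutator E)) := by
    rw [hA, Nat.card_zpowers, hb]
    exact (Nat.Coprime.coprime_dvd_right hqT hcop).symm
  obtain ⟨hd1, hd2⟩ := H01.abelian_decomposition A (commutator E) hAV hcopA
  have hcomm0 : ⁅commutator E, A⁆ = ⊥ := by
    by_contra hne
    obtain ⟨v, hv⟩ := Subgroup.ne_bot_iff_exists_ne_one.mp hne
    have hv1 : (v : E) ≠ 1 := fun h => hv (Subtype.ext h)
    have hvo : orderOf (v : E) ≠ 1 := by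
      rwa [Ne, orderOf_eq_one_iff]
    obtain ⟨r, hr, hrv⟩ := Nat.exists_prime_and_dvd hvo
    haveI := Fact.mk hr
    obtain ⟨c, hc⟩ := hrv
    have hvV : (v : E) ∈ commutator E := by
      have h3 : ⁅commutator E, A⁆ ≤ commutator E := Subgroup.commutator_le_left _ _
      exact h3 v.2
    set v₀ : E := (v : E) ^ c with hv₀
    have hv₀mem : v₀ ∈ ⁅commutator E, A⁆ := Subgroup.pow_mem _ v.2 _
    have hv₀V : v₀ ∈ commutator E := Subgroup.pow_mem _ hvV _
    have hcpos : c ≠ 0 := by
      rintro rfl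
      rw [mul_zero] at hc
      exact (orderOf_pos (v : E)).ne' hc
    have hv₀o : orderOf v₀ = r := by
      rw [hv₀, orderOf_pow' _ hcpos, hc]
      rw [Nat.gcd_mul_left_left]
      exact Nat.mul_div_cancel _ (Nat.pos_of_ne_zero hcpos)
    have hrq : r ≠ q := by
      rintro rfl
      have h3 : r ∣ Nat.card (commutator E) := by
        have h4 : orderOf (⟨v₀, hv₀V⟩ : commutator E) = r := by
          rw [Subgroup.orderOf_mk]; exact hv₀o
        rw [← h4]
        exact orderOf_dvd_natCard _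
      exact hq.one_lt.ne' (Nat.eq_one_of_dvd_coprimes hcop h3 hqT)
    have hconj : b * v₀ * b⁻¹ ∈ Subgroup.zpowers v₀ := by
      have hm : b * v₀ * b⁻¹ ∈ commutator E :=
        (inferInstance : (commutator E).Normal).conj_mem _ hv₀V _
      have h3 : (⟨_, hm⟩ : commutator E) ∈ Subgroup.zpowers (⟨v₀, hv₀V⟩ : commutator E) := by
        apply H19.mem_zpowers_of_orderOf_eq_prime (r := r)
        · rw [Subgroup.orderOf_mk]; exact hv₀o
        · rw [Subgroup.orderOf_mk, ← MulAut.conj_apply, MulEquiv.orderOf_eq]; exact hv₀o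
      obtain ⟨k, hk⟩ := Subgroup.mem_zpowers_iff.mp h3
      exact Subgroup.mem_zpowers_iff.mpr ⟨k, by simpa using congrArg Subtype.val hk⟩
    have hcm := hprime v₀ b r q hr hq hrq hv₀o hb hconj
    have h6 : v₀ ∈ (commutator E ⊓ Subgroup.centralizer (A : Set E)) ⊓ ⁅commutator E, A⁆ := by
      refine Subgroup.mem_inf.mpr ⟨Subgroup.mem_inf.mpr ⟨hv₀V, ?_⟩, hv₀mem⟩
      rw [Subgroup.mem_centralizer_iff]
      intro w hw
      obtain ⟨k, rfl⟩ := Subgroup.mem_zpowers_iff.mp hw
      exact ((Commute.zpow_left (show Commute b v₀ from hcm.symm) k))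
    rw [hd1, Subgroup.mem_bot] at h6
    rw [h6, orderOf_one] at hv₀o
    exact hr.one_lt.ne hv₀o
  have hcomm1 : ∀ c ∈ commutator E, b * c = c * b := by
    intro c hc
    rw [hcomm0, sup_bot_eq] at hd2
    have hc' : c ∈ commutator E ⊓ Subgroup.centralizer (A : Set E) := by
      have h9 : commutator E ≤ commutator E ⊓ Subgroup.centralizer (A : Set E) := hd2.ge
      exact h9 hc
    have h3 := (Subgroup.mem_inf.mp hc').2
    rw [Subgroup.mem_centralizer_iff] at h3
    exact h3 _ (Subgroup.mem_zpowers b)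
  refine ⟨b, hb1, ?_⟩
  intro e
  obtain ⟨⟨⟨c, hc⟩, ⟨t, ht⟩⟩, hct⟩ := hT.2 e
  have hct' : c * t = e := hct
  rw [← hct', ← mul_assoc, hcomm1 c hc, mul_assoc, hTab t ht, mul_assoc]

section fpf

variable (K E : Subgroup G) (hEK : E ≤ Subgroup.normalizer (K : Set G)) (hK : K ≠ ⊥)
  (hfpf : ∀ h ∈ E, h ≠ 1 → K ⊓ Subgroup.centralizer {h} = ⊥)

include hEK hfpf in
/-- An involution in `E` inverts `K`. -/
theorem fpf_inverts {s : G} (hs : s ∈ E) (hs2 : orderOf s = 2) {y : G} (hy : y ∈ K) :
    s * y * s⁻¹ = y⁻¹ := by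
  classical
  have hs1 : s ≠ 1 := by
    intro h
    rw [h, orderOf_one] at hs2
    omega
  have hss : s ^ 2 = 1 := by
    rw [← hs2]
    exact pow_orderOf_eq_one s
  have hsinv : s⁻¹ = s := by
    rw [inv_eq_iff_mul_eq_one, ← sq, hss]
  have hmem : ∀ x ∈ K, s * x * s⁻¹ ∈ K := by
    intro x hx
    have := Subgroup.mem_normalizer_iff.mp (hEK hs) x
    exact this.mp hx
  let f : K → K := fun x => ⟨(x : G)⁻¹ * (s * x * s⁻¹), K.mul_mem (K.inv_mem x.2) (hmem _ x.2)⟩
  have hfinj : Function.Injective f := by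
    intro x y hxy
    have h1 : (x : G)⁻¹ * (s * x * s⁻¹) = (y : G)⁻¹ * (s * y * s⁻¹) := congrArg Subtype.val hxy
    have h2 : (y : G) * (x : G)⁻¹ ∈ K ⊓ Subgroup.centralizer {s} := by
      refine Subgroup.mem_inf.mpr ⟨K.mul_mem y.2 (K.inv_mem x.2), ?_⟩
      rw [Subgroup.mem_centralizer_iff]
      intro w hw
      rw [Set.mem_singleton_iff.mp hw]
      have h3 : s * ((y : G) * (x : G)⁻¹) * s⁻¹ = (y : G) * (x : G)⁻¹ := by
        have h4 : s * (y : G) * s⁻¹ = y * ((x : G)⁻¹ * (s * x * s⁻¹)) := by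
          rw [h1]; group
        calc s * ((y : G) * (x : G)⁻¹) * s⁻¹ = (s * (y : G) * s⁻¹) * (s * (x : G) * s⁻¹)⁻¹ := by group
          _ = _ := by rw [h4]; group
      exact mul_inv_eq_iff_eq_mul.mp h3
    rw [hfpf s hs hs1, Subgroup.mem_bot, mul_inv_eq_one] at h2
    exact Subtype.ext h2.symm
  obtain ⟨x, hx⟩ := (Finite.injective_iff_surjective.mp hfinj) ⟨y, hy⟩
  have hx' : (x : G)⁻¹ * (s * x * s⁻¹) = y := congrArg Subtype.val hx
  rw [← hx']
  have h2 : s * (s * (x : G) * s⁻¹) * s⁻¹ = x := by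
    calc s * (s * (x : G) * s⁻¹) * s⁻¹ = s ^ 2 * x * (s ^ 2)⁻¹ := by
          rw [sq, mul_inv_rev]; group
      _ = x := by rw [hss]; group
  calc s * ((x : G)⁻¹ * (s * x * s⁻¹)) * s⁻¹
      = (s * (x : G) * s⁻¹)⁻¹ * (s * (s * (x : G) * s⁻¹) * s⁻¹) := by group
    _ = _ := by rw [h2]; group

include hEK hK hfpf in
/-- `E` has at most one involution. -/
theorem fpf_unique_involution {s t : G} (hs : s ∈ E) (ht : t ∈ E) (hs2 : orderOf s = 2)
    (ht2 : orderOf t = 2) : s = t := by
  by_contra hne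
  have htinv : t⁻¹ = t := by
    have htt : t ^ 2 = 1 := by
      rw [← ht2]
      exact pow_orderOf_eq_one t
    rw [inv_eq_iff_mul_eq_one, ← sq, htt]
  have hst : s * t ≠ 1 := by
    intro h
    apply hne
    have := mul_eq_one_iff_eq_inv.mp h
    rw [this, htinv]
  have h1 := hfpf (s * t) (E.mul_mem hs ht) hst
  apply hK
  rw [eq_bot_iff]
  intro y hy
  have h2 : y ∈ K ⊓ Subgroup.centralizer {s * t} := by
    refine Subgroup.mem_inf.mpr ⟨hy, ?_⟩
    rw [Subgroup.mem_centralizer_iff]
    intro w hw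
    rw [Set.mem_singleton_iff.mp hw]
    have h3 : (s * t) * y * (s * t)⁻¹ = y := by
      calc (s * t) * y * (s * t)⁻¹ = s * (t * y * t⁻¹) * s⁻¹ := by group
        _ = s * y⁻¹ * s⁻¹ := by rw [fpf_inverts K E hEK hfpf ht ht2 hy]
        _ = (s * y * s⁻¹)⁻¹ := by group
        _ = y := by rw [fpf_inverts K E hEK hfpf hs hs2 hy]; group
    exact mul_inv_eq_iff_eq_mul.mp h3
  rw [h1] at h2
  exact h2

include hEK hK hfpf in
/-- A `q`-subgroup of `E` has a unique subgroup of order `q`. -/
theorem fpf_uniqueP {q : ℕ} [hq : Fact q.Prime] (S : Subgroup G) (hSE : S ≤ E) (hS : IsPGroup q S) :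
    H14.UniqueP q S := by
  classical
  intro x y hx hy
  have hqp : q.Prime := hq.out
  haveI : Nontrivial S := by
    refine ⟨⟨x, 1, ?_⟩⟩
    intro h
    rw [h, orderOf_one] at hx
    exact hqp.one_lt.ne hx
  haveI : Nontrivial (Subgroup.center S) := hS.center_nontrivial
  have hZp : IsPGroup q (Subgroup.center S) := by
    intro g
    obtain ⟨k, hk⟩ := hS (g : S)
    exact ⟨k, Subtype.ext hk⟩
  have hqd : q ∣ Nat.card (Subgroup.center S) := by
    obtain ⟨n, hn⟩ := IsPGroup.iff_card.mp hZp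
    have hn0 : n ≠ 0 := by
      rintro rfl
      have : Nat.card (Subgroup.center S) = 1 := by simpa using hn
      have h2 : 1 < Nat.card (Subgroup.center S) := Finite.one_lt_card
      omega
    rw [hn]
    exact dvd_pow_self q hn0
  obtain ⟨z, hz⟩ := exists_prime_orderOf_dvd_card' q hqd
  have hcop : (Nat.card K).Coprime q := by
    have h1 := H01.frob_coprime K E hEK hfpf
    have hqE : q ∣ Nat.card E := by
      have h2 : q ∣ Nat.card S := by
        rw [← hx]
        exact orderOf_dvd_natCard x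
      exact h2.trans (Subgroup.card_dvd_of_le hSE)
    have h3 : Nat.Coprime q (Nat.card K) := Nat.Coprime.coprime_dvd_left hqE h1
    exact h3.symm
  set z' : G := ((z : S) : G) with hz'
  have hz'o : orderOf z' = q := by
    rw [hz', Subgroup.orderOf_coe, Subgroup.orderOf_coe]
    exact hz
  have hz'E : z' ∈ E := hSE (z : S).2
  have hz'1 : z' ≠ 1 := by
    intro h
    rw [h, orderOf_one] at hz'o
    exact hqp.one_lt.ne hz'o
  have hkey : ∀ w : S, orderOf w = q → (w : G) ∈ Subgroup.zpowers z' := by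
    intro w hw
    by_contra hnot
    have hwo : orderOf (w : G) = q := by
      rw [Subgroup.orderOf_coe]
      exact hw
    have hcomm : Commute (w : G) z' := by
      have h1 := (Subgroup.mem_center_iff.mp z.2) w
      have h2 := congrArg Subtype.val h1
      exact (Commute.eq (show Commute (w : G) z' from h2))
    refine H01.false_of_pair K hK hcomm (by rw [← hwo]; exact pow_orderOf_eq_one _)
      (by rw [← hz'o]; exact pow_orderOf_eq_one _) (hEK (hSE w.2)) (hEK hz'E) hcop ?_
    rintro x' (rfl | ⟨i, _, rfl⟩)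
    · exact hfpf _ hz'E hz'1
    · refine hfpf _ (E.mul_mem (hSE w.2) (E.pow_mem hz'E i)) ?_
      intro h
      apply hnot
      have h2 := mul_eq_one_iff_eq_inv.mp h
      rw [h2]
      exact Subgroup.inv_mem _ (Subgroup.npow_mem_zpowers _ _)
  have hxz := hkey x hx
  have hyz := hkey y hy
  have hxo : orderOf (x : G) = q := by
    rw [Subgroup.orderOf_coe]
    exact hx
  have heq : Subgroup.zpowers (x : G) = Subgroup.zpowers z' := by
    apply Subgroup.eq_of_le_of_card_ge (Subgroup.zpowers_le.mpr hxz)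
    rw [Nat.card_zpowers, Nat.card_zpowers, hz'o, hxo]
  have hy2 : (y : G) ∈ Subgroup.zpowers (x : G) := by
    rw [heq]
    exact hyz
  obtain ⟨k, hk⟩ := Subgroup.mem_zpowers_iff.mp hy2
  exact Subgroup.mem_zpowers_iff.mpr ⟨k, Subtype.ext (by simpa using hk)⟩

include hEK hK hfpf in
/-- Odd Sylow subgroups of `E` are cyclic. -/
theorem fpf_isCyclic_of_odd {q : ℕ} [Fact q.Prime] (hq2 : q ≠ 2) (S : Subgroup G) (hSE : S ≤ E)
    (hS : IsPGroup q S) : IsCyclic S :=
  H14.isCyclic_of_uniqueP_odd hq2 _ S rfl hS (fpf_uniqueP K E hEK hK hfpf S hSE hS)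

include hEK hK hfpf in
/-- `E` is a Z-group if it has odd order. -/
theorem fpf_isZGroup (h2 : ¬ 2 ∣ Nat.card E) : IsZGroup E := by
  refine ⟨fun q hq P => ?_⟩
  haveI := Fact.mk hq
  by_cases hq2 : q = 2
  · subst hq2
    have hP : IsPGroup 2 (P : Subgroup E) := P.isPGroup'
    have h3 : Nat.card (P : Subgroup E) ∣ Nat.card E := Subgroup.card_subgroup_dvd_card _
    obtain ⟨n, hn⟩ := IsPGroup.iff_card.mp hP
    have hn0 : n = 0 := by
      by_contra hne
      apply h2
      rw [hn] at h3
      exact (dvd_pow_self 2 hne).trans h3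
    rw [hn0, pow_zero] at hn
    haveI : Subsingleton (P : Subgroup E) := (Nat.card_eq_one_iff_unique.mp hn).1
    infer_instance
  · set S : Subgroup G := (P : Subgroup E).map E.subtype with hS
    have hSE : S ≤ E := by
      rintro _ ⟨x, _, rfl⟩
      exact x.2
    let e : (P : Subgroup E) ≃* S := (P : Subgroup E).equivMapOfInjective E.subtype E.subtype_injective
    have hSp : IsPGroup q S := IsPGroup.of_surjective P.isPGroup' e.toMonoidHom e.surjective
    haveI := fpf_isCyclic_of_odd K E hEK hK hfpf hq2 S hSE hSp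
    exact isCyclic_of_surjective e.symm.toMonoidHom e.symm.surjective

include hEK hK hfpf in
/-- A group acting without fixed points has a nontrivial centre. -/
theorem exists_central_of_fpf (hE : E ≠ ⊥) : ∃ z ∈ E, z ≠ 1 ∧ ∀ e ∈ E, z * e = e * z := by
  classical
  by_cases h2 : 2 ∣ Nat.card E
  · haveI : Fact (Nat.Prime 2) := ⟨Nat.prime_two⟩
    obtain ⟨t, ht⟩ := exists_prime_orderOf_dvd_card' 2 h2
    have ht' : orderOf (t : G) = 2 := by rwa [Subgroup.orderOf_coe]
    refine ⟨t, t.2, ?_, ?_⟩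
    · intro h
      rw [h, orderOf_one] at ht'
      omega
    · intro e he
      have h1 : orderOf (e * (t : G) * e⁻¹) = 2 := by
        rw [← ht', ← MulAut.conj_apply, MulEquiv.orderOf_eq]
      have h3 := fpf_unique_involution K E hEK hK hfpf (E.mul_mem (E.mul_mem he t.2) (E.inv_mem he))
        t.2 h1 ht'
      exact (mul_inv_eq_iff_eq_mul.mp h3).symm
  · haveI : IsZGroup E := fpf_isZGroup K E hEK hK hfpf h2
    haveI : Nontrivial E := (Subgroup.nontrivial_iff_ne_bot E).mpr hE
    obtain ⟨z, hz1, hz⟩ := exists_central_of_isZGroup (E := E) (by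
      intro v b r q hr hq hrq hv hb hn
      have hvG : orderOf (v : G) = r := by rwa [Subgroup.orderOf_coe]
      have hbG : orderOf (b : G) = q := by rwa [Subgroup.orderOf_coe]
      have hnG : (b : G) * v * (b : G)⁻¹ ∈ Subgroup.zpowers (v : G) := by
        obtain ⟨k, hk⟩ := Subgroup.mem_zpowers_iff.mp hn
        exact Subgroup.mem_zpowers_iff.mpr ⟨k, by simpa using (congrArg Subtype.val hk)⟩
      exact Subtype.ext (H01.commute_of_primes K E hEK hK hfpf v.2 b.2 hr hq hrq hvG hbG hnG))
    refine ⟨z, z.2, fun h => hz1 (Subtype.ext h), fun e he => ?_⟩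
    exact congrArg Subtype.val (hz ⟨e, he⟩)

include hEK hK hfpf in
/-- In a CN-group a subgroup acting without fixed points is nilpotent. -/
theorem nilpotent_of_fpf (hCN : IsCNGroup G) : Group.IsNilpotent E := by
  by_cases hE : E = ⊥
  · subst hE
    infer_instance
  · obtain ⟨z, _, hz1, hz⟩ := exists_central_of_fpf K E hEK hK hfpf hE
    have h1 := hCN z hz1
    refine nilpotent_of_le (L := Subgroup.centralizer ({z} : Set G)) ?_ h1
    intro e he
    rw [Subgroup.mem_centralizer_iff]
    intro w hw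
    rw [Set.mem_singleton_iff.mp hw]
    exact hz e he

end fpf

section hall

/-- A nontrivial nilpotent subgroup has a nontrivial central element. -/
theorem exists_center_of_nilp (H : Subgroup G) (hH : Group.IsNilpotent H) (hne : H ≠ ⊥) :
    ∃ z ∈ H, z ≠ 1 ∧ ∀ h ∈ H, z * h = h * z := by
  haveI : Nontrivial H := (Subgroup.nontrivial_iff_ne_bot H).mpr hne
  obtain ⟨z, _, hz1, hzc⟩ := exists_central_of_normal (N := (⊤ : Subgroup H)) Subgroup.normal_top
    (by
      intro hb
      exact top_ne_bot hb)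
  refine ⟨z, z.2, fun h => hz1 (Subtype.ext h), fun h hh => ?_⟩
  have := (Subgroup.mem_center_iff.mp hzc) ⟨h, hh⟩
  exact (congrArg Subtype.val this).symm

theorem mem_centralizer_singleton' {z x : G} (h : z * x = x * z) :
    x ∈ Subgroup.centralizer ({z} : Set G) := by
  rw [Subgroup.mem_centralizer_iff]
  intro w hw
  rw [Set.mem_singleton_iff.mp hw]
  exact h

/-- In a CN-group an element of order prime to the order of a self-centralizing nilpotent subgroup
`H` acts on `H` without fixed points. -/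
theorem fpf_of_CN (hCN : IsCNGroup G) (H : Subgroup G) (hH : Group.IsNilpotent H) (hne : H ≠ ⊥)
    (hC : Subgroup.centralizer (H : Set G) ≤ H) {e : G} (he1 : e ≠ 1)
    (hcop : (orderOf e).Coprime (Nat.card H)) : H ⊓ Subgroup.centralizer {e} = ⊥ := by
  rw [eq_bot_iff]
  intro x hx
  obtain ⟨hxH, hxC⟩ := Subgroup.mem_inf.mp hx
  rw [Subgroup.mem_bot]
  by_contra hx1
  have hxe : x * e = e * x := by
    rw [Subgroup.mem_centralizer_iff] at hxC
    exact (hxC e rfl).symm
  obtain ⟨z, hzH, hz1, hz⟩ := exists_center_of_nilp H hH hne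
  have hordH : ∀ h ∈ H, orderOf h ∣ Nat.card H := fun h hh => by
    have := orderOf_dvd_natCard (⟨h, hh⟩ : H)
    rwa [Subgroup.orderOf_mk] at this
  have h1 : e * z = z * e := by
    exact commute_of_coprime_order_sub (hCN x hx1) (mem_centralizer_singleton' hxe)
      (mem_centralizer_singleton' (hz x hxH).symm)
      (Nat.Coprime.coprime_dvd_right (hordH z hzH) hcop)
  have h2 : e ∈ Subgroup.centralizer (H : Set G) := by
    rw [Subgroup.mem_centralizer_iff]
    intro h hh
    have h3 : e * h = h * e := by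
      apply commute_of_coprime_order_sub (hCN z hz1)
        (mem_centralizer_singleton' h1.symm) (mem_centralizer_singleton' (hz h hh))
        (Nat.Coprime.coprime_dvd_right (hordH h hh) hcop)
    exact h3.symm
  have h4 := hordH e (hC h2)
  have h5 : orderOf e = 1 := Nat.Coprime.eq_one_of_dvd hcop h4
  exact he1 (orderOf_eq_one_iff.mp h5)

/-- In a CN-group, `M_F` (if nontrivial) contains its centralizer. -/
theorem centralizer_fittingHall_le (hCN : IsCNGroup G) (hne : fittingHall G ≠ ⊥) :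
    Subgroup.centralizer (fittingHall G : Set G) ≤ fittingHall G := by
  classical
  set H := fittingHall G with hH
  have hHnil : Group.IsNilpotent H := fittingHall_nilpotent
  have hHcop : (Nat.card H).Coprime H.index := fittingHall_coprime
  haveI hHn : H.Normal := fittingHall_normal G
  obtain ⟨z, hzH, hz1, hz⟩ := exists_center_of_nilp H hHnil hne
  have hordH : ∀ h ∈ H, orderOf h ∣ Nat.card H := fun h hh => by
    have := orderOf_dvd_natCard (⟨h, hh⟩ : H)
    rwa [Subgroup.orderOf_mk] at this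
  set Y := Subgroup.centralizer (H : Set G) with hY
  have hYnil : Group.IsNilpotent Y := by
    refine nilpotent_of_le (L := Subgroup.centralizer ({z} : Set G)) ?_ (hCN z hz1)
    intro y hy
    rw [hY, Subgroup.mem_centralizer_iff] at hy
    exact mem_centralizer_singleton' (hy z hzH)
  haveI hYn : Y.Normal := inferInstance
  intro y hy
  by_contra hyH
  -- a non-trivial element of `Y` of order dividing the index
  set w := y ^ Nat.card H with hw
  have hwY : w ∈ Y := Y.pow_mem hy _
  have hwH : w ∉ H := by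
    intro h
    apply hyH
    rw [← QuotientGroup.eq_one_iff]
    have h1 : ((y : G) : G ⧸ H) ^ Nat.card H = 1 := by
      rw [← QuotientGroup.mk_pow, QuotientGroup.eq_one_iff]
      exact h
    have h2 : ((y : G) : G ⧸ H) ^ H.index = 1 := by
      rw [Subgroup.index]
      exact pow_card_eq_one'
    exact (pow_eq_one_iff_of_coprime hHcop).mp ⟨h1, h2⟩
  have hwk : w ^ H.index = 1 := by
    rw [hw, ← pow_mul, mul_comm, pow_mul]
    have h1 : y ^ H.index ∈ H := Subgroup.pow_index_mem H y
    have h2 := pow_card_eq_one' (x := (⟨_, h1⟩ : H))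
    exact congrArg Subtype.val h2
  have hw1 : w ≠ 1 := fun h => hwH (h ▸ H.one_mem)
  have hwo : orderOf w ≠ 1 := by rwa [Ne, orderOf_eq_one_iff]
  obtain ⟨q, hq, hqw⟩ := Nat.exists_prime_and_dvd hwo
  haveI := Fact.mk hq
  have hqk : q ∣ H.index := hqw.trans (orderOf_dvd_of_pow_eq_one hwk)
  have hqn : ¬ q ∣ Nat.card H := fun h => hq.one_lt.ne' (Nat.eq_one_of_dvd_coprimes hHcop h hqk)
  obtain ⟨c, hc⟩ := hqw
  have hcpos : c ≠ 0 := by
    rintro rfl
    rw [mul_zero] at hc
    exact (orderOf_pos w).ne' hc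
  set w₀ := w ^ c with hw₀
  have hw₀o : orderOf w₀ = q := by
    rw [hw₀, orderOf_pow' _ hcpos, hc, Nat.gcd_mul_left_left]
    exact Nat.mul_div_cancel _ (Nat.pos_of_ne_zero hcpos)
  have hw₀Y : w₀ ∈ Y := Y.pow_mem hwY _
  obtain ⟨Q₁⟩ : Nonempty (Sylow q Y) := inferInstance
  have hQ₁n : (Q₁ : Subgroup Y).Normal :=
    (Group.isNilpotent_of_finite_tfae (G := Y)).out 0 3 rfl rfl |>.mp hYnil q inferInstance Q₁
  have hQ₁c : (Q₁ : Subgroup Y).Characteristic := Sylow.characteristic_of_normal Q₁ hQ₁n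
  set Q₀ : Subgroup G := (Q₁ : Subgroup Y).map Y.subtype with hQ₀
  have hQ₀n : Q₀.Normal := inferInstance
  have hQ₀p : IsPGroup q Q₀ := Q₁.isPGroup'.map _
  have hqmem : ∀ x ∈ Y, (∃ k, orderOf x = q ^ k) → x ∈ Q₀ := by
    rintro x hxY ⟨k, hk⟩
    refine ⟨⟨x, hxY⟩, ?_, rfl⟩
    exact H19.mem_sylow_of_normal (k := k) (by rw [Subgroup.orderOf_mk]; exact hk) Q₁ hQ₁n
  have hw₀Q : w₀ ∈ Q₀ := hqmem _ hw₀Y ⟨1, by rw [pow_one]; exact hw₀o⟩
  have hQ₀ne : Q₀ ≠ ⊥ := by
    intro hb
    rw [hb, Subgroup.mem_bot] at hw₀Q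
    rw [hw₀Q, orderOf_one] at hw₀o
    exact hq.one_lt.ne hw₀o
  obtain ⟨S, hS⟩ := hQ₀p.exists_le_sylow
  have hSp : IsPGroup q (S : Subgroup G) := S.isPGroup'
  -- a central element of `S` in `Q₀`
  haveI hSnil : Group.IsNilpotent (S : Subgroup G) := hSp.isNilpotent
  have hN : (Q₀.subgroupOf (S : Subgroup G)) ≠ ⊥ := by
    intro hb
    apply hQ₀ne
    rw [eq_bot_iff]
    intro x hx
    have h1 : (⟨x, hS hx⟩ : (S : Subgroup G)) ∈ Q₀.subgroupOf (S : Subgroup G) :=
      Subgroup.mem_subgroupOf.mpr hx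
    rw [hb, Subgroup.mem_bot] at h1
    exact Subgroup.mem_bot.mpr (congrArg Subtype.val h1)
  obtain ⟨z₁', hz₁N, hz₁1, hz₁c⟩ := exists_central_of_normal (N := Q₀.subgroupOf (S : Subgroup G))
    inferInstance hN
  have hz₁Q : (z₁' : G) ∈ Q₀ := Subgroup.mem_subgroupOf.mp hz₁N
  have hz₁ne : (z₁' : G) ≠ 1 := fun h => hz₁1 (Subtype.ext h)
  have hQ₀Y : Q₀ ≤ Y := by
    rintro _ ⟨x, _, rfl⟩
    exact x.2
  have hz₁Y : (z₁' : G) ∈ Y := hQ₀Y hz₁Q
  have hSY : (S : Subgroup G) ≤ Y := by
    intro s hs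
    rw [hY, Subgroup.mem_centralizer_iff]
    intro h hh
    have hz₁h : (z₁' : G) * h = h * z₁' := by
      have := (Subgroup.mem_centralizer_iff.mp hz₁Y) h hh
      exact this.symm
    have hz₁s : (z₁' : G) * s = s * z₁' := by
      have := (Subgroup.mem_center_iff.mp hz₁c) ⟨s, hs⟩
      exact (congrArg Subtype.val this).symm
    have hso : ∃ k, orderOf s = q ^ k := by
      obtain ⟨k, hk⟩ := hSp ⟨s, hs⟩
      have h2 : s ^ q ^ k = 1 := congrArg Subtype.val hk
      obtain ⟨i, _, hi⟩ := (Nat.dvd_prime_pow hq).mp (orderOf_dvd_of_pow_eq_one h2)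
      exact ⟨i, hi⟩
    obtain ⟨k, hk⟩ := hso
    have hcop2 : (orderOf h).Coprime (orderOf s) := by
      rw [hk]
      apply Nat.Coprime.pow_right
      exact Nat.Coprime.coprime_dvd_left (hordH h hh) ((Nat.Prime.coprime_iff_not_dvd hq).mpr hqn).symm
    exact commute_of_coprime_order_sub (hCN _ hz₁ne) (mem_centralizer_singleton' hz₁h)
      (mem_centralizer_singleton' hz₁s) hcop2
  have hSQ : (S : Subgroup G) ≤ Q₀ := by
    intro s hs
    apply hqmem s (hSY hs)
    obtain ⟨k, hk⟩ := hSp ⟨s, hs⟩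
    have h2 : s ^ q ^ k = 1 := congrArg Subtype.val hk
    obtain ⟨i, _, hi⟩ := (Nat.dvd_prime_pow hq).mp (orderOf_dvd_of_pow_eq_one h2)
    exact ⟨i, hi⟩
  have hSn : (S : Subgroup G).Normal := by
    have : (S : Subgroup G) = Q₀ := le_antisymm hSQ hS
    rw [this]
    exact hQ₀n
  have hSH : (S : Subgroup G) ≤ H := le_fittingHall hSn hSnil S.card_coprime_index
  have hw₀H := hSH (hS hw₀Q)
  apply hqn
  rw [← hw₀o]
  exact hordH _ hw₀H

/-- A complement acting without fixed points on a normal subgroup is a Frobenius complement. -/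
theorem isFrobeniusComplement_of_fpf (H E : Subgroup G) [hHn : H.Normal] (hc : Subgroup.IsComplement' H E)
    (hH : H ≠ ⊥) (hE : E ≠ ⊥) (hfpf : ∀ e ∈ E, e ≠ 1 → H ⊓ Subgroup.centralizer {e} = ⊥) :
    IsFrobeniusComplement E := by
  classical
  refine ⟨hE, ?_, ?_⟩
  · intro htop
    apply hH
    rw [eq_bot_iff]
    intro x hx
    have := Subgroup.disjoint_def.mp hc.disjoint hx (by rw [htop]; exact Subgroup.mem_top x)
    exact Subgroup.mem_bot.mpr this
  · intro g hg
    rw [eq_bot_iff]
    intro x hx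
    obtain ⟨hxE, hxg⟩ := Subgroup.mem_inf.mp hx
    rw [Subgroup.mem_bot]
    by_contra hx1
    rw [Subgroup.mem_pointwise_smul_iff_inv_smul_mem] at hxg
    have he' : g⁻¹ * x * g ∈ E := by
      have : (MulAut.conj g)⁻¹ • x = g⁻¹ * x * g := by
        simp [MulAut.smul_def, MulAut.conj_symm_apply, mul_assoc]
      rwa [this] at hxg
    obtain ⟨⟨⟨h, hh⟩, ⟨f, hf⟩⟩, hgf⟩ := hc.2 g
    have hgf' : h * f = g := hgf
    set e'' := f * (g⁻¹ * x * g) * f⁻¹ with he''
    have he''E : e'' ∈ E := E.mul_mem (E.mul_mem hf he') (E.inv_mem hf)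
    have hxeq : x = h * e'' * h⁻¹ := by
      rw [he'', ← hgf']
      group
    have h1 : x * e''⁻¹ ∈ H := by
      have h2 : x * e''⁻¹ = h * (e'' * h⁻¹ * e''⁻¹) := by
        rw [hxeq]
        group
      rw [h2]
      exact H.mul_mem hh (hHn.conj_mem _ (H.inv_mem hh) _)
    have h2 : x * e''⁻¹ ∈ E := E.mul_mem hxE (E.inv_mem he''E)
    have h3 := Subgroup.disjoint_def.mp hc.disjoint h1 h2
    have hxe : x = e'' := mul_inv_eq_one.mp h3
    have h4 : h ∈ H ⊓ Subgroup.centralizer {x} := by
      refine Subgroup.mem_inf.mpr ⟨hh, ?_⟩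
      rw [Subgroup.mem_centralizer_iff]
      intro w hw
      rw [Set.mem_singleton_iff.mp hw]
      have h5 : x * h = h * x := by
        conv_rhs => rw [hxe]
        rw [hxeq, ← hxe]
        group
      exact h5
    rw [hfpf x hxE hx1, Subgroup.mem_bot] at h4
    apply hg
    rw [← hgf', h4, one_mul]
    exact hf

/-- The structure of a CN-group with `M_F ≠ 1`, `M_F ≠ G`. -/
theorem cn_hall_structure (hCN : IsCNGroup G) (hne : fittingHall G ≠ ⊥) (hnt : fittingHall G ≠ ⊤) :
    ∃ E : Subgroup G, Subgroup.IsComplement' (fittingHall G) E ∧ IsFrobeniusComplement E ∧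
      (∀ e ∈ E, e ≠ 1 → fittingHall G ⊓ Subgroup.centralizer ({e} : Set G) = ⊥) ∧
      Group.IsNilpotent E := by
  classical
  have hHcop : (Nat.card (fittingHall G)).Coprime (fittingHall G).index := fittingHall_coprime
  have hHnil : Group.IsNilpotent (fittingHall G) := fittingHall_nilpotent
  obtain ⟨E, hE⟩ := Subgroup.exists_right_complement'_of_coprime hHcop
  have hcard : Nat.card (fittingHall G) * Nat.card E = Nat.card G := hE.card_mul
  have hidx : (fittingHall G).index = Nat.card E := by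
    have h3 := Subgroup.card_mul_index (fittingHall G)
    have h4 : 0 < Nat.card (fittingHall G) := Nat.card_pos
    exact Nat.eq_of_mul_eq_mul_left h4 (h3.trans hcard.symm)
  have hfpf : ∀ e ∈ E, e ≠ 1 → fittingHall G ⊓ Subgroup.centralizer ({e} : Set G) = ⊥ := by
    intro e he he1
    refine fpf_of_CN hCN _ hHnil hne (centralizer_fittingHall_le hCN hne) he1 ?_
    have h1 : orderOf e ∣ Nat.card E := by
      have := orderOf_dvd_natCard (⟨e, he⟩ : E)
      rwa [Subgroup.orderOf_mk] at this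
    rw [hidx] at hHcop
    exact (Nat.Coprime.coprime_dvd_right h1 hHcop).symm
  have hEbot : E ≠ ⊥ := by
    intro hb
    apply hnt
    rw [hb, Subgroup.card_bot, mul_one] at hcard
    exact Subgroup.eq_top_of_card_eq _ hcard
  haveI : (fittingHall G).Normal := fittingHall_normal G
  refine ⟨E, hE, isFrobeniusComplement_of_fpf _ _ hE hne hEbot hfpf, hfpf, ?_⟩
  refine nilpotent_of_fpf (fittingHall G) E ?_ hne hfpf hCN
  intro e _
  rw [Subgroup.mem_normalizer_iff]
  intro h
  constructor
  · intro hh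
    exact (fittingHall_normal G).conj_mem h hh e
  · intro hh
    have := (fittingHall_normal G).conj_mem _ hh e⁻¹
    simpa [mul_assoc] using this

end hall

end Cfsg.Agent.H06
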