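import Cfsg.Agent.Lib.H06.CoherK3

/-!
# Several TI subgroups with Frobenius normalizers: counting and the final inequality
-/

set_option autoImplicit false
set_option linter.style.haveILetI false
set_option linter.unusedSectionVars false
set_option linter.unusedVariables false

namespace Cfsg.Agent.H06

open Cfsg Cfsg.Agent.H21 Cfsg.Agent.H04.TIF
open scoped ComplexConjugate

universe u

section Numeric

theorem int_sq_ge_one {z : ℤ} (hz : z ≠ 0) : (1 : ℝ) ≤ (z : ℝ) ^ 2 := by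
  have h1 : (1 : ℤ) ≤ z ^ 2 := by
    have := sq_pos_of_ne_zero hz
    omega
  exact_mod_cast h1

theorem int_sq_mul_ge {b : ℤ} {m : ℝ} (hm : 2 ≤ m) : 0 ≤ (b : ℝ) ^ 2 * m - 2 * (b : ℝ) := by
  have h1 : b ≤ b ^ 2 := by
    rcases le_or_gt b 0 with h | h
    · nlinarith [sq_nonneg b]
    · nlinarith
  have h2 : (b : ℝ) ≤ (b : ℝ) ^ 2 := by exact_mod_cast h1
  have h3 : 0 ≤ (b : ℝ) ^ 2 := sq_nonneg _
  nlinarith

/-- The real-number core of the final contradiction. -/
theorem numeric_core (G N E M b F2 AA BB TT : ℝ) (hG : 0 < G) (hN : 0 < N) (hNR : N = E * M + 1)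
    (hE2 : 2 ≤ E) (hM2 : 2 ≤ M) (hb : 0 ≤ b ^ 2 * M - 2 * b) (hf2 : 1 ≤ F2)
    (h1 : G = 1 + G * (M / N) + G * BB)
    (h2 : G = F2 + G * AA + (G / N) * (N - E - 2 * b + b ^ 2 * M))
    (hcol : TT ≤ E - 1 + 2 * b - b ^ 2 * M)
    (hcase : BB ≤ AA ∧ TT = 0 ∨ BB < AA + TT / N) : False := by
  set c : ℝ := G / N with hc
  have hcpos : 0 < c := div_pos hG hN
  have e1 : G * (M / N) = c * M := by rw [hc]; ring
  have e2 : G = c * N := by rw [hc]; field_simp
  rw [e1] at h1
  have h3 : G * (BB - AA) = F2 - 1 + c * (N - M - E - 2 * b + b ^ 2 * M) := by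
    have e3 : c * N = G := e2.symm
    have e4 : c * (N - M - E - 2 * b + b ^ 2 * M) = c * N - c * M - c * (E + 2 * b - b ^ 2 * M) := by ring
    rw [e4, e3]
    have e5 : c * (N - E - 2 * b + b ^ 2 * M) = c * N - c * (E + 2 * b - b ^ 2 * M) := by ring
    rw [e5, e3] at h2
    linarith
  rcases hcase with ⟨hle, -⟩ | hlt
  · have h4 : G * (BB - AA) ≤ 0 := mul_nonpos_of_nonneg_of_nonpos hG.le (by linarith)
    have h5 : c * (N - M - E - 2 * b + b ^ 2 * M) ≤ 0 := by linarith
    have h6 : N - M - E - 2 * b + b ^ 2 * M ≤ 0 := by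
      by_contra h
      push Not at h
      have := mul_pos hcpos h
      linarith
    rw [hNR] at h6
    have h7 : 0 < (E - 1) * (M - 1) := mul_pos (by linarith) (by linarith)
    nlinarith
  · have h4 : G * (BB - AA) < c * TT := by
      have h5 : BB - AA < TT / N := by linarith
      have h6 := mul_lt_mul_of_pos_left h5 hG
      have e3 : G * (TT / N) = c * TT := by rw [hc]; ring
      rwa [e3] at h6
    have h5 : c * (N - M - E - 2 * b + b ^ 2 * M - TT) < 0 := by
      have e3 : c * (N - M - E - 2 * b + b ^ 2 * M - TT) = c * (N - M - E - 2 * b + b ^ 2 * M) - c * TT := by ring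
      rw [e3]
      linarith
    have h6 : N - M - E - 2 * b + b ^ 2 * M - TT < 0 := by
      by_contra h
      push Not at h
      have := mul_nonneg hcpos.le h
      linarith
    rw [hNR] at h6
    have h7 : 0 ≤ (E - 1) * (M - 2) := mul_nonneg (by linarith) (by linarith)
    nlinarith

/-- The final numerical contradiction. -/
theorem numeric_final {ι : Type*} [Fintype ι] [DecidableEq ι] (j : ι) (g : ℕ) (hg : 0 < g)
    (n e m idx : ι → ℕ) (w w' : ι → ℤ) (b f : ℤ)
    (hn : ∀ i, n i = e i * m i + 1) (hidx : ∀ i, idx i * (n i * e i) = g)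
    (hm : ∀ i, 0 < m i)
    (hpart : (g : ℝ) = 1 + ∑ i, (idx i : ℝ) * ((n i : ℝ) - 1))
    (hrow : (g : ℝ) = (f : ℝ) ^ 2 + ∑ i ∈ Finset.univ.erase j, (idx i : ℝ) * (((n i : ℝ) - 1) * (w' i : ℝ) ^ 2) +
      (idx j : ℝ) * ((n j : ℝ) * (e j : ℝ) - (e j : ℝ) ^ 2 - 2 * (b : ℝ) * (e j : ℝ) + (b : ℝ) ^ 2 * ((n j : ℝ) - 1)))
    (hcol : ∑ i ∈ Finset.univ.erase j, (m i : ℝ) * (w i : ℝ) ^ 2 ≤
      (e j : ℝ) - 1 + 2 * (b : ℝ) - (b : ℝ) ^ 2 * (m j : ℝ))
    (hpar : ∀ i, i ≠ j → w i ≠ 0 ∨ w' i ≠ 0)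
    (hmin : ∀ i, i ≠ j → n j < n i) (hf : f ≠ 0) (he2 : 2 ≤ e j) (hm2 : 2 ≤ m j) : False := by
  classical
  have hGpos : (0 : ℝ) < (g : ℝ) := by exact_mod_cast hg
  have hnpos : ∀ i, (0 : ℝ) < (n i : ℝ) := fun i => by
    have : 0 < n i := by rw [hn i]; omega
    exact_mod_cast this
  have hnR : ∀ i, (n i : ℝ) = (e i : ℝ) * (m i : ℝ) + 1 := fun i => by
    rw [hn i]; push_cast; ring
  have hidxR : ∀ i, (idx i : ℝ) * ((n i : ℝ) * (e i : ℝ)) = (g : ℝ) := fun i => by
    rw [← hidx i]; push_cast; ring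
  -- the ratios
  have hr : ∀ i, (idx i : ℝ) * ((n i : ℝ) - 1) = (g : ℝ) * ((m i : ℝ) / (n i : ℝ)) := fun i => by
    have h1 := hidxR i
    have h2 := (hnpos i).ne'
    rw [← h1]
    field_simp
    rw [hnR i]
    ring
  have hE2 : (2 : ℝ) ≤ (e j : ℝ) := by exact_mod_cast he2
  have hM2 : (2 : ℝ) ≤ (m j : ℝ) := by exact_mod_cast hm2
  have hbb := int_sq_mul_ge (b := b) hM2
  have hf2 := int_sq_ge_one hf
  -- the partition identity
  have h1 : (g : ℝ) = 1 + (g : ℝ) * ((m j : ℝ) / (n j : ℝ)) +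
      (g : ℝ) * ∑ i ∈ Finset.univ.erase j, (m i : ℝ) / (n i : ℝ) := by
    nth_rewrite 1 [hpart]
    rw [← Finset.add_sum_erase _ _ (Finset.mem_univ j), hr j, Finset.mul_sum,
      Finset.sum_congr rfl (fun i _ => hr i)]
    ring
  -- the row identity
  have h2 : (g : ℝ) = (f : ℝ) ^ 2 + (g : ℝ) * (∑ i ∈ Finset.univ.erase j, (m i : ℝ) / (n i : ℝ) * (w' i : ℝ) ^ 2) +
      ((g : ℝ) / (n j : ℝ)) * ((n j : ℝ) - (e j : ℝ) - 2 * (b : ℝ) + (b : ℝ) ^ 2 * (m j : ℝ)) := by
    have e1 : ∑ i ∈ Finset.univ.erase j, (idx i : ℝ) * (((n i : ℝ) - 1) * (w' i : ℝ) ^ 2) =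
        (g : ℝ) * ∑ i ∈ Finset.univ.erase j, (m i : ℝ) / (n i : ℝ) * (w' i : ℝ) ^ 2 := by
      rw [Finset.mul_sum]
      refine Finset.sum_congr rfl fun i _ => ?_
      rw [← mul_assoc, hr i]
      ring
    have e2 : (idx j : ℝ) * ((n j : ℝ) * (e j : ℝ) - (e j : ℝ) ^ 2 - 2 * (b : ℝ) * (e j : ℝ) + (b : ℝ) ^ 2 * ((n j : ℝ) - 1)) =
        ((g : ℝ) / (n j : ℝ)) * ((n j : ℝ) - (e j : ℝ) - 2 * (b : ℝ) + (b : ℝ) ^ 2 * (m j : ℝ)) := by
      have h3 := hidxR j
      have h4 : (n j : ℝ) - 1 = (e j : ℝ) * (m j : ℝ) := by rw [hnR j]; ring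
      have h5 := (hnpos j).ne'
      rw [h4, ← h3]
      field_simp
    rw [e1, e2] at hrow
    exact hrow
  -- termwise inequality
  have hterm : ∀ i ∈ Finset.univ.erase j, (m i : ℝ) / (n i : ℝ) ≤
      (m i : ℝ) / (n i : ℝ) * (w' i : ℝ) ^ 2 + (m i : ℝ) * (w i : ℝ) ^ 2 / (n j : ℝ) := by
    intro i hi
    have hij := Finset.ne_of_mem_erase hi
    have hmi : (0 : ℝ) < (m i : ℝ) := by exact_mod_cast hm i
    have hni := hnpos i
    have hr0 : 0 < (m i : ℝ) / (n i : ℝ) := div_pos hmi hni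
    have hlt : (m i : ℝ) / (n i : ℝ) < (m i : ℝ) / (n j : ℝ) := by
      apply div_lt_div_of_pos_left hmi (hnpos j)
      exact_mod_cast hmin i hij
    rcases hpar i hij with h | h
    · have h3 := int_sq_ge_one h
      have h4 : (m i : ℝ) / (n j : ℝ) ≤ (m i : ℝ) * (w i : ℝ) ^ 2 / (n j : ℝ) := by
        apply div_le_div_of_nonneg_right _ (hnpos j).le
        nlinarith
      have h5 : 0 ≤ (m i : ℝ) / (n i : ℝ) * (w' i : ℝ) ^ 2 := mul_nonneg hr0.le (sq_nonneg _)
      linarith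
    · have h3 := int_sq_ge_one h
      have h4 : (m i : ℝ) / (n i : ℝ) ≤ (m i : ℝ) / (n i : ℝ) * (w' i : ℝ) ^ 2 := by nlinarith
      have h5 : 0 ≤ (m i : ℝ) * (w i : ℝ) ^ 2 / (n j : ℝ) :=
        div_nonneg (mul_nonneg hmi.le (sq_nonneg _)) (hnpos j).le
      linarith
  have hsum : (∑ i ∈ Finset.univ.erase j, (m i : ℝ) / (n i : ℝ) * (w' i : ℝ) ^ 2) +
      (∑ i ∈ Finset.univ.erase j, (m i : ℝ) * (w i : ℝ) ^ 2) / (n j : ℝ) =
      ∑ i ∈ Finset.univ.erase j, ((m i : ℝ) / (n i : ℝ) * (w' i : ℝ) ^ 2 + (m i : ℝ) * (w i : ℝ) ^ 2 / (n j : ℝ)) := by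
    rw [Finset.sum_add_distrib, Finset.sum_div]
  refine numeric_core (g : ℝ) (n j : ℝ) (e j : ℝ) (m j : ℝ) (b : ℝ) ((f : ℝ) ^ 2) _ _ _ hGpos (hnpos j) (hnR j) hE2 hM2
    hbb hf2 h1 h2 hcol ?_
  by_cases hex : ∃ i ∈ Finset.univ.erase j, w i ≠ 0
  · -- strict inequality
    right
    obtain ⟨i₀, hi₀, hw₀⟩ := hex
    rw [hsum]
    apply Finset.sum_lt_sum hterm
    refine ⟨i₀, hi₀, ?_⟩
    have hij := Finset.ne_of_mem_erase hi₀
    have hmi : (0 : ℝ) < (m i₀ : ℝ) := by exact_mod_cast hm i₀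
    have hni := hnpos i₀
    have hr0 : 0 < (m i₀ : ℝ) / (n i₀ : ℝ) := div_pos hmi hni
    have hlt : (m i₀ : ℝ) / (n i₀ : ℝ) < (m i₀ : ℝ) / (n j : ℝ) := by
      apply div_lt_div_of_pos_left hmi (hnpos j)
      exact_mod_cast hmin i₀ hij
    have h3 := int_sq_ge_one hw₀
    have h4 : (m i₀ : ℝ) / (n j : ℝ) ≤ (m i₀ : ℝ) * (w i₀ : ℝ) ^ 2 / (n j : ℝ) := by
      apply div_le_div_of_nonneg_right _ (hnpos j).le
      nlinarith
    have h5 : 0 ≤ (m i₀ : ℝ) / (n i₀ : ℝ) * (w' i₀ : ℝ) ^ 2 := mul_nonneg hr0.le (sq_nonneg _)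
    linarith
  · left
    push Not at hex
    have hT0 : ∑ i ∈ Finset.univ.erase j, (m i : ℝ) * (w i : ℝ) ^ 2 = 0 := by
      apply Finset.sum_eq_zero
      intro i hi
      rw [hex i hi]
      simp
    refine ⟨?_, hT0⟩
    have h3 := Finset.sum_le_sum hterm
    rw [← hsum, hT0] at h3
    simpa using h3

end Numeric

section Count

variable {G : Type u} [Group G] [Fintype G]

open scoped Classical in
/-- The non-identity elements of `G` with a conjugate in `K`. -/
noncomputable def tiConj (K : Subgroup G) : Finset G :=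
  Finset.univ.filter (fun x => x ≠ 1 ∧ ∃ g : G, g⁻¹ * x * g ∈ K)

theorem mem_tiConj (K : Subgroup G) {x : G} : x ∈ tiConj K ↔ x ≠ 1 ∧ ∃ g : G, g⁻¹ * x * g ∈ K := by
  simp [tiConj]

/-- The sum of a class function over the conjugates of `K \ {1}`. -/
theorem class_sum_one (K : Subgroup G) [Fintype ↥(Subgroup.normalizer (K : Set G))]
    (hTI : ∀ g : G, g ∉ Subgroup.normalizer (K : Set G) → ∀ k ∈ K, g * k * g⁻¹ ∈ K → k = 1)
    (F : G → ℝ) (hF : ∀ g k : G, F (k * g * k⁻¹) = F g) :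
    (Nat.card ↥(Subgroup.normalizer (K : Set G)) : ℝ) * ∑ g ∈ tiConj K, F g =
      (Nat.card G : ℝ) * ∑ x ∈ tiSharp K, F x := by
  classical
  let α : ↥(Subgroup.normalizer (K : Set G)) → ℂ := fun x => if x ∈ tiSharp K then 1 else 0
  have hαclass : IsClassFunction _ α := by
    intro g h
    have hiff : h * g * h⁻¹ ∈ tiSharp K ↔ g ∈ tiSharp K := by
      rw [mem_tiSharp, mem_tiSharp]
      have h1 : ((h * g * h⁻¹ : ↥(Subgroup.normalizer (K : Set G))) : G) ∈ K ↔ (g : G) ∈ K := by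
        have := Subgroup.mem_normalizer_iff.mp h.2 (g : G)
        simp only [Subgroup.coe_mul, InvMemClass.coe_inv]
        exact this.symm
      have h2 : h * g * h⁻¹ ≠ 1 ↔ g ≠ 1 := by
        simp only [ne_eq, conj_eq_one_iff]
      rw [h1, h2]
    simp only [α, hiff]
  have hoff : ∀ x : ↥(Subgroup.normalizer (K : Set G)), (x : G) ∉ K → α x = 0 := by
    intro x hx
    apply if_neg
    rw [mem_tiSharp]
    exact fun h => hx h.1
  have h1 : α 1 = 0 := by
    apply if_neg
    rw [mem_tiSharp]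
    exact fun h => h.2 rfl
  have hΦ0 : ∀ g, g ∉ tiConj K → indFun (Subgroup.normalizer (K : Set G)) α g = 0 := by
    intro g hg
    apply ind_vanish K α hoff h1
    intro x hx
    rw [mem_tiConj] at hg
    push Not at hg
    by_cases hg1 : g = 1
    · rw [hg1]
      simp
    · exact absurd hx (hg hg1 x)
  have hΦ1 : ∀ g ∈ tiConj K, indFun (Subgroup.normalizer (K : Set G)) α g = 1 := by
    intro g hg
    obtain ⟨hg1, y, hy⟩ := (mem_tiConj K).mp hg
    have hcl := indFun_isClass (Subgroup.normalizer (K : Set G)) α g y⁻¹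
    rw [inv_inv] at hcl
    rw [← hcl]
    have hne : y⁻¹ * g * y ≠ 1 := by
      intro h
      apply hg1
      have h2 : y * (y⁻¹ * g * y) * y⁻¹ = g := by group
      rw [← h2, h]
      simp
    have h3 := ind_eq_on_K K hTI α hαclass hoff ⟨_, Subgroup.le_normalizer hy⟩ hy
      (fun h => hne (congrArg Subtype.val h))
    rw [h3]
    apply if_pos
    rw [mem_tiSharp]
    exact ⟨hy, fun h => hne (congrArg Subtype.val h)⟩
  let F' : G → ℂ := fun g => (F g : ℂ)
  have hF' : IsClassFunction G F' := by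
    intro g k
    simp only [F']
    rw [hF]
  have hfr := frobenius_reciprocity (Subgroup.normalizer (K : Set G)) α F' hF'
  simp only [classInner] at hfr
  have e1 : ∑ g : G, indFun (Subgroup.normalizer (K : Set G)) α g * conj (F' g) = ∑ g ∈ tiConj K, F' g := by
    rw [← Finset.sum_subset (Finset.subset_univ (tiConj K)) (fun g _ hg => by rw [hΦ0 g hg, zero_mul])]
    refine Finset.sum_congr rfl fun g hg => ?_
    rw [hΦ1 g hg, one_mul]
    simp [F']
  have e2 : ∑ x : ↥(Subgroup.normalizer (K : Set G)), α x * conj (F' x) = ∑ x ∈ tiSharp K, F' x := by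
    rw [← Finset.sum_subset (Finset.subset_univ (tiSharp K)) (fun g _ hg => by
      simp only [α]
      rw [if_neg hg, zero_mul])]
    refine Finset.sum_congr rfl fun g hg => ?_
    simp only [α]
    rw [if_pos hg, one_mul]
    simp [F']
  rw [e1, e2] at hfr
  have hG0 : (Nat.card G : ℂ) ≠ 0 := Nat.cast_ne_zero.mpr Nat.card_pos.ne'
  have hN0 : (Nat.card ↥(Subgroup.normalizer (K : Set G)) : ℂ) ≠ 0 := Nat.cast_ne_zero.mpr Nat.card_pos.ne'
  apply Complex.ofReal_injective
  push_cast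
  field_simp at hfr
  simp only [F'] at hfr
  linear_combination hfr

/-- The sum of a function over `G` when the conjugates of the `H i` cover. -/
theorem class_total {ι : Type*} [Fintype ι] (H : ι → Subgroup G)
    (hcop : ∀ i j, i ≠ j → Nat.Coprime (Nat.card (H i)) (Nat.card (H j)))
    (hcover : ∀ g : G, g ≠ 1 → ∃ i, ∃ x : G, x * g * x⁻¹ ∈ H i) (F : G → ℝ) :
    ∑ g : G, F g = F 1 + ∑ i, ∑ g ∈ tiConj (H i), F g := by
  classical
  have hdisj : ∀ i ∈ (Finset.univ : Finset ι), ∀ j ∈ (Finset.univ : Finset ι), i ≠ j →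
      Disjoint (tiConj (H i)) (tiConj (H j)) := by
    intro i _ j _ hij
    rw [Finset.disjoint_left]
    intro x hxi hxj
    obtain ⟨hx1, g, hg⟩ := (mem_tiConj _).mp hxi
    obtain ⟨-, g', hg'⟩ := (mem_tiConj _).mp hxj
    have h3 := Nat.eq_one_of_dvd_coprimes (hcop i j hij) (order_dvd_of_conj_mem _ hg)
      (order_dvd_of_conj_mem _ hg')
    exact hx1 (orderOf_eq_one_iff.mp h3)
  have hunion : Finset.univ.biUnion (fun i => tiConj (H i)) = Finset.univ.erase (1 : G) := by
    ext x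
    simp only [Finset.mem_biUnion, Finset.mem_univ, true_and, Finset.mem_erase, and_true]
    constructor
    · rintro ⟨i, hi⟩
      exact ((mem_tiConj _).mp hi).1
    · intro hx
      obtain ⟨i, y, hy⟩ := hcover x hx
      refine ⟨i, (mem_tiConj _).mpr ⟨hx, y⁻¹, ?_⟩⟩
      simpa using hy
  rw [← Finset.add_sum_erase _ _ (Finset.mem_univ (1 : G)), ← hunion, Finset.sum_biUnion hdisj]

variable [Fintype (IrrCharacter G)]

theorem column_self (k : G) :
    ∑ ψ : IrrCharacter G, Complex.normSq ((ψ : G → ℂ) k) =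
      (Nat.card (Subgroup.centralizer ({k} : Set G)) : ℝ) := by
  apply Complex.ofReal_injective
  have hcol := column_orthogonality_of_isConj (G := G) (IsConj.refl k)
  push_cast
  rw [← hcol]
  refine Finset.sum_congr rfl fun χ _ => ?_
  rw [Complex.mul_conj]

theorem sum_disj_le {ι : Type*} [Fintype ι] (P : ι → Finset (IrrCharacter G))
    (hd : ∀ i j, i ≠ j → Disjoint (P i) (P j)) (h1 : ∀ i, irrOne ∉ P i)
    (f : IrrCharacter G → ℝ) (hf : ∀ ψ, 0 ≤ f ψ) :
    f irrOne + ∑ i, ∑ ψ ∈ P i, f ψ ≤ ∑ ψ, f ψ := by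
  classical
  rw [← Finset.sum_biUnion (fun i _ j _ hij => hd i j hij)]
  have h2 : irrOne ∉ Finset.univ.biUnion P := by
    simp only [Finset.mem_biUnion, Finset.mem_univ, true_and, not_exists]
    exact h1
  rw [← Finset.sum_insert h2]
  exact Finset.sum_le_sum_of_subset_of_nonneg (Finset.subset_univ _) (fun ψ _ _ => hf ψ)

/-- There is no covering of `G` by conjugates of coprime TI subgroups with Frobenius normalizers. -/
theorem ti_no_cover (hodd : Odd (Nat.card G)) {ι : Type*} [Fintype ι] [Nonempty ι] (H : ι → Subgroup G)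
    (hH1 : ∀ i, H i ≠ ⊥) (hlt : ∀ i, H i < Subgroup.normalizer (H i : Set G))
    (hcop : ∀ i j, i ≠ j → Nat.Coprime (Nat.card (H i)) (Nat.card (H j)))
    (hTI : ∀ i, IsTISubset (H i : Set G))
    (hC : ∀ i, ∀ k ∈ H i, k ≠ 1 → Subgroup.centralizer ({k} : Set G) ≤ H i)
    (hcover : ∀ g : G, g ≠ 1 → ∃ i, ∃ x : G, x * g * x⁻¹ ∈ H i) : False := by
  classical
  haveI : ∀ i, Fintype ↥(Subgroup.normalizer (H i : Set G)) := fun i => Fintype.ofFinite _
  have hpack := fun i => ti_package (H i) hodd (hH1 i) (hlt i) (hTI i) (hC i)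
  choose e m b W A f hcard hcardN he2 hm2 hmev hA hAW hf1 hf0 hconst hpair hs1 hs2 hs3 hs4 using hpack
  have hdj : ∀ i j, i ≠ j → ∀ ψ : IrrCharacter G, ψ ∈ tiPP (H i) → ψ ∈ tiPP (H j) → False :=
    fun i j hij ψ h1 h2 => tiPP_disjoint (H i) (H j) (hcop i j hij) (hpair i) (hpair j) h1 h2
  -- integer values
  have hw : ∀ i j, ∃ n : ℤ, i ≠ j → ∀ k ∈ H j, k ≠ 1 → W i k = n := by
    intro i j
    by_cases hij : i = j
    · exact ⟨0, fun h => absurd hij h⟩
    · have h1 : A i ∉ tiPP (H j) := fun h => hdj i j hij _ (hA i) h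
      obtain ⟨n, hn⟩ := hconst j _ h1
      rcases hAW i with h | h
      · exact ⟨n, fun _ k hk hk1 => by rw [← h]; exact hn k hk hk1⟩
      · refine ⟨-n, fun _ k hk hk1 => ?_⟩
        have h2 := hn k hk hk1
        rw [h, Pi.neg_apply] at h2
        push_cast
        linear_combination -h2
  choose w hw using hw
  have hex : ∀ i, ∃ k ∈ H i, k ≠ 1 := fun i => (Subgroup.bot_or_exists_ne_one _).resolve_left (hH1 i)
  choose x hx hx1 using hex
  -- parity
  have hpar : ∀ i j, i ≠ j → w i j ≠ 0 ∨ w j i ≠ 0 := by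
    intro i j hij
    obtain ⟨d, hd, hd0⟩ := ti_parity hodd (H i) (H j) (hdj i j hij) (hcop i j hij) (hconst i) (hconst j)
      (hs1 i) (hs1 j) (hw i j hij) (hw j i hij.symm) (hx i) (hx1 i) (hx j) (hx1 j)
    by_contra hcon
    push Not at hcon
    rw [hcon.1, hcon.2] at hd0
    simp only [mul_zero, zero_add] at hd0
    rw [hd0] at hd
    exact absurd hd (by decide)
  -- the minimal index
  obtain ⟨j, -, hj⟩ := Finset.exists_min_image (Finset.univ : Finset ι) (fun i => Nat.card (H i))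
    Finset.univ_nonempty
  have hcard1 : ∀ i, 1 < Nat.card (H i) := fun i => (Subgroup.one_lt_card_iff_ne_bot _).mpr (hH1 i)
  have hmin : ∀ i, i ≠ j → Nat.card (H j) < Nat.card (H i) := by
    intro i hij
    refine lt_of_le_of_ne (hj i (Finset.mem_univ i)) ?_
    intro h
    have h1 := hcop i j hij
    rw [← h, Nat.coprime_self] at h1
    have := hcard1 j
    omega
  have hsharp : ∀ i, ((tiSharp (H i)).card : ℝ) = (Nat.card (H i) : ℝ) - 1 := by
    intro i
    have := card_tiSharp (H i)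
    rw [← this]
    push_cast
    ring
  have hidx : ∀ i, (Subgroup.normalizer (H i : Set G)).index * (Nat.card (H i) * e i) = Nat.card G := by
    intro i
    rw [← hcardN i, mul_comm]
    exact Subgroup.card_mul_index _
  have hGpos : (0 : ℝ) < (Nat.card G : ℝ) := by exact_mod_cast Nat.card_pos
  -- the sum over conjugates in terms of the sum over `H i`
  have hconjsum : ∀ (F : G → ℝ), (∀ g k : G, F (k * g * k⁻¹) = F g) → ∀ i, ∑ g ∈ tiConj (H i), F g =
      ((Subgroup.normalizer (H i : Set G)).index : ℝ) * ∑ x ∈ tiSharp (H i), F x := by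
    intro F hF i
    have h1 := class_sum_one (H i) (hTI i) F hF
    have h2 : (Nat.card G : ℝ) = (Nat.card ↥(Subgroup.normalizer (H i : Set G)) : ℝ) *
        ((Subgroup.normalizer (H i : Set G)).index : ℝ) := by
      exact_mod_cast (Subgroup.card_mul_index _).symm
    have h3 : (Nat.card ↥(Subgroup.normalizer (H i : Set G)) : ℝ) ≠ 0 := by
      exact_mod_cast Nat.card_pos.ne'
    rw [h2, mul_assoc] at h1
    exact mul_left_cancel₀ h3 h1
  refine numeric_final j (Nat.card G) Nat.card_pos (fun i => Nat.card (H i)) e m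
    (fun i => (Subgroup.normalizer (H i : Set G)).index) (fun i => w i j) (fun i => w j i) (b j) (f j)
    hcard hidx (fun i => by have := hm2 i; omega) ?_ ?_ ?_ (fun i hij => hpar i j hij) hmin (hf0 j) (he2 j) (hm2 j)
  · -- partition
    have h1 := class_total H hcop hcover (fun _ => (1 : ℝ))
    simp only [Finset.sum_const, Finset.card_univ, nsmul_eq_mul, mul_one] at h1
    rw [← Nat.card_eq_fintype_card] at h1
    rw [h1]
    congr 1
    refine Finset.sum_congr rfl fun i _ => ?_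
    have h2 := hconjsum (fun _ => (1 : ℝ)) (fun _ _ => rfl) i
    simp only [Finset.sum_const, nsmul_eq_mul, mul_one] at h2
    rw [h2, hsharp i]
  · -- row
    have hnorm : ∑ g : G, Complex.normSq (W j g) = (Nat.card G : ℝ) := by
      have h1 := classInner_irr_self (A j).2
      have h2 : ∑ g : G, Complex.normSq ((A j : G → ℂ) g) = (Nat.card G : ℝ) := by
        apply Complex.ofReal_injective
        rw [classInner] at h1
        push_cast
        rw [show ∑ x : G, ((Complex.normSq ((A j : G → ℂ) x) : ℝ) : ℂ) =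
            ∑ x : G, (A j : G → ℂ) x * conj ((A j : G → ℂ) x) from
          Finset.sum_congr rfl fun x _ => (Complex.mul_conj _).symm]
        have hG0 : (Nat.card G : ℂ) ≠ 0 := Nat.cast_ne_zero.mpr Nat.card_pos.ne'
        field_simp at h1
        exact h1
      rw [← h2]
      refine Finset.sum_congr rfl fun g _ => ?_
      rcases hAW j with h | h <;> rw [h] <;> simp
    have hcl : ∀ g k : G, Complex.normSq (W j (k * g * k⁻¹)) = Complex.normSq (W j g) := by
      intro g k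
      rcases hAW j with h | h
      · rw [← h, isCharacter_conj (isCharacter_of_irr (A j).2)]
      · have h1 : W j = -(A j : G → ℂ) := by rw [h]; simp
        rw [h1]
        simp only [Pi.neg_apply, Complex.normSq_neg]
        rw [isCharacter_conj (isCharacter_of_irr (A j).2)]
    have h1 := class_total H hcop hcover (fun g => Complex.normSq (W j g))
    rw [hnorm, Finset.sum_congr rfl (fun i _ => hconjsum _ hcl i),
      ← Finset.add_sum_erase _ _ (Finset.mem_univ j)] at h1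
    rw [h1, hf1 j, Complex.normSq_intCast, hs4 j, hsharp j, hcardN j]
    have e1 : ∑ i ∈ Finset.univ.erase j, ((Subgroup.normalizer (H i : Set G)).index : ℝ) *
          ∑ x ∈ tiSharp (H i), Complex.normSq (W j x) =
        ∑ i ∈ Finset.univ.erase j, ((Subgroup.normalizer (H i : Set G)).index : ℝ) *
          (((Nat.card (H i) : ℝ) - 1) * (w j i : ℝ) ^ 2) := by
      refine Finset.sum_congr rfl fun i hi => ?_
      have hij := Finset.ne_of_mem_erase hi
      congr 1
      have e2 : ∀ x ∈ tiSharp (H i), Complex.normSq (W j x) = (w j i : ℝ) ^ 2 := by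
        intro y hy
        obtain ⟨hy1, hy2⟩ := (mem_tiSharp _).mp hy
        rw [hw j i hij.symm y hy1 (fun h => hy2 (Subtype.ext h)), Complex.normSq_intCast]
        ring
      rw [Finset.sum_congr rfl e2]
      simp only [Finset.sum_const, nsmul_eq_mul]
      rw [hsharp i]
    rw [e1]
    push_cast
    ring
  · -- column
    have hk := hx j
    have hk1 := hx1 j
    have h1 := sum_disj_le (G := G) (fun i => tiPP (H i)) (fun i i' hii' => by
        rw [Finset.disjoint_left]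
        intro ψ h1 h2
        exact hdj i i' hii' ψ h1 h2) (fun i => irrOne_notMem_tiPP (H i))
      (fun ψ => Complex.normSq ((ψ : G → ℂ) (x j))) (fun ψ => Complex.normSq_nonneg _)
    rw [column_self, ← Finset.add_sum_erase _ _ (Finset.mem_univ j), hs3 j _ hk hk1] at h1
    have h2 : ∑ i ∈ Finset.univ.erase j, ∑ ψ ∈ tiPP (H i), Complex.normSq ((ψ : G → ℂ) (x j)) =
        ∑ i ∈ Finset.univ.erase j, (m i : ℝ) * (w i j : ℝ) ^ 2 := by
      refine Finset.sum_congr rfl fun i hi => ?_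
      have hij := Finset.ne_of_mem_erase hi
      rw [hs2 i _ (tiAvoid_of_mem (H i) (H j) (hcop i j hij) hk), hw i j hij _ hk hk1, Complex.normSq_intCast]
      ring
    rw [h2] at h1
    have h3 : Complex.normSq (((irrOne : IrrCharacter G) : G → ℂ) (x j)) = 1 := by
      simp [irrOne]
    rw [h3] at h1
    linarith

end Count

end Cfsg.Agent.H06
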