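import Cfsg.Agent.Lib.H06.CNJ6
import Cfsg.Agent.Lib.H06.CoherK4
import Cfsg.Agent.Lib.H01.Frobenius
import Cfsg.Agent.S1477

/-!
# No minimal simple CN-group of odd order
-/

set_option autoImplicit false
set_option linter.style.haveILetI false
set_option linter.unusedSectionVars false
set_option linter.unusedVariables false

namespace Cfsg.Agent.H06

open Cfsg
open scoped Pointwise

universe u

variable {G : Type u} [Group G] [Finite G]

/-- Maximal nilpotent subgroups. -/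
def IsMaxNil (H : Subgroup G) : Prop :=
  Group.IsNilpotent H ∧ ∀ L : Subgroup G, Group.IsNilpotent L → H ≤ L → L = H

theorem isNilpotent_map_conj {H : Subgroup G} (hH : Group.IsNilpotent H) (g : G) :
    Group.IsNilpotent ↥(H.map (MulAut.conj g).toMonoidHom) :=
  Group.nilpotent_of_mulEquiv (Subgroup.equivMapOfInjective H (MulAut.conj g).toMonoidHom
    (MulAut.conj g).injective)

theorem IsMaxNil.map_conj {H : Subgroup G} (hH : IsMaxNil H) (g : G) :
    IsMaxNil (H.map (MulAut.conj g).toMonoidHom) := by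
  refine ⟨isNilpotent_map_conj hH.1 g, ?_⟩
  intro L hL hHL
  have h1 : L.map (MulAut.conj g⁻¹).toMonoidHom = H := by
    apply hH.2 _ (isNilpotent_map_conj hL g⁻¹)
    intro h hh
    rw [mem_map_conj_iff, inv_inv]
    exact hHL ⟨h, hh, rfl⟩
  ext x
  rw [mem_map_conj_iff, ← h1, mem_map_conj_iff, inv_inv]
  constructor
  · intro hx
    have e : g * (g⁻¹ * x * g) * g⁻¹ = x := by group
    rw [e]
    exact hx
  · intro hx
    have e : g * (g⁻¹ * x * g) * g⁻¹ = x := by group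
    rwa [e] at hx

theorem map_conj_one (H : Subgroup G) : H.map (MulAut.conj (1 : G)).toMonoidHom = H := by
  ext x
  rw [mem_map_conj_iff]
  simp

theorem map_conj_inv_of_eq {H K : Subgroup G} {g : G} (h : K = H.map (MulAut.conj g).toMonoidHom) :
    H = K.map (MulAut.conj g⁻¹).toMonoidHom := by
  subst h
  ext x
  rw [mem_map_conj_iff, mem_map_conj_iff, inv_inv]
  have e : g⁻¹ * (g * x * g⁻¹) * g = x := by group
  rw [e]

theorem map_conj_trans {H : Subgroup G} (g h : G) :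
    (H.map (MulAut.conj g).toMonoidHom).map (MulAut.conj h).toMonoidHom =
      H.map (MulAut.conj (h * g)).toMonoidHom := by
  ext x
  rw [mem_map_conj_iff, mem_map_conj_iff, mem_map_conj_iff]
  have e : g⁻¹ * (h⁻¹ * x * h) * g = (h * g)⁻¹ * x * (h * g) := by group
  rw [e]

theorem exists_isMaxNil (hCN : IsCNGroup G) {g : G} (hg : g ≠ 1) : ∃ H : Subgroup G, IsMaxNil H ∧ g ∈ H := by
  classical
  let s : Set (Subgroup G) := {H | Group.IsNilpotent H ∧ g ∈ H}
  have hs : s.Nonempty := ⟨Subgroup.centralizer ({g} : Set G), hCN g hg, by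
    rw [Subgroup.mem_centralizer_iff]
    intro w hw
    rw [Set.mem_singleton_iff.mp hw]⟩
  obtain ⟨H, hH, hmax⟩ := Set.exists_max_image s (fun H => Nat.card H) (Set.toFinite s) hs
  refine ⟨H, ⟨hH.1, ?_⟩, hH.2⟩
  intro L hL hHL
  have h1 := hmax L ⟨hL, hHL hH.2⟩
  exact (Subgroup.eq_of_le_of_card_ge hHL h1).symm

section Max

variable (hCN : IsCNGroup G)

include hCN

/-- A Sylow subgroup of a maximal nilpotent subgroup is a Sylow subgroup, for primes dividing its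
order. -/
theorem sylow_of_maxNil {H : Subgroup G} (hH : IsMaxNil H) {p : ℕ} [hp : Fact p.Prime]
    (hpH : p ∣ Nat.card H) (P₀ : Sylow p H) :
    ∃ T : Sylow p G, (T : Subgroup G) = (P₀ : Subgroup H).map H.subtype := by
  classical
  have hcop := S1477.part_a hCN hH.1 hH.2
  have hpi : ¬ p ∣ H.index := by
    intro h
    have := Nat.dvd_gcd hpH h
    rw [hcop.gcd_eq_one] at this
    exact hp.out.one_lt.ne' (Nat.dvd_one.mp this)
  set P := (P₀ : Subgroup H).map H.subtype with hP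
  have hPp : IsPGroup p P := P₀.isPGroup'.map _
  obtain ⟨T, hPT⟩ := hPp.exists_le_sylow
  refine ⟨T, ?_⟩
  have hidx : P.index = (P₀ : Subgroup H).index * H.index := Subgroup.index_map_subtype _
  have hnd : ¬ p ∣ P.index := by
    rw [hidx]
    intro h
    rcases (Nat.Prime.dvd_mul hp.out).mp h with h1 | h1
    · exact P₀.not_dvd_index h1
    · exact hpi h1
  exact (eq_of_le_of_isPGroup_of_not_dvd_index hPT T.isPGroup' hnd).symm

/-- Two maximal nilpotent subgroups with a common prime divisor are conjugate (given the Sylow TI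
property) or share the prime: the common part. -/
theorem maxNil_conj_of_dvd (hTI : ∀ (p : ℕ) [Fact p.Prime] (S : Sylow p G) (g : G),
      (S : Subgroup G) ⊓ (S : Subgroup G).map (MulAut.conj g).toMonoidHom ≠ ⊥ →
      (S : Subgroup G).map (MulAut.conj g).toMonoidHom = S)
    {H₁ H₂ : Subgroup G} (h₁ : IsMaxNil H₁) (h₂ : IsMaxNil H₂) {p : ℕ} [hp : Fact p.Prime]
    (hp₁ : p ∣ Nat.card H₁) (hp₂ : p ∣ Nat.card H₂) (hw : ∃ w : G, w ≠ 1 ∧ w ∈ H₁ ∧ w ∈ H₂ ∧ orderOf w = p) :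
    H₁ = H₂ := by
  classical
  obtain ⟨w, hw1, hwH₁, hwH₂, hwo⟩ := hw
  obtain ⟨P₁⟩ : Nonempty (Sylow p H₁) := inferInstance
  obtain ⟨P₂⟩ : Nonempty (Sylow p H₂) := inferInstance
  obtain ⟨T₁, hT₁⟩ := sylow_of_maxNil hCN h₁ hp₁ P₁
  obtain ⟨T₂, hT₂⟩ := sylow_of_maxNil hCN h₂ hp₂ P₂
  have hn₁ : (P₁ : Subgroup H₁).Normal :=
    (Group.isNilpotent_of_finite_tfae (G := H₁)).out 0 3 rfl rfl |>.mp h₁.1 p hp P₁
  have hn₂ : (P₂ : Subgroup H₂).Normal :=
    (Group.isNilpotent_of_finite_tfae (G := H₂)).out 0 3 rfl rfl |>.mp h₂.1 p hp P₂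
  have hw₁ : w ∈ (T₁ : Subgroup G) := by
    rw [hT₁]
    refine ⟨⟨w, hwH₁⟩, ?_, rfl⟩
    exact H19.mem_sylow_of_normal (k := 1) (by rw [Subgroup.orderOf_mk, hwo, pow_one]) P₁ hn₁
  have hw₂ : w ∈ (T₂ : Subgroup G) := by
    rw [hT₂]
    refine ⟨⟨w, hwH₂⟩, ?_, rfl⟩
    exact H19.mem_sylow_of_normal (k := 1) (by rw [Subgroup.orderOf_mk, hwo, pow_one]) P₂ hn₂
  -- conjugacy of the Sylow subgroups
  obtain ⟨l, -, hl⟩ := exists_conj_into_sylow ⊤ T₂ le_top (T₁ : Subgroup G) le_top T₁.isPGroup'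
  have hle : (T₁ : Subgroup G).map (MulAut.conj l⁻¹).toMonoidHom ≤ (T₂ : Subgroup G) := by
    rintro _ ⟨t, ht, rfl⟩
    show l⁻¹ * t * l⁻¹⁻¹ ∈ (T₂ : Subgroup G)
    rw [inv_inv]
    exact hl t ht
  have hcards : Nat.card (T₁ : Subgroup G) = Nat.card (T₂ : Subgroup G) := by
    rw [Sylow.card_eq_multiplicity, Sylow.card_eq_multiplicity]
  have heq : (T₁ : Subgroup G).map (MulAut.conj l⁻¹).toMonoidHom = (T₂ : Subgroup G) :=
    Subgroup.eq_of_le_of_card_ge hle (by rw [card_map_conj, hcards])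
  have hne : (T₁ : Subgroup G) ⊓ (T₁ : Subgroup G).map (MulAut.conj l⁻¹).toMonoidHom ≠ ⊥ := by
    rw [heq]
    intro h
    have : w ∈ (T₁ : Subgroup G) ⊓ (T₂ : Subgroup G) := ⟨hw₁, hw₂⟩
    rw [h, Subgroup.mem_bot] at this
    exact hw1 this
  have hT₁T₂ : (T₁ : Subgroup G) = T₂ := by
    have := hTI p T₁ l⁻¹ hne
    rw [← heq, this]
  -- a central element of the common Sylow
  have hT₁ne : (T₁ : Subgroup G) ≠ ⊥ := by
    intro h
    have := hw₁
    rw [h, Subgroup.mem_bot] at this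
    exact hw1 this
  obtain ⟨z, hz, hz1, hzc⟩ := exists_center_of_nilp (T₁ : Subgroup G) T₁.isPGroup'.isNilpotent hT₁ne
  have hc₁ : ∀ h ∈ H₁, z * h = h * z := by
    intro h hh
    refine commute_of_center_sylow h₁.1 P₁ (by rw [← hT₁]; exact hz) (by
      rw [← hT₁]
      exact hzc) hh
  have hc₂ : ∀ h ∈ H₂, z * h = h * z := by
    intro h hh
    refine commute_of_center_sylow h₂.1 P₂ (by rw [← hT₂, ← hT₁T₂]; exact hz) (by
      rw [← hT₂, ← hT₁T₂]
      exact hzc) hh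
  rw [← S1477.centralizer_eq hCN h₁.2 hz1 hc₁, ← S1477.centralizer_eq hCN h₂.2 hz1 hc₂]

end Max

section Final

/-- Maximal nilpotent subgroups meeting nontrivially coincide. -/
theorem maxNil_eq_of_inf_ne (hG : IsMinSimpleOddOrder G) (hCN : IsCNGroup G) {H₁ H₂ : Subgroup G}
    (h₁ : IsMaxNil H₁) (h₂ : IsMaxNil H₂) (hne : H₁ ⊓ H₂ ≠ ⊥) : H₁ = H₂ := by
  classical
  haveI : Nontrivial ↥(H₁ ⊓ H₂) := (Subgroup.nontrivial_iff_ne_bot _).mpr hne
  have hone : 1 < Nat.card ↥(H₁ ⊓ H₂) := Finite.one_lt_card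
  set p := (Nat.card ↥(H₁ ⊓ H₂)).minFac with hp
  have hpp : p.Prime := Nat.minFac_prime hone.ne'
  haveI : Fact p.Prime := ⟨hpp⟩
  obtain ⟨w, hw⟩ := exists_prime_orderOf_dvd_card' (G := ↥(H₁ ⊓ H₂)) p (Nat.minFac_dvd _)
  have hwo : orderOf (w : G) = p := by
    rw [← hw]
    exact Subgroup.orderOf_coe w
  have hw1 : (w : G) ≠ 1 := by
    intro h
    rw [h, orderOf_one] at hwo
    exact hpp.one_lt.ne hwo
  have hd₁ : p ∣ Nat.card H₁ := by
    have := orderOf_dvd_natCard (⟨w, w.2.1⟩ : H₁)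
    rwa [Subgroup.orderOf_mk, hwo] at this
  have hd₂ : p ∣ Nat.card H₂ := by
    have := orderOf_dvd_natCard (⟨w, w.2.2⟩ : H₂)
    rwa [Subgroup.orderOf_mk, hwo] at this
  exact maxNil_conj_of_dvd hCN (fun q _ S g hg => sylow_TI hG hCN S g hg) h₁ h₂ hd₁ hd₂
    ⟨w, hw1, w.2.1, w.2.2, hwo⟩

/-- Non-conjugate maximal nilpotent subgroups have coprime orders. -/
theorem maxNil_coprime_or_conj (hG : IsMinSimpleOddOrder G) (hCN : IsCNGroup G) {H₁ H₂ : Subgroup G}
    (h₁ : IsMaxNil H₁) (h₂ : IsMaxNil H₂) :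
    (∃ g : G, H₂ = H₁.map (MulAut.conj g).toMonoidHom) ∨ (Nat.card H₁).Coprime (Nat.card H₂) := by
  classical
  by_cases hc : (Nat.card H₁).Coprime (Nat.card H₂)
  · exact Or.inr hc
  left
  obtain ⟨p, hpp, hp₁, hp₂⟩ := Nat.Prime.not_coprime_iff_dvd.mp hc
  haveI : Fact p.Prime := ⟨hpp⟩
  obtain ⟨P₁⟩ : Nonempty (Sylow p H₁) := inferInstance
  obtain ⟨P₂⟩ : Nonempty (Sylow p H₂) := inferInstance
  obtain ⟨T₁, hT₁⟩ := sylow_of_maxNil hCN h₁ hp₁ P₁
  obtain ⟨T₂, hT₂⟩ := sylow_of_maxNil hCN h₂ hp₂ P₂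
  obtain ⟨l, -, hl⟩ := exists_conj_into_sylow ⊤ T₂ le_top (T₁ : Subgroup G) le_top T₁.isPGroup'
  refine ⟨l⁻¹, ?_⟩
  apply (maxNil_eq_of_inf_ne hG hCN h₂ (h₁.map_conj l⁻¹) ?_)
  -- the intersection contains `T₂`
  have hle : (T₁ : Subgroup G).map (MulAut.conj l⁻¹).toMonoidHom ≤ (T₂ : Subgroup G) := by
    rintro _ ⟨t, ht, rfl⟩
    show l⁻¹ * t * l⁻¹⁻¹ ∈ (T₂ : Subgroup G)
    rw [inv_inv]
    exact hl t ht
  have hcards : Nat.card (T₁ : Subgroup G) = Nat.card (T₂ : Subgroup G) := by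
    rw [Sylow.card_eq_multiplicity, Sylow.card_eq_multiplicity]
  have heq : (T₁ : Subgroup G).map (MulAut.conj l⁻¹).toMonoidHom = (T₂ : Subgroup G) :=
    Subgroup.eq_of_le_of_card_ge hle (by rw [card_map_conj, hcards])
  have hT₂H₂ : (T₂ : Subgroup G) ≤ H₂ := by
    rw [hT₂]
    rintro _ ⟨a, _, rfl⟩
    exact a.2
  have hT₁H₁ : (T₁ : Subgroup G) ≤ H₁ := by
    rw [hT₁]
    rintro _ ⟨a, _, rfl⟩
    exact a.2
  have hT₂ne : (T₂ : Subgroup G) ≠ ⊥ := by
    intro h
    have h1 : (P₂ : Subgroup H₂) = ⊥ := by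
      rw [eq_bot_iff]
      intro x hx
      have h2 : (x : G) ∈ (T₂ : Subgroup G) := by
        rw [hT₂]
        exact ⟨x, hx, rfl⟩
      rw [h, Subgroup.mem_bot] at h2
      exact Subtype.ext h2
    exact P₂.ne_bot_of_dvd_card hp₂ h1
  intro hb
  apply hT₂ne
  rw [eq_bot_iff, ← hb]
  refine le_inf hT₂H₂ ?_
  rw [← heq]
  exact Subgroup.map_mono hT₁H₁

/-- **No minimal simple CN-group of odd order exists.** -/
theorem no_minSimple_CN (hG : IsMinSimpleOddOrder G) (hCN : IsCNGroup G) : False := by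
  classical
  haveI : Fintype G := Fintype.ofFinite _
  haveI : Fintype (IrrCharacter G) := Fintype.ofFinite _
  have hodd := hG.1
  have hsimple := hG.2.1
  have hnab := hG.2.2.1
  haveI : Nontrivial G := hsimple.toNontrivial
  obtain ⟨g₀, hg₀⟩ := exists_ne (1 : G)
  -- conjugacy classes of maximal nilpotent subgroups
  let s : Setoid {H : Subgroup G // IsMaxNil H} :=
    { r := fun H₁ H₂ => ∃ g : G, H₂.1 = H₁.1.map (MulAut.conj g).toMonoidHom
      iseqv := ⟨fun H => ⟨1, (map_conj_one H.1).symm⟩,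
        fun {H₁ H₂} ⟨g, hg⟩ => ⟨g⁻¹, map_conj_inv_of_eq hg⟩,
        fun {H₁ H₂ H₃} ⟨g, hg⟩ ⟨h, hh⟩ => ⟨h * g, by rw [hh, hg, map_conj_trans]⟩⟩ }
  let ι := Quotient s
  haveI : Fintype ι := Fintype.ofFinite _
  obtain ⟨H₀, hH₀, hgH₀⟩ := exists_isMaxNil hCN hg₀
  haveI : Nonempty ι := ⟨Quotient.mk s ⟨H₀, hH₀⟩⟩
  let rep : ι → {H : Subgroup G // IsMaxNil H} := fun i => Quotient.out i
  have hne : ∀ {H : Subgroup G}, IsMaxNil H → H ≠ ⊥ := by
    intro H hH hb
    obtain ⟨H', hH', hg'⟩ := exists_isMaxNil hCN hg₀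
    have := hH.2 H' hH'.1 (by rw [hb]; exact bot_le)
    rw [this, hb, Subgroup.mem_bot] at hg'
    exact hg₀ hg'
  have hneT : ∀ {H : Subgroup G}, IsMaxNil H → H ≠ ⊤ := by
    intro H hH ht
    have h1 : Group.IsNilpotent G := by
      have h2 := hH.1
      rw [ht] at h2
      exact Group.nilpotent_of_mulEquiv (Subgroup.topEquiv (G := G))
    haveI := h1
    obtain ⟨z, _, hz1, hzc⟩ := exists_central_of_normal (N := (⊤ : Subgroup G)) Subgroup.normal_top
      top_ne_bot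
    have hZ : Subgroup.center G ≠ ⊥ := by
      intro hb
      rw [hb, Subgroup.mem_bot] at hzc
      exact hz1 hzc
    rcases hsimple.eq_bot_or_eq_top_of_normal (Subgroup.center G) inferInstance with h2 | h2
    · exact hZ h2
    · apply hnab
      refine ⟨⟨fun a b => ?_⟩⟩
      have : a ∈ Subgroup.center G := h2 ▸ Subgroup.mem_top a
      exact (Subgroup.mem_center_iff.mp this b).symm
  have hTIm : ∀ {H : Subgroup G}, IsMaxNil H → ∀ g : G, H.map (MulAut.conj g).toMonoidHom ≠ H →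
      H ⊓ H.map (MulAut.conj g).toMonoidHom = ⊥ := by
    intro H hH g hg
    by_contra hc
    exact hg (maxNil_eq_of_inf_ne hG hCN hH (hH.map_conj g) hc).symm
  have hTIs : ∀ {H : Subgroup G}, IsMaxNil H → IsTISubset (H : Set G) := by
    intro H hH g hg x hx hgx
    by_contra hx1
    apply hg
    have h1 : H ⊓ H.map (MulAut.conj g).toMonoidHom ≠ ⊥ := by
      intro hb
      have h2 : g * x * g⁻¹ ∈ H ⊓ H.map (MulAut.conj g).toMonoidHom := ⟨hgx, ⟨x, hx, rfl⟩⟩
      rw [hb, Subgroup.mem_bot] at h2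
      apply hx1
      have e : x = g⁻¹ * (g * x * g⁻¹) * g := by group
      rw [e, h2]
      simp
    have h3 := maxNil_eq_of_inf_ne hG hCN hH (hH.map_conj g) h1
    apply mem_normalizer_of_conj_le
    intro k hk
    rw [h3]
    exact ⟨k, hk, rfl⟩
  have hlt : ∀ {H : Subgroup G}, IsMaxNil H → H < Subgroup.normalizer (H : Set G) := by
    intro H hH
    refine lt_of_le_of_ne Subgroup.le_normalizer ?_
    intro heq
    -- `H` would be a Frobenius complement
    have hF : IsFrobeniusComplement H := by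
      refine ⟨hne hH, hneT hH, ?_⟩
      intro g hg
      rw [eq_bot_iff]
      intro x hx
      obtain ⟨hxH, hxg⟩ := Subgroup.mem_inf.mp hx
      rw [Subgroup.mem_pointwise_smul_iff_inv_smul_mem] at hxg
      have he' : g⁻¹ * x * g ∈ H := by
        have : (MulAut.conj g)⁻¹ • x = g⁻¹ * x * g := by
          simp [MulAut.smul_def, MulAut.conj_symm_apply, mul_assoc]
        rwa [this] at hxg
      have hgN : g⁻¹ ∉ Subgroup.normalizer (H : Set G) := by
        rw [← heq]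
        exact fun h => hg (by simpa using H.inv_mem h)
      have h1 := hTIs hH g⁻¹ hgN x hxH (by simpa using he')
      exact Subgroup.mem_bot.mpr h1
    obtain ⟨N, _, hNn, hNc⟩ := H01.frobenius_theorem H hF
    rcases hsimple.eq_bot_or_eq_top_of_normal N hNn with h | h
    · apply hneT hH
      have := hNc.sup_eq_top
      rwa [h, bot_sup_eq] at this
    · apply hne hH
      have := hNc.disjoint
      rw [h] at this
      exact disjoint_top.mp this.symm
  refine ti_no_cover (G := G) hodd (ι := ι) (fun i => (rep i).1) (fun i => hne (rep i).2)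
    (fun i => hlt (rep i).2) ?_ (fun i => hTIs (rep i).2) ?_ ?_
  · intro i j hij
    rcases maxNil_coprime_or_conj hG hCN (rep i).2 (rep j).2 with ⟨g, hg⟩ | h
    · exfalso
      apply hij
      have h1 : rep i ≈ rep j := ⟨g, hg⟩
      have h2 := Quotient.sound h1
      simpa [rep, Quotient.out_eq] using h2
    · exact h
  · intro i k hk hk1
    have hH := (rep i).2
    exact S1477.part_c hCN hH.1 hH.2 (hTIm hH) hk hk1
  · intro g hg
    obtain ⟨H, hH, hgH⟩ := exists_isMaxNil hCN hg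
    let i : ι := Quotient.mk s ⟨H, hH⟩
    have h1 : rep i ≈ ⟨H, hH⟩ := Quotient.mk_out (s := s) ⟨H, hH⟩
    obtain ⟨x, hx⟩ := h1
    -- `H = (rep i)^x`
    refine ⟨i, x⁻¹, ?_⟩
    have hx' : H = (rep i).1.map (MulAut.conj x).toMonoidHom := hx
    rw [hx', mem_map_conj_iff] at hgH
    simpa using hgH

end Final

end Cfsg.Agent.H06
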