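import Cfsg.Agent.Lib.H06.CNJ7
import Cfsg.Agent.S1473

/-!
# The CN-theorem for odd order
-/

set_option autoImplicit false
set_option linter.style.haveILetI false
set_option linter.unusedSectionVars false
set_option linter.unusedVariables false

namespace Cfsg.Agent.H06

open Cfsg

universe u

/-- A CN-group of odd order is solvable. -/
theorem cn_odd_solvable : ∀ (n : ℕ) (G : Type u) [Group G] [Finite G], Nat.card G = n → Odd n →
    IsCNGroup G → Group.IsSolvable G := by
  intro n
  induction n using Nat.strong_induction_on with
  | _ n ih =>
    intro G _ _ hn hodd hCN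
    classical
    have hsmall : ∀ (H : Subgroup G), H ≠ ⊤ → Group.IsSolvable H := by
      intro H hH
      have h1 : Nat.card H ∣ n := hn ▸ Subgroup.card_subgroup_dvd_card H
      have h2 : Nat.card H < n := by
        have h3 : Nat.card H ≠ n := by
          intro h
          apply hH
          apply Subgroup.eq_top_of_card_eq
          rw [h, hn]
        have h4 : 0 < n := hodd.pos
        exact lt_of_le_of_ne (Nat.le_of_dvd h4 h1) h3
      exact ih _ h2 H rfl (Odd.of_dvd_nat hodd h1) (isCN_subgroup hCN H)
    by_cases hsimple : IsSimpleGroup G
    · by_cases hab : IsMulCommutative G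
      · exact isSolvable_of_comm hab.is_comm.comm
      · exact (no_minSimple_CN (G := G) ⟨hn ▸ hodd, hsimple, hab, hsmall⟩ hCN).elim
    · by_cases htriv : Nontrivial G
      · -- a proper nontrivial normal subgroup
        have hex : ∃ N : Subgroup G, N.Normal ∧ N ≠ ⊥ ∧ N ≠ ⊤ := by
          by_contra hcon
          push Not at hcon
          apply hsimple
          refine ⟨fun N hN => ?_⟩
          by_cases hb : N = ⊥
          · exact Or.inl hb
          · exact Or.inr (hcon N hN hb)
        obtain ⟨N, hNn, hNb, hNt⟩ := hex
        haveI := hNn
        have hNsol : Group.IsSolvable N := hsmall N hNt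
        have hQCN : IsCNGroup (G ⧸ N) := S1473.result hCN N hNsol
        have hdvd : Nat.card (G ⧸ N) ∣ n := by
          rw [← hn]
          exact Subgroup.card_quotient_dvd_card N
        have hlt : Nat.card (G ⧸ N) < n := by
          have h1 : Nat.card N * Nat.card (G ⧸ N) = n := by
            rw [← hn, mul_comm]
            exact (Subgroup.card_eq_card_quotient_mul_card_subgroup N).symm
          have h2 : 1 < Nat.card N := Subgroup.one_lt_card_iff_ne_bot _ |>.mpr hNb
          have h3 : 0 < Nat.card (G ⧸ N) := Nat.card_pos
          nlinarith
        haveI hQsol : Group.IsSolvable (G ⧸ N) := ih _ hlt (G ⧸ N) rfl (Odd.of_dvd_nat hodd hdvd) hQCN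
        exact solvable_of_ker_le_range N.subtype (QuotientGroup.mk' N) (by
          intro x hx
          rw [MonoidHom.mem_ker] at hx
          have : x ∈ N := (QuotientGroup.eq_one_iff x).mp hx
          exact ⟨⟨x, this⟩, rfl⟩)
      · haveI : Subsingleton G := not_nontrivial_iff_subsingleton.mp htriv
        infer_instance

end Cfsg.Agent.H06
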