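import Cfsg.Agent.Lib.H06.CN
import Cfsg.Agent.Lib.H06.CoprimeCoset
import Cfsg.Agent.Lib.H06.FittingHall
import Cfsg.Agent.Lib.H01.Solv
import Cfsg.Agent.Lib.H01.Hall

/-! Quotients of CN-groups by solvable normal subgroups (helper6). -/

set_option autoImplicit false

namespace Cfsg.Agent.H06

open Cfsg

universe u

theorem isCN_of_mulEquiv {A B : Type*} [Group A] [Group B] (e : A ≃* B) (h : IsCNGroup A) :
    IsCNGroup B := by
  intro g hg
  have hg' : e.symm g ≠ 1 := by
    simpa using hg
  haveI := h _ hg'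
  let f : Subgroup.centralizer ({e.symm g} : Set A) →* Subgroup.centralizer ({g} : Set B) :=
    { toFun := fun x => ⟨e x, by
        rw [Subgroup.mem_centralizer_iff]
        intro w hw
        rw [Set.mem_singleton_iff.mp hw]
        have h1 := Subgroup.mem_centralizer_iff.mp x.2 (e.symm g) rfl
        have h2 := congrArg e h1
        simpa using h2⟩
      map_one' := by
        apply Subtype.ext; simp
      map_mul' := by
        intro a b
        apply Subtype.ext; simp }
  apply Group.nilpotent_of_surjective f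
  rintro ⟨y, hy⟩
  refine ⟨⟨e.symm y, ?_⟩, ?_⟩
  · rw [Subgroup.mem_centralizer_iff]
    intro w hw
    rw [Set.mem_singleton_iff.mp hw]
    have h1 := Subgroup.mem_centralizer_iff.mp hy g rfl
    have h2 := congrArg e.symm h1
    simpa using h2
  · apply Subtype.ext
    simp [f]

variable {G : Type u} [Group G] [Finite G]

/-- If `X / S` is a `p`-group, a Sylow `p`-subgroup covers `X / S`. -/
theorem sup_sylow_eq_top {X : Type u} [Group X] [Finite X] {p : ℕ} [Fact p.Prime] {S : Subgroup X}
    [S.Normal] (hS : ∀ g : X, ∃ k : ℕ, g ^ p ^ k ∈ S) (T : Sylow p X) :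
    S ⊔ (T : Subgroup X) = ⊤ := by
  have hprime : p.Prime := Fact.out
  have h2 : IsPGroup p (X ⧸ S) := by
    intro x
    induction x using QuotientGroup.induction_on with
    | H y =>
      obtain ⟨k, hk⟩ := hS y
      refine ⟨k, ?_⟩
      rw [← QuotientGroup.mk_pow, QuotientGroup.eq_one_iff]
      exact hk
  have hi1 : (S ⊔ (T : Subgroup X)).index ∣ S.index := Subgroup.index_dvd_of_le le_sup_left
  have hi2 : (S ⊔ (T : Subgroup X)).index ∣ (T : Subgroup X).index :=
    Subgroup.index_dvd_of_le le_sup_right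
  obtain ⟨j, hj⟩ := IsPGroup.iff_card.mp h2
  have hi3 : S.index = p ^ j := by
    rw [Subgroup.index_eq_card]
    exact hj
  rw [hi3] at hi1
  obtain ⟨i, _, hi⟩ := (Nat.dvd_prime_pow hprime).mp hi1
  have hodd : ¬ p ∣ (T : Subgroup X).index := T.not_dvd_index
  rcases i with _ | i
  · exact Subgroup.index_eq_one.mp (by simpa using hi)
  · exfalso
    apply hodd
    rw [hi] at hi2
    exact (dvd_pow_self p (Nat.succ_ne_zero i)).trans hi2

theorem isCN_quotient_abelian_pgroup (hCN : IsCNGroup G) {N : Subgroup G} [hNn : N.Normal] {p : ℕ}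
    [Fact p.Prime] (hNp : IsPGroup p N) (hNc : ∀ a ∈ N, ∀ b ∈ N, a * b = b * a) (hN1 : N ≠ ⊥) :
    IsCNGroup (G ⧸ N) := by
  have hprime : p.Prime := Fact.out
  intro yb0 hyb0
  -- reduce to prime order
  have hord : orderOf yb0 ≠ 1 := fun h => hyb0 (orderOf_eq_one_iff.mp h)
  obtain ⟨r, hr, hrd⟩ := Nat.exists_prime_and_dvd hord
  have hpos : orderOf yb0 ≠ 0 := (orderOf_pos yb0).ne'
  set y := yb0 ^ (orderOf yb0 / r) with hy
  have hyo : orderOf y = r := orderOf_pow_orderOf_div hpos hrd
  have hle : Subgroup.centralizer ({yb0} : Set (G ⧸ N)) ≤ Subgroup.centralizer ({y} : Set (G ⧸ N)) := by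
    intro c hc
    rw [Subgroup.mem_centralizer_iff] at hc ⊢
    intro w hw
    rw [Set.mem_singleton_iff.mp hw, hy]
    have h1 : Commute yb0 c := hc yb0 rfl
    exact h1.pow_left _
  refine nilpotent_of_le hle ?_
  obtain ⟨x₀, hx₀⟩ := QuotientGroup.mk_surjective y
  obtain ⟨a, b, hab, hcomm, ⟨k, ha⟩, hb, haz, hbz⟩ := H19.exists_primary_decomp p x₀
  have hzp : ∀ c ∈ Subgroup.zpowers x₀, (QuotientGroup.mk c : G ⧸ N) ∈ Subgroup.zpowers y := by
    rintro _ ⟨n, rfl⟩
    refine ⟨n, ?_⟩
    rw [← hx₀]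
    rfl
  have hord_dvd : ∀ c ∈ Subgroup.zpowers x₀, (QuotientGroup.mk c : G ⧸ N) ^ r = 1 := by
    intro c hc
    obtain ⟨n, hn⟩ := hzp c hc
    rw [← hn]
    show (y ^ n) ^ r = 1
    rw [← zpow_natCast, ← zpow_mul, mul_comm, zpow_mul, zpow_natCast, ← hyo, pow_orderOf_eq_one,
      one_zpow]
  have hmkN : ∀ g : G, (QuotientGroup.mk g : G ⧸ N) = 1 ↔ g ∈ N := fun g => QuotientGroup.eq_one_iff g
  -- membership in the preimage of the centralizer
  by_cases hrp : r = p
  · -- the case `r = p`
    subst hrp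
    have hmkb : (QuotientGroup.mk b : G ⧸ N) = 1 := by
      have h1 := hord_dvd b hbz
      have h2 : (QuotientGroup.mk b : G ⧸ N) ^ orderOf b = 1 := by
        rw [← QuotientGroup.mk_pow, pow_orderOf_eq_one]; rfl
      exact (pow_eq_one_iff_of_coprime hb).mp ⟨h2, h1⟩
    have hmka : (QuotientGroup.mk a : G ⧸ N) = y := by
      rw [← hx₀, hab, QuotientGroup.mk_mul, hmkb, mul_one]
    set x := a with hxdef
    have hxN : x ∉ N := by
      intro h
      have h1 := (hmkN x).mpr h
      rw [hmka] at h1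
      rw [h1, orderOf_one] at hyo
      exact hr.one_lt.ne hyo
    have hx1 : x ≠ 1 := fun h => hxN (h ▸ N.one_mem)
    have hzpx : IsPGroup r (Subgroup.zpowers x) := H19.isPGroup_zpowers_of_orderOf ha
    have hAp : IsPGroup r (N ⊔ Subgroup.zpowers x : Subgroup G) :=
      IsPGroup.to_sup_of_normal_left hNp hzpx
    set A : Subgroup G := N ⊔ Subgroup.zpowers x with hA
    have hNA : N ≤ A := le_sup_left
    haveI hAnil : Group.IsNilpotent ↥A := hAp.isNilpotent
    -- central element of `A` in `N`
    have hN'n : (N.subgroupOf A).Normal := Subgroup.Normal.subgroupOf hNn A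
    have hN'ne : N.subgroupOf A ≠ ⊥ := by
      intro hb'
      apply hN1
      rw [eq_bot_iff]
      intro n hn
      have h1 : (⟨n, hNA hn⟩ : ↥A) ∈ N.subgroupOf A := by
        rw [Subgroup.mem_subgroupOf]; exact hn
      rw [hb', Subgroup.mem_bot] at h1
      exact congrArg Subtype.val h1
    obtain ⟨h₁, hh₁N, hh₁1, hh₁c⟩ := exists_central_of_normal hN'n hN'ne
    rw [Subgroup.mem_subgroupOf] at hh₁N
    have hh₁1' : (h₁ : G) ≠ 1 := fun h => hh₁1 (Subtype.ext h)
    have hNpow : ∀ n ∈ N, ∃ j, orderOf n = r ^ j := fun n hn =>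
      H19.orderOf_of_mem_isPGroup hNp hn
    set L : Subgroup G := (Subgroup.centralizer ({y} : Set (G ⧸ N))).comap (QuotientGroup.mk' N) with hL
    have hLmem : ∀ g : G, g ∈ L ↔ g * x * g⁻¹ * x⁻¹ ∈ N := by
      intro g
      rw [hL, Subgroup.mem_comap, Subgroup.mem_centralizer_iff, ← hmkN]
      constructor
      · intro h
        have h1 := h y rfl
        rw [← hmka] at h1
        have h2 : (QuotientGroup.mk' N g) * (QuotientGroup.mk x : G ⧸ N) =
            (QuotientGroup.mk x : G ⧸ N) * (QuotientGroup.mk' N g) := h1.symm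
        show (QuotientGroup.mk g : G ⧸ N) * (QuotientGroup.mk x : G ⧸ N) * (QuotientGroup.mk g : G ⧸ N)⁻¹ *
          (QuotientGroup.mk x : G ⧸ N)⁻¹ = 1
        have h3 : (QuotientGroup.mk g : G ⧸ N) * (QuotientGroup.mk x : G ⧸ N) =
            (QuotientGroup.mk x : G ⧸ N) * (QuotientGroup.mk g : G ⧸ N) := h2
        rw [h3]; group
      · intro h w hw
        rw [Set.mem_singleton_iff.mp hw, ← hmka]
        have h1 : (QuotientGroup.mk g : G ⧸ N) * (QuotientGroup.mk x : G ⧸ N) * (QuotientGroup.mk g : G ⧸ N)⁻¹ *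
          (QuotientGroup.mk x : G ⧸ N)⁻¹ = 1 := h
        rw [mul_inv_eq_one, mul_inv_eq_iff_eq_mul] at h1
        exact h1.symm
    -- Claim 1
    have hclaim : ∀ g ∈ L, (orderOf g).Coprime r → ∀ n ∈ N, g * n = n * g := by
      intro g hgL hgc n hn
      have hgN : ∀ m ∈ N, g * m * g⁻¹ ∈ N := fun m hm => hNn.conj_mem m hm g
      have hcN : (orderOf g).Coprime (Nat.card N) := by
        obtain ⟨j, hj⟩ := IsPGroup.iff_card.mp hNp
        rw [hj]
        exact Nat.Coprime.pow_right _ hgc
      have hw : x⁻¹ * (g * x * g⁻¹) ∈ N := by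
        have h1 := (hLmem g).mp hgL
        have h2 := hNn.conj_mem _ h1 x⁻¹
        have h3 : x⁻¹ * (g * x * g⁻¹ * x⁻¹) * x⁻¹⁻¹ = x⁻¹ * (g * x * g⁻¹) := by group
        rwa [h3] at h2
      obtain ⟨n₁, hn₁, hcn₁⟩ := exists_fixed_of_coset hgN hcN hw
      have ha'1 : x * n₁ ≠ 1 := by
        intro h
        apply hxN
        have : x = n₁⁻¹ := eq_inv_of_mul_eq_one_left h
        rw [this]
        exact N.inv_mem hn₁
      haveI hCa' := hCN _ ha'1
      have hxA : x ∈ A := Subgroup.mem_sup_right (Subgroup.mem_zpowers x)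
      have ha'A : x * n₁ ∈ A := A.mul_mem hxA (hNA hn₁)
      have h1 : (h₁ : G) ∈ Subgroup.centralizer ({x * n₁} : Set G) := by
        rw [Subgroup.mem_centralizer_iff]
        intro w hw
        rw [Set.mem_singleton_iff.mp hw]
        have h2 := (Subgroup.mem_center_iff.mp hh₁c) ⟨x * n₁, ha'A⟩
        exact congrArg Subtype.val h2
      have h2 : g ∈ Subgroup.centralizer ({x * n₁} : Set G) := by
        rw [Subgroup.mem_centralizer_iff]
        intro w hw
        rw [Set.mem_singleton_iff.mp hw]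
        exact hcn₁.eq
      obtain ⟨j, hj⟩ := hNpow _ hh₁N
      have hcop : (orderOf (h₁ : G)).Coprime (orderOf g) := by
        rw [hj]
        exact Nat.Coprime.pow_left _ hgc.symm
      have h3 := commute_of_coprime_order_sub hCa' h1 h2 hcop
      haveI hCh₁ := hCN _ hh₁1'
      have h4 : g ∈ Subgroup.centralizer ({(h₁ : G)} : Set G) := by
        rw [Subgroup.mem_centralizer_iff]
        intro w hw
        rw [Set.mem_singleton_iff.mp hw]
        exact h3
      have h5 : n ∈ Subgroup.centralizer ({(h₁ : G)} : Set G) := by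
        rw [Subgroup.mem_centralizer_iff]
        intro w hw
        rw [Set.mem_singleton_iff.mp hw]
        exact hNc _ hh₁N _ hn
      obtain ⟨j', hj'⟩ := hNpow _ hn
      have hcop2 : (orderOf g).Coprime (orderOf n) := by
        rw [hj']
        exact Nat.Coprime.pow_right _ hgc
      exact commute_of_coprime_order_sub hCh₁ h4 h5 hcop2
    -- Claim 2 : `L` nilpotent
    have hNL : N ≤ L := by
      intro n hn
      rw [hLmem]
      have h1 : n * x * n⁻¹ * x⁻¹ = n * (x * n⁻¹ * x⁻¹) := by group
      rw [h1]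
      exact N.mul_mem hn (hNn.conj_mem _ (N.inv_mem hn) x)
    have hLnil : Group.IsNilpotent ↥L := by
      set S : Subgroup ↥L := (Subgroup.centralizer (N : Set G)).subgroupOf L with hS
      haveI hCn : (Subgroup.centralizer (N : Set G)).Normal := Subgroup.normal_centralizer
      haveI hSn : S.Normal := Subgroup.Normal.subgroupOf hCn L
      have hSp : ∀ g : ↥L, ∃ k : ℕ, g ^ r ^ k ∈ S := by
        intro g
        obtain ⟨a', b', hab', hcomm', ⟨k', ha'⟩, hb', _, _⟩ := H19.exists_primary_decomp r g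
        refine ⟨k', ?_⟩
        rw [hab', hcomm'.mul_pow, ← ha', pow_orderOf_eq_one, one_mul]
        apply Subgroup.pow_mem
        rw [hS, Subgroup.mem_subgroupOf, Subgroup.mem_centralizer_iff]
        intro n hn
        have hc : (orderOf (b' : G)).Coprime r := by simpa using hb'
        exact (hclaim b' b'.2 hc n hn).symm
      obtain ⟨T⟩ : Nonempty (Sylow r ↥L) := inferInstance
      have htop := sup_sylow_eq_top hSp T
      haveI hTnil : Group.IsNilpotent ↥(T : Subgroup ↥L) := T.isPGroup'.isNilpotent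
      have hN'Ln : (N.subgroupOf L).Normal := Subgroup.Normal.subgroupOf hNn L
      have hN'Lp : IsPGroup r ↥(N.subgroupOf L) :=
        hNp.comap_of_injective L.subtype L.subtype_injective
      have hN'T : N.subgroupOf L ≤ (T : Subgroup ↥L) := hN'Lp.le_sylow_of_normal T
      have hN''n : ((N.subgroupOf L).subgroupOf (T : Subgroup ↥L)).Normal :=
        Subgroup.Normal.subgroupOf hN'Ln _
      have hN''ne : (N.subgroupOf L).subgroupOf (T : Subgroup ↥L) ≠ ⊥ := by
        intro hb'
        apply hN1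
        rw [eq_bot_iff]
        intro n hn
        have h0 : (⟨n, hNL hn⟩ : ↥L) ∈ N.subgroupOf L := by
          rw [Subgroup.mem_subgroupOf]; exact hn
        have h1 : (⟨⟨n, hNL hn⟩, hN'T h0⟩ : ↥(T : Subgroup ↥L)) ∈
            (N.subgroupOf L).subgroupOf (T : Subgroup ↥L) := by
          rw [Subgroup.mem_subgroupOf]; exact h0
        rw [hb', Subgroup.mem_bot] at h1
        have h2 := congrArg Subtype.val h1
        exact congrArg Subtype.val h2
      obtain ⟨z, hzN, hz1, hzc⟩ := exists_central_of_normal hN''n hN''ne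
      rw [Subgroup.mem_subgroupOf, Subgroup.mem_subgroupOf] at hzN
      have hz1' : (((z : ↥L)) : G) ≠ 1 := fun h => hz1 (Subtype.ext (Subtype.ext h))
      have hLC : L ≤ Subgroup.centralizer ({((z : ↥L) : G)} : Set G) := by
        intro g hg
        have hmem : (⟨g, hg⟩ : ↥L) ∈ S ⊔ (T : Subgroup ↥L) := by
          rw [htop]; trivial
        obtain ⟨s, hs, t, ht, hst⟩ := mem_sup_of_normalizes
          (fun d _ n hn => hSn.conj_mem n hn d) hmem
        have hg' : g = (s : G) * ((t : ↥L) : G) := congrArg Subtype.val hst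
        rw [hg', Subgroup.mem_centralizer_iff]
        intro w hw
        rw [Set.mem_singleton_iff.mp hw]
        have h1 : (z : ↥L) * t = t * (z : ↥L) := by
          have := (Subgroup.mem_center_iff.mp hzc) ⟨t, ht⟩
          exact (congrArg Subtype.val this).symm
        have h2 : (((z : ↥L)) : G) * ((t : ↥L) : G) = ((t : ↥L) : G) * ((z : ↥L) : G) :=
          congrArg Subtype.val h1
        have hs' : (s : G) ∈ Subgroup.centralizer (N : Set G) := hs
        have h3 := Subgroup.mem_centralizer_iff.mp hs' _ hzN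
        calc ((z : ↥L) : G) * ((s : G) * ((t : ↥L) : G))
            = (((z : ↥L) : G) * (s : G)) * ((t : ↥L) : G) := by group
          _ = ((s : G) * ((z : ↥L) : G)) * ((t : ↥L) : G) := by rw [h3]
          _ = (s : G) * (((z : ↥L) : G) * ((t : ↥L) : G)) := by group
          _ = (s : G) * (((t : ↥L) : G) * ((z : ↥L) : G)) := by rw [h2]
          _ = _ := by group
      exact nilpotent_of_le hLC (hCN _ hz1')
    -- conclusion
    have hmap : (Subgroup.centralizer ({y} : Set (G ⧸ N))) = L.map (QuotientGroup.mk' N) :=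
      (Subgroup.map_comap_eq_self_of_surjective (QuotientGroup.mk'_surjective N) _).symm
    rw [hmap]
    exact Group.nilpotent_of_surjective ((QuotientGroup.mk' N).subgroupMap L)
      ((QuotientGroup.mk' N).subgroupMap_surjective L)
  · -- the case `r ≠ p`
    have hmka : (QuotientGroup.mk a : G ⧸ N) = 1 := by
      have h1 := hord_dvd a haz
      have h2 : (QuotientGroup.mk a : G ⧸ N) ^ orderOf a = 1 := by
        rw [← QuotientGroup.mk_pow, pow_orderOf_eq_one]; rfl
      have hcop : (orderOf a).Coprime r := by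
        rw [ha]
        exact Nat.Coprime.pow_left _ ((Nat.coprime_primes hprime hr).mpr (Ne.symm hrp))
      exact (pow_eq_one_iff_of_coprime hcop).mp ⟨h2, h1⟩
    have hmkb : (QuotientGroup.mk b : G ⧸ N) = y := by
      rw [← hx₀, hab, QuotientGroup.mk_mul, hmka, one_mul]
    set x := b with hxdef
    have hxN : x ∉ N := by
      intro h
      have h1 := (hmkN x).mpr h
      rw [hmkb] at h1
      rw [h1, orderOf_one] at hyo
      exact hr.one_lt.ne hyo
    have hx1 : x ≠ 1 := fun h => hxN (h ▸ N.one_mem)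
    haveI hCx := hCN x hx1
    have hmap : Subgroup.centralizer ({y} : Set (G ⧸ N)) =
        (Subgroup.centralizer ({x} : Set G)).map (QuotientGroup.mk' N) := by
      apply le_antisymm
      · intro gb hgb
        obtain ⟨g, rfl⟩ := QuotientGroup.mk_surjective gb
        have hc : (QuotientGroup.mk g : G ⧸ N) * y = y * (QuotientGroup.mk g : G ⧸ N) :=
          (Subgroup.mem_centralizer_iff.mp hgb y rfl).symm
        have hgN : ∀ m ∈ N, x * m * x⁻¹ ∈ N := fun m hm => hNn.conj_mem m hm x
        have hcN : (orderOf x).Coprime (Nat.card N) := by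
          obtain ⟨j, hj⟩ := IsPGroup.iff_card.mp hNp
          rw [hj]
          exact Nat.Coprime.pow_right _ hb
        have hh : g * x * g⁻¹ * x⁻¹ ∈ N := by
          rw [← hmkN]
          show (QuotientGroup.mk g : G ⧸ N) * (QuotientGroup.mk x : G ⧸ N) * (QuotientGroup.mk g : G ⧸ N)⁻¹ *
            (QuotientGroup.mk x : G ⧸ N)⁻¹ = 1
          rw [hmkb, hc]; group
        have hpow : ((g * x * g⁻¹ * x⁻¹) * x) ^ orderOf x = 1 := by
          have : (g * x * g⁻¹ * x⁻¹) * x = g * x * g⁻¹ := by group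
          rw [this, conj_pow, pow_orderOf_eq_one]; group
        obtain ⟨m, hm, he⟩ := exists_conj_eq_of_pow_eq_one hgN hcN hh hpow
        refine ⟨m * g, ?_, ?_⟩
        · rw [SetLike.mem_coe, Subgroup.mem_centralizer_iff]
          intro w hw
          rw [Set.mem_singleton_iff.mp hw]
          have h1 : m * (g * x * g⁻¹) * m⁻¹ = x := by
            have h2 : (g * x * g⁻¹ * x⁻¹) * x = g * x * g⁻¹ := by group
            rwa [h2] at he
          calc x * (m * g) = (m * (g * x * g⁻¹) * m⁻¹) * (m * g) := by rw [h1]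
            _ = m * g * x := by group
        · show (QuotientGroup.mk (m * g) : G ⧸ N) = QuotientGroup.mk g
          rw [QuotientGroup.mk_mul, (hmkN m).mpr hm, one_mul]
      · rintro _ ⟨c, hc, rfl⟩
        rw [Subgroup.mem_centralizer_iff]
        intro w hw
        rw [Set.mem_singleton_iff.mp hw, ← hmkb]
        have h1 := Subgroup.mem_centralizer_iff.mp hc x rfl
        show (QuotientGroup.mk x : G ⧸ N) * (QuotientGroup.mk c : G ⧸ N) =
          (QuotientGroup.mk c : G ⧸ N) * (QuotientGroup.mk x : G ⧸ N)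
        rw [← QuotientGroup.mk_mul, ← QuotientGroup.mk_mul, h1]
    rw [hmap]
    exact Group.nilpotent_of_surjective ((QuotientGroup.mk' N).subgroupMap _)
      ((QuotientGroup.mk' N).subgroupMap_surjective _)

/-- A nontrivial solvable normal subgroup contains a nontrivial abelian normal `p`-subgroup of `G`. -/
theorem exists_abelian_pgroup_normal_le {H : Subgroup G} [hHn : H.Normal] (hH : Group.IsSolvable H)
    (hH1 : H ≠ ⊥) :
    ∃ (N : Subgroup G) (p : ℕ), N ≤ H ∧ N.Normal ∧ N ≠ ⊥ ∧ p.Prime ∧ (∀ a ∈ N, ∀ b ∈ N, a * b = b * a) ∧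
      ∀ x ∈ N, x ^ p = 1 := by
  obtain ⟨N, hNH, hNn, hN1, hmin⟩ := H01.exists_minimal_normal_le hHn hH1
  have hsolv : Group.IsSolvable N := H01.isSolvable_of_le hNH hH
  have hcomm : ⁅N, N⁆ = ⊥ := by
    rcases hmin ⁅N, N⁆ (Subgroup.commutator_normal N N) (Subgroup.commutator_le_left N N) with h | h
    · exact h
    · exact absurd h (H01.commutator_subgroup_ne_self hsolv hN1)
  have hNc : ∀ a ∈ N, ∀ b ∈ N, a * b = b * a := by
    intro a ha b hb
    have h1 : a * b * a⁻¹ * b⁻¹ ∈ ⁅N, N⁆ := Subgroup.commutator_mem_commutator ha hb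
    rw [hcomm, Subgroup.mem_bot, mul_inv_eq_one, mul_inv_eq_iff_eq_mul] at h1
    exact h1
  -- a prime
  have hNnt : Nontrivial N := (Subgroup.nontrivial_iff_ne_bot N).mpr hN1
  have hcard : Nat.card N ≠ 1 := Finite.one_lt_card.ne'
  obtain ⟨p, hp, hpd⟩ := Nat.exists_prime_and_dvd hcard
  haveI := Fact.mk hp
  obtain ⟨x, hx⟩ := exists_prime_orderOf_dvd_card' p hpd
  let Ω : Subgroup G :=
    { carrier := {y | y ∈ N ∧ y ^ p = 1}
      one_mem' := ⟨N.one_mem, one_pow p⟩
      mul_mem' := by
        rintro a b ⟨ha, ha'⟩ ⟨hb, hb'⟩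
        refine ⟨N.mul_mem ha hb, ?_⟩
        have h1 : Commute a b := hNc a ha b hb
        rw [h1.mul_pow, ha', hb', one_mul]
      inv_mem' := by
        rintro a ⟨ha, ha'⟩
        refine ⟨N.inv_mem ha, ?_⟩
        rw [inv_pow, ha', inv_one] }
  have hΩn : Ω.Normal := by
    constructor
    rintro y ⟨hy, hy'⟩ g
    refine ⟨hNn.conj_mem y hy g, ?_⟩
    rw [conj_pow, hy']; group
  have hΩle : Ω ≤ N := fun y hy => hy.1
  have hxp : (x : G) ^ p = 1 := by
    have := pow_orderOf_eq_one x
    rw [hx] at this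
    exact congrArg Subtype.val this
  have hx1 : (x : G) ≠ 1 := by
    intro h
    have h2 : x = 1 := Subtype.ext h
    rw [h2, orderOf_one] at hx
    exact hp.one_lt.ne hx
  rcases hmin Ω hΩn hΩle with h | h
  · exfalso
    have h2 : (x : G) ∈ Ω := ⟨x.2, hxp⟩
    rw [h, Subgroup.mem_bot] at h2
    exact hx1 h2
  · refine ⟨N, p, hNH, hNn, hN1, hp, hNc, fun y hy => ?_⟩
    rw [← h] at hy
    exact hy.2

theorem isCN_quotient_solvable : ∀ (n : ℕ) (G : Type u) [Group G] [Finite G] (_ : IsCNGroup G)
    (H : Subgroup G) [H.Normal] (_ : Group.IsSolvable H), Nat.card H = n → IsCNGroup (G ⧸ H) := by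
  intro n
  induction n using Nat.strong_induction_on with
  | _ n ih =>
    intro G _ _ hCN H _ hH hn
    by_cases hH1 : H = ⊥
    · subst hH1
      exact isCN_of_mulEquiv (QuotientGroup.quotientBot (G := G)).symm hCN
    · obtain ⟨N, p, hNH, hNn, hN1, hp, hNc, hNpow⟩ := exists_abelian_pgroup_normal_le hH hH1
      haveI := hNn
      haveI := Fact.mk hp
      have hNp : IsPGroup p N := by
        intro x
        refine ⟨1, ?_⟩
        apply Subtype.ext
        simpa using hNpow x x.2
      have hCN' : IsCNGroup (G ⧸ N) := isCN_quotient_abelian_pgroup hCN hNp hNc hN1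
      haveI hH'n : (H.map (QuotientGroup.mk' N)).Normal :=
        Subgroup.Normal.map inferInstance _ (QuotientGroup.mk'_surjective N)
      have hH's : Group.IsSolvable (H.map (QuotientGroup.mk' N)) :=
        Group.isSolvable_of_surjective ((QuotientGroup.mk' N).subgroupMap_surjective H)
      have hcard : Nat.card (H.map (QuotientGroup.mk' N)) * Nat.card N = Nat.card H :=
        H01.card_map_mk_of_le N H hNH
      have hlt : Nat.card (H.map (QuotientGroup.mk' N)) < n := by
        rw [← hn, ← hcard]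
        have h1 : 1 < Nat.card N := by
          haveI : Nontrivial N := (Subgroup.nontrivial_iff_ne_bot N).mpr hN1
          exact Finite.one_lt_card
        have h2 : 0 < Nat.card (H.map (QuotientGroup.mk' N)) := Nat.card_pos
        nlinarith
      have h3 := ih _ hlt (G ⧸ N) hCN' (H.map (QuotientGroup.mk' N)) hH's rfl
      exact isCN_of_mulEquiv (QuotientGroup.quotientQuotientEquivQuotient N H hNH) h3

end Cfsg.Agent.H06
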