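import Cfsg.Agent.Lib.H06.CNFrob
import Cfsg.Agent.Lib.H06.CNQuot
import Cfsg.Agent.Lib.H01.Solv2
import Cfsg.Agent.Lib.H01.Fitting

/-! Solvable CN-groups (helper6). -/

set_option autoImplicit false

namespace Cfsg.Agent.H06

open Cfsg
open scoped commutatorElement

universe u

/-- A nilpotent Z-group is cyclic. -/
theorem isCyclic_of_nilp_Z {E : Type u} [Group E] [Finite E] [IsZGroup E] (hnil : Group.IsNilpotent E) :
    IsCyclic E := by
  classical
  obtain ⟨e⟩ := (Group.isNilpotent_of_finite_tfae (G := E)).out 0 4 |>.mp hnil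
  have hcomm : ∀ x y : E, x * y = y * x := by
    intro x y
    apply e.symm.injective
    rw [map_mul, map_mul]
    funext p P
    haveI : Fact (p : ℕ).Prime := ⟨Nat.prime_of_mem_primeFactors p.2⟩
    haveI : IsCyclic (P : Subgroup E) := inferInstance
    haveI : IsMulCommutative (P : Subgroup E) := IsCyclic.commutative
    exact mul_comm' _ _
  letI : CommGroup E := { (inferInstance : Group E) with mul_comm := hcomm }
  exact IsCyclic.of_exponent_eq_card (IsZGroup.exponent_eq_card E)

variable {G : Type u} [Group G] [Finite G]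

/-- A Sylow subgroup of `G` contained in a normal nilpotent subgroup is normal. -/
theorem sylow_normal_of_le_nilp {p : ℕ} [Fact p.Prime] (X : Subgroup G) [hXn : X.Normal]
    (hX : Group.IsNilpotent X) (S : Sylow p G) (hS : (S : Subgroup G) ≤ X) : (S : Subgroup G).Normal := by
  classical
  obtain ⟨Q₁⟩ : Nonempty (Sylow p X) := inferInstance
  have hQ₁n : (Q₁ : Subgroup X).Normal :=
    (Group.isNilpotent_of_finite_tfae (G := X)).out 0 3 rfl rfl |>.mp hX p inferInstance Q₁
  have hQ₁c : (Q₁ : Subgroup X).Characteristic := Sylow.characteristic_of_normal Q₁ hQ₁n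
  set Q₀ : Subgroup G := (Q₁ : Subgroup X).map X.subtype with hQ₀
  have hQ₀n : Q₀.Normal := inferInstance
  have hQ₀p : IsPGroup p Q₀ := Q₁.isPGroup'.map _
  have hSQ : (S : Subgroup G) ≤ Q₀ := by
    intro s hs
    obtain ⟨k, hk⟩ := S.isPGroup' ⟨s, hs⟩
    have h2 : s ^ p ^ k = 1 := congrArg Subtype.val hk
    obtain ⟨i, _, hi⟩ := (Nat.dvd_prime_pow (Fact.out : p.Prime)).mp (orderOf_dvd_of_pow_eq_one h2)
    refine ⟨⟨s, hS hs⟩, ?_, rfl⟩
    exact H19.mem_sylow_of_normal (k := i) (by rw [Subgroup.orderOf_mk]; exact hi) Q₁ hQ₁n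
  have := S.is_maximal' hQ₀p hSQ
  rw [← this]
  exact hQ₀n

/-- For a CN-group with `M_F = 1`, the Fitting subgroup is a `p`-group. -/
theorem cn_fitting_prime (hCN : IsCNGroup G) [Group.IsSolvable G] [Nontrivial G]
    (hH : fittingHall G = ⊥) :
    ∃ (p : ℕ) (_ : Fact p.Prime), pCore p G ≠ ⊥ ∧
      Subgroup.centralizer (pCore p G : Set G) ≤ pCore p G := by
  classical
  have hF : fittingSubgroup G ≠ ⊥ := by
    intro hb
    have h1 := H01.centralizer_fitting_le (G := G)
    rw [hb] at h1
    have h2 : (⊤ : Subgroup G) ≤ ⊥ := by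
      intro x _
      apply h1
      rw [Subgroup.mem_centralizer_iff]
      intro h hh
      have : h = 1 := by simpa using hh
      rw [this]
      simp
    exact top_ne_bot (le_bot_iff.mp h2)
  have hex : ∃ p : Nat.Primes, pCore (p : ℕ) G ≠ ⊥ := by
    by_contra hno
    push_neg at hno
    apply hF
    rw [H01.fitting_eq_iSup_pCore]
    exact iSup_eq_bot.mpr hno
  obtain ⟨⟨p, hp⟩, hP⟩ := hex
  haveI := Fact.mk hp
  have hPn : (pCore p G).Normal := H01.pCore_normal p
  have hPp : IsPGroup p (pCore p G) := H01.pCore_isPGroup p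
  refine ⟨p, inferInstance, hP, ?_⟩
  -- all other cores are trivial
  have hother : ∀ r : Nat.Primes, (r : ℕ) ≠ p → pCore (r : ℕ) G = ⊥ := by
    rintro ⟨r, hr⟩ hrp
    haveI := Fact.mk hr
    by_contra hR
    have hRn : (pCore r G).Normal := H01.pCore_normal r
    have hRp : IsPGroup r (pCore r G) := H01.pCore_isPGroup r
    have hdisj : Disjoint (pCore p G) (pCore r G) := IsPGroup.disjoint_of_ne p r (Ne.symm hrp) _ _ hPp hRp
    have hcm : ∀ x ∈ pCore p G, ∀ y ∈ pCore r G, x * y = y * x := fun x hx y hy =>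
      Subgroup.commute_of_normal_of_disjoint _ _ hPn hRn hdisj x y hx hy
    obtain ⟨S, hS⟩ := hPp.exists_le_sylow
    haveI hSnil : Group.IsNilpotent (S : Subgroup G) := S.isPGroup'.isNilpotent
    have hN : ((pCore p G).subgroupOf (S : Subgroup G)) ≠ ⊥ := by
      intro hb
      apply hP
      rw [eq_bot_iff]
      intro x hx
      have h1 : (⟨x, hS hx⟩ : (S : Subgroup G)) ∈ (pCore p G).subgroupOf (S : Subgroup G) :=
        Subgroup.mem_subgroupOf.mpr hx
      rw [hb, Subgroup.mem_bot] at h1
      exact Subgroup.mem_bot.mpr (congrArg Subtype.val h1)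
    obtain ⟨z', hzN, hz1, hzc⟩ := exists_central_of_normal
      (N := (pCore p G).subgroupOf (S : Subgroup G)) inferInstance hN
    have hzP : (z' : G) ∈ pCore p G := Subgroup.mem_subgroupOf.mp hzN
    have hzne : (z' : G) ≠ 1 := fun h => hz1 (Subtype.ext h)
    -- `S` centralizes `R`
    have hSC : (S : Subgroup G) ≤ Subgroup.centralizer (pCore r G : Set G) := by
      intro s hs
      rw [Subgroup.mem_centralizer_iff]
      intro x hx
      have h1 : (z' : G) * s = s * z' := by
        have := (Subgroup.mem_center_iff.mp hzc) ⟨s, hs⟩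
        exact (congrArg Subtype.val this).symm
      have h2 := hcm _ hzP x hx
      have hso : ∃ k, orderOf s = p ^ k := by
        obtain ⟨k, hk⟩ := S.isPGroup' ⟨s, hs⟩
        have h2 : s ^ p ^ k = 1 := congrArg Subtype.val hk
        obtain ⟨i, _, hi⟩ := (Nat.dvd_prime_pow hp).mp (orderOf_dvd_of_pow_eq_one h2)
        exact ⟨i, hi⟩
      have hxo : ∃ k, orderOf x = r ^ k := by
        obtain ⟨k, hk⟩ := hRp ⟨x, hx⟩
        have h2 : x ^ r ^ k = 1 := congrArg Subtype.val hk
        obtain ⟨i, _, hi⟩ := (Nat.dvd_prime_pow hr).mp (orderOf_dvd_of_pow_eq_one h2)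
        exact ⟨i, hi⟩
      obtain ⟨k, hk⟩ := hso
      obtain ⟨l, hl⟩ := hxo
      have hcop : (orderOf x).Coprime (orderOf s) := by
        rw [hk, hl]
        exact Nat.Coprime.pow _ _ ((Nat.coprime_primes hr hp).mpr hrp)
      exact commute_of_coprime_order_sub (hCN _ hzne) (mem_centralizer_singleton' h2)
        (mem_centralizer_singleton' h1) hcop
    -- the centralizer of `R` is nilpotent
    have hRnil : Group.IsNilpotent (pCore r G) := hRp.isNilpotent
    obtain ⟨w, hwR, hw1, hw⟩ := exists_center_of_nilp (pCore r G) hRnil hR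
    have hXnil : Group.IsNilpotent (Subgroup.centralizer (pCore r G : Set G)) := by
      refine nilpotent_of_le (L := Subgroup.centralizer ({w} : Set G)) ?_ (hCN w hw1)
      intro y hy
      rw [Subgroup.mem_centralizer_iff] at hy
      exact mem_centralizer_singleton' (hy w hwR)
    haveI : (Subgroup.centralizer (pCore r G : Set G)).Normal := inferInstance
    have hSn := sylow_normal_of_le_nilp _ hXnil S hSC
    have hSH : (S : Subgroup G) ≤ fittingHall G := le_fittingHall hSn hSnil S.card_coprime_index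
    rw [hH] at hSH
    apply hP
    rw [eq_bot_iff]
    exact hS.trans hSH
  have hFP : fittingSubgroup G ≤ pCore p G := by
    rw [H01.fitting_eq_iSup_pCore]
    apply iSup_le
    intro r
    by_cases hr : (r : ℕ) = p
    · rw [hr]
    · rw [hother r hr]
      exact bot_le
  have hPF : pCore p G ≤ fittingSubgroup G := by
    rw [H01.fitting_eq_iSup_pCore]
    exact le_iSup (fun r : Nat.Primes => pCore (r : ℕ) G) ⟨p, hp⟩
  have heq : pCore p G = fittingSubgroup G := le_antisymm hPF hFP
  rw [heq]
  exact H01.centralizer_fitting_le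

/-- Lifting a subgroup of `G/P` of order prime to `p` isomorphically to `G`. -/
theorem exists_lift_complement {p : ℕ} [Fact p.Prime] (P : Subgroup G) [hPn : P.Normal] (hP : IsPGroup p P)
    (B : Subgroup (G ⧸ P)) (hB : (Nat.card B).Coprime p) :
    ∃ C : Subgroup G, C.map (QuotientGroup.mk' P) = B ∧ P ⊓ C = ⊥ ∧ Nat.card C = Nat.card B := by
  classical
  have hsurj : Function.Surjective (QuotientGroup.mk' P) := QuotientGroup.mk'_surjective P
  let φ := (QuotientGroup.mk' P).subgroupComap B
  have hφ : Function.Surjective φ := (QuotientGroup.mk' P).subgroupComap_surjective_of_surjective B hsurj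
  have hNidx : φ.ker.index = Nat.card B := by
    rw [Subgroup.index_ker, MonoidHom.range_eq_top.mpr hφ, Nat.card_congr (Subgroup.topEquiv.toEquiv)]
  have hNP : ∀ n ∈ φ.ker, ((n : B.comap (QuotientGroup.mk' P)) : G) ∈ P := by
    intro n hn
    have h1 : φ n = 1 := hn
    have h2 : QuotientGroup.mk' P (n : G) = 1 := congrArg Subtype.val h1
    exact (QuotientGroup.eq_one_iff _).mp h2
  have hNp : IsPGroup p φ.ker := by
    intro n
    obtain ⟨k, hk⟩ := hP ⟨_, hNP n n.2⟩
    refine ⟨k, Subtype.ext (Subtype.ext ?_)⟩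
    have h5 : ((n : B.comap (QuotientGroup.mk' P)) : G) ^ p ^ k = 1 := congrArg Subtype.val hk
    exact h5
  have hcop : (Nat.card φ.ker).Coprime φ.ker.index := by
    obtain ⟨m, hm⟩ := IsPGroup.iff_card.mp hNp
    rw [hm, hNidx]
    exact Nat.Coprime.pow_left _ hB.symm
  obtain ⟨C₁, hC₁⟩ := Subgroup.exists_right_complement'_of_coprime hcop
  refine ⟨C₁.map (B.comap (QuotientGroup.mk' P)).subtype, ?_, ?_, ?_⟩
  · apply le_antisymm
    · rintro _ ⟨_, ⟨c, _, rfl⟩, rfl⟩
      exact c.2
    · intro b hb
      obtain ⟨x, hx⟩ := hφ ⟨b, hb⟩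
      obtain ⟨⟨⟨n, hn⟩, ⟨c, hc⟩⟩, hnc⟩ := hC₁.2 x
      have hnc' : n * c = x := hnc
      refine ⟨(c : G), ⟨c, hc, rfl⟩, ?_⟩
      have h1 : φ x = φ c := by
        rw [← hnc', map_mul, MonoidHom.mem_ker.mp hn, one_mul]
      rw [hx] at h1
      exact (congrArg Subtype.val h1).symm
  · rw [eq_bot_iff]
    intro y hy
    obtain ⟨hyP, c, hc, rfl⟩ := Subgroup.mem_inf.mp hy
    have h1 : c ∈ φ.ker := by
      rw [MonoidHom.mem_ker]
      apply Subtype.ext
      exact (QuotientGroup.eq_one_iff _).mpr hyP
    have h2 := Subgroup.disjoint_def.mp hC₁.disjoint h1 hc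
    rw [h2]
    exact Subgroup.one_mem _
  · have h1 : Nat.card (C₁.map (B.comap (QuotientGroup.mk' P)).subtype) = Nat.card C₁ :=
      Nat.card_congr (C₁.equivMapOfInjective _ (Subgroup.subtype_injective _)).symm.toEquiv
    rw [h1]
    have h2 := hC₁.card_mul
    have h3 := Subgroup.card_mul_index φ.ker
    rw [hNidx] at h3
    have h4 : 0 < Nat.card φ.ker := Nat.card_pos
    exact Nat.eq_of_mul_eq_mul_left h4 (h2.trans h3.symm)

section quot

variable {p : ℕ} [Fact p.Prime] (P : Subgroup G) [hPn : P.Normal] (hPp : IsPGroup p P) (hne : P ≠ ⊥)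
  (hC : Subgroup.centralizer (P : Set G) ≤ P) (hCN : IsCNGroup G)

include hPp hne hC hCN in
/-- An element of order prime to `p` acts on `P` without fixed points. -/
theorem fpf_pprime {e : G} (he1 : e ≠ 1) (he : (orderOf e).Coprime p) :
    P ⊓ Subgroup.centralizer {e} = ⊥ := by
  refine fpf_of_CN hCN P hPp.isNilpotent hne hC he1 ?_
  obtain ⟨m, hm⟩ := IsPGroup.iff_card.mp hPp
  rw [hm]
  exact Nat.Coprime.pow_right _ he

include hPp hne hC hCN in
/-- A subgroup of order prime to `p` acts on `P` without fixed points. -/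
theorem fpf_pprime_sub (C : Subgroup G) (hcop : (Nat.card C).Coprime p) :
    ∀ e ∈ C, e ≠ 1 → P ⊓ Subgroup.centralizer {e} = ⊥ := by
  intro e he he1
  refine fpf_pprime P hPp hne hC hCN he1 ?_
  have h1 : orderOf e ∣ Nat.card C := by
    have := orderOf_dvd_natCard (⟨e, he⟩ : C)
    rwa [Subgroup.orderOf_mk] at this
  exact Nat.Coprime.coprime_dvd_left h1 hcop

theorem le_normalizer_of_normal (C : Subgroup G) : C ≤ Subgroup.normalizer (P : Set G) := by
  intro e _
  rw [Subgroup.mem_normalizer_iff]
  intro h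
  constructor
  · intro hh
    exact hPn.conj_mem h hh e
  · intro hh
    have := hPn.conj_mem _ hh e⁻¹
    simpa [mul_assoc] using this

include hPp hne hC hCN in
/-- A subgroup of `G/P` of order prime to `p` is nilpotent. -/
theorem quot_nilpotent (B : Subgroup (G ⧸ P)) (hB : (Nat.card B).Coprime p) : Group.IsNilpotent B := by
  classical
  obtain ⟨C, hCB, _, hcard⟩ := exists_lift_complement P hPp B hB
  have hCc : (Nat.card C).Coprime p := by rwa [hcard]
  have hnil : Group.IsNilpotent C := nilpotent_of_fpf P C (le_normalizer_of_normal P C) hne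
    (fpf_pprime_sub P hPp hne hC hCN C hCc) hCN
  subst hCB
  let f : C →* C.map (QuotientGroup.mk' P) := (QuotientGroup.mk' P).subgroupMap C
  exact Group.nilpotent_of_surjective f ((QuotientGroup.mk' P).subgroupMap_surjective C)

theorem lift_inj {C : Subgroup G} (h : P ⊓ C = ⊥) {x y : G} (hx : x ∈ C) (hy : y ∈ C)
    (hxy : QuotientGroup.mk' P x = QuotientGroup.mk' P y) : x = y := by
  have h1 : x⁻¹ * y ∈ P := by
    exact QuotientGroup.eq.mp hxy
  have h2 : x⁻¹ * y ∈ P ⊓ C := Subgroup.mem_inf.mpr ⟨h1, C.mul_mem (C.inv_mem hx) hy⟩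
  rw [h, Subgroup.mem_bot] at h2
  exact (inv_mul_eq_one.mp h2)

include hPp hne hC hCN in
/-- A normal subgroup of `G/P` of order prime to `p` has odd order, if `G/P` is not nilpotent. -/
theorem quot_odd (hCN' : IsCNGroup (G ⧸ P)) (hnn : ¬ Group.IsNilpotent (G ⧸ P)) (B : Subgroup (G ⧸ P))
    (hBn : B.Normal) (hB : (Nat.card B).Coprime p) : ¬ 2 ∣ Nat.card B := by
  classical
  intro h2
  haveI : Fact (Nat.Prime 2) := ⟨Nat.prime_two⟩
  obtain ⟨t, ht⟩ := exists_prime_orderOf_dvd_card' 2 h2
  have ht' : orderOf (t : G ⧸ P) = 2 := by rwa [Subgroup.orderOf_coe]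
  have ht1 : (t : G ⧸ P) ≠ 1 := by
    intro h
    rw [h, orderOf_one] at ht'
    omega
  obtain ⟨C, hCB, hd, hcard⟩ := exists_lift_complement P hPp B hB
  have hCc : (Nat.card C).Coprime p := by rwa [hcard]
  have hfp := fpf_pprime_sub P hPp hne hC hCN C hCc
  have hunique : ∀ s ∈ B, orderOf s = 2 → s = (t : G ⧸ P) := by
    intro s hs hs2
    rw [← hCB] at hs
    obtain ⟨x, hx, rfl⟩ := hs
    have ht2 : (t : G ⧸ P) ∈ C.map (QuotientGroup.mk' P) := by
      rw [hCB]
      exact t.2
    obtain ⟨y, hy, hyt⟩ := ht2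
    rw [← hyt]
    have hxo : orderOf x = 2 := by
      have h3 : x ^ 2 = 1 := by
        apply lift_inj P hd (C.pow_mem hx 2) C.one_mem
        rw [map_pow, map_one, ← hs2]
        exact pow_orderOf_eq_one _
      refine orderOf_eq_prime h3 ?_
      rintro rfl
      rw [map_one, orderOf_one] at hs2
      omega
    have hyo : orderOf y = 2 := by
      have h3 : y ^ 2 = 1 := by
        apply lift_inj P hd (C.pow_mem hy 2) C.one_mem
        rw [map_pow, map_one, hyt, ← ht']
        exact pow_orderOf_eq_one _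
      refine orderOf_eq_prime h3 ?_
      rintro rfl
      rw [map_one] at hyt
      exact ht1 hyt.symm
    have hPne := hne
    rw [fpf_unique_involution P C (le_normalizer_of_normal P C) hPne hfp hx hy hxo hyo]
  have hcentral : ∀ g : G ⧸ P, (t : G ⧸ P) * g = g * t := by
    intro g
    have h3 := hunique (g * t * g⁻¹) (hBn.conj_mem _ t.2 g) (by
      rw [← ht', ← MulAut.conj_apply, MulEquiv.orderOf_eq])
    exact (mul_inv_eq_iff_eq_mul.mp h3).symm
  apply hnn
  have h4 := hCN' _ ht1
  have h5 : Subgroup.centralizer ({(t : G ⧸ P)} : Set (G ⧸ P)) = ⊤ := by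
    rw [eq_top_iff]
    intro g _
    exact mem_centralizer_singleton' (hcentral g)
  rw [h5] at h4
  exact Group.nilpotent_of_surjective (Subgroup.topEquiv (G := G ⧸ P)).toMonoidHom
    (Subgroup.topEquiv (G := G ⧸ P)).surjective

include hPp hne hC hCN in
/-- A subgroup of `G/P` of odd order prime to `p` is cyclic. -/
theorem quot_cyclic (B : Subgroup (G ⧸ P)) (hB : (Nat.card B).Coprime p) (h2 : ¬ 2 ∣ Nat.card B) :
    IsCyclic B := by
  classical
  obtain ⟨C, hCB, hd, hcard⟩ := exists_lift_complement P hPp B hB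
  have hCc : (Nat.card C).Coprime p := by rwa [hcard]
  have hfp := fpf_pprime_sub P hPp hne hC hCN C hCc
  have hN := le_normalizer_of_normal P C
  haveI : IsZGroup C := fpf_isZGroup P C hN hne hfp (by rwa [hcard])
  have hnil : Group.IsNilpotent C := nilpotent_of_fpf P C hN hne hfp hCN
  haveI : IsCyclic C := isCyclic_of_nilp_Z hnil
  subst hCB
  exact isCyclic_of_surjective ((QuotientGroup.mk' P).subgroupMap C)
    ((QuotientGroup.mk' P).subgroupMap_surjective C)

include hPp hne hC hCN in
/-- An `r`-subgroup of `G/P` is cyclic, `r ≠ 2, p`. -/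
theorem quot_cyclic_of_odd_prime {r : ℕ} [Fact r.Prime] (hr2 : r ≠ 2) (hrp : r ≠ p)
    (B : Subgroup (G ⧸ P)) (hB : IsPGroup r B) : IsCyclic B := by
  obtain ⟨m, hm⟩ := IsPGroup.iff_card.mp hB
  have hr : r.Prime := Fact.out
  refine quot_cyclic P hPp hne hC hCN B ?_ ?_
  · rw [hm]
    exact Nat.Coprime.pow_left _ ((Nat.coprime_primes hr Fact.out).mpr hrp)
  · rw [hm]
    intro h
    exact hr2 ((Nat.prime_dvd_prime_iff_eq Nat.prime_two hr).mp (Nat.Prime.dvd_of_dvd_pow Nat.prime_two h)).symm

end quot

theorem pCore_quotient_eq_bot {p : ℕ} [Fact p.Prime] (P : Subgroup G) [hPn : P.Normal]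
    (hmax : ∀ N : Subgroup G, N.Normal → IsPGroup p N → N ≤ P) (hPp : IsPGroup p P) :
    pCore p (G ⧸ P) = ⊥ := by
  classical
  set O := pCore p (G ⧸ P) with hO
  have hOn : O.Normal := H01.pCore_normal p
  have hOp : IsPGroup p O := H01.pCore_isPGroup p
  have hcomap : O.comap (QuotientGroup.mk' P) ≤ P := by
    apply hmax
    · exact Subgroup.Normal.comap hOn _
    · intro g
      have h1 : QuotientGroup.mk' P (g : G) ∈ O := g.2
      obtain ⟨k, hk⟩ := hOp ⟨_, h1⟩
      have h2 : (QuotientGroup.mk' P (g : G)) ^ p ^ k = 1 := congrArg Subtype.val hk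
      have h3 : (g : G) ^ p ^ k ∈ P := by
        rw [← map_pow] at h2
        exact (QuotientGroup.eq_one_iff _).mp h2
      obtain ⟨l, hl⟩ := hPp ⟨_, h3⟩
      have h4 : ((g : G) ^ p ^ k) ^ p ^ l = 1 := congrArg Subtype.val hl
      refine ⟨k + l, Subtype.ext ?_⟩
      rw [pow_add, pow_mul]
      exact h4
  rw [eq_bot_iff]
  intro x hx
  obtain ⟨g, rfl⟩ := QuotientGroup.mk'_surjective P x
  have h1 : g ∈ O.comap (QuotientGroup.mk' P) := hx
  exact Subgroup.mem_bot.mpr ((QuotientGroup.eq_one_iff _).mpr (hcomap h1))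

/-- Three-step structure of a solvable CN-group without normal Sylow subgroups. -/
theorem cn_three_step (hCN : IsCNGroup G) [hsol : Group.IsSolvable G] (hH : fittingHall G = ⊥)
    (hnn : ¬ Group.IsNilpotent G) : ∃ p : ℕ, p.Prime ∧ IsThreeStepGroup p G := by
  classical
  haveI : Nontrivial G := by
    by_contra hno
    rw [not_nontrivial_iff_subsingleton] at hno
    exact hnn inferInstance
  obtain ⟨p, hpf, hP, hC⟩ := cn_fitting_prime hCN hH
  have hp : p.Prime := hpf.out
  haveI hPn : (pCore p G).Normal := H01.pCore_normal p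
  have hPp : IsPGroup p (pCore p G) := H01.pCore_isPGroup p
  refine ⟨p, hp, ?_⟩
  have hPs : Group.IsSolvable (pCore p G) := by
    haveI := hPp.isNilpotent
    infer_instance
  have hCN' : IsCNGroup (G ⧸ pCore p G) := isCN_quotient_solvable _ G hCN _ hPs rfl
  have hO : pCore p (G ⧸ pCore p G) = ⊥ :=
    pCore_quotient_eq_bot _ (fun N hN hNp => H01.le_pCore hN hNp) hPp
  have hnn' : ¬ Group.IsNilpotent (G ⧸ pCore p G) := by
    intro hn
    have hnd : ¬ p ∣ Nat.card (G ⧸ pCore p G) := by
      intro hd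
      obtain ⟨x, hx⟩ := exists_prime_orderOf_dvd_card' p hd
      obtain ⟨S⟩ : Nonempty (Sylow p (G ⧸ pCore p G)) := inferInstance
      have hSn : (S : Subgroup (G ⧸ pCore p G)).Normal :=
        (Group.isNilpotent_of_finite_tfae (G := G ⧸ pCore p G)).out 0 3 rfl rfl |>.mp hn p inferInstance S
      have h1 : (S : Subgroup (G ⧸ pCore p G)) ≤ pCore p (G ⧸ pCore p G) :=
        H01.le_pCore hSn S.isPGroup'
      rw [hO] at h1
      have h2 : x ∈ (S : Subgroup (G ⧸ pCore p G)) :=
        H19.mem_sylow_of_normal (k := 1) (by rw [pow_one]; exact hx) S hSn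
      have h3 := h1 h2
      rw [Subgroup.mem_bot] at h3
      rw [h3, orderOf_one] at hx
      exact hp.one_lt.ne hx
    have hcop : (Nat.card (pCore p G)).Coprime (pCore p G).index := by
      obtain ⟨m, hm⟩ := IsPGroup.iff_card.mp hPp
      rw [hm]
      exact Nat.Coprime.pow_left _ ((Nat.Prime.coprime_iff_not_dvd hp).mpr hnd)
    have hle := le_fittingHall hPn hPp.isNilpotent hcop
    rw [hH] at hle
    exact hP (le_bot_iff.mp hle)
  by_cases hH' : fittingHall (G ⧸ pCore p G) = ⊥
  · exfalso
    haveI : Nontrivial (G ⧸ pCore p G) := by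
      by_contra hno
      rw [not_nontrivial_iff_subsingleton] at hno
      exact hnn' inferInstance
    haveI : Group.IsSolvable (G ⧸ pCore p G) := inferInstance
    obtain ⟨r, hrf, hR, hCR⟩ := cn_fitting_prime hCN' hH'
    have hr : r.Prime := hrf.out
    have hrp : r ≠ p := by
      rintro rfl
      exact hR hO
    have hRp : IsPGroup r (pCore r (G ⧸ pCore p G)) := H01.pCore_isPGroup r
    haveI hRn : (pCore r (G ⧸ pCore p G)).Normal := H01.pCore_normal r
    obtain ⟨m, hm⟩ := IsPGroup.iff_card.mp hRp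
    have hRcop : (Nat.card (pCore r (G ⧸ pCore p G))).Coprime p := by
      rw [hm]
      exact Nat.Coprime.pow_left _ ((Nat.coprime_primes hr hp).mpr hrp)
    by_cases hr2 : r = 2
    · subst hr2
      apply quot_odd (pCore p G) hPp hP hC hCN hCN' hnn' _ hRn hRcop
      rw [hm]
      have hm0 : m ≠ 0 := by
        rintro rfl
        apply hR
        exact Subgroup.eq_bot_of_card_eq _ (by simpa using hm)
      exact dvd_pow_self 2 hm0
    · have hcyc := quot_cyclic_of_odd_prime (pCore p G) hPp hP hC hCN hr2 hrp _ hRp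
      obtain ⟨S, hS⟩ := hRp.exists_le_sylow
      have hSn : (S : Subgroup (G ⧸ pCore p G)).Normal := by
        constructor
        intro t ht g
        have h1 : ⁅g, t⁆ ∈ Subgroup.centralizer (pCore r (G ⧸ pCore p G) : Set (G ⧸ pCore p G)) :=
          H19.commutator_mem_centralizer_of_cyclic hcyc
            (le_normalizer_of_normal _ ⊤ (Subgroup.mem_top g))
            (le_normalizer_of_normal _ ⊤ (Subgroup.mem_top t))
        have h2 := hS (hCR h1)
        have h3 : g * t * g⁻¹ = ⁅g, t⁆ * t := by
          rw [commutatorElement_def]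
          group
        rw [h3]
        exact Subgroup.mul_mem _ h2 ht
      have h4 : (S : Subgroup (G ⧸ pCore p G)) ≤ fittingHall (G ⧸ pCore p G) :=
        le_fittingHall hSn S.isPGroup'.isNilpotent S.card_coprime_index
      rw [hH'] at h4
      exact hR (le_bot_iff.mp (hS.trans h4))
  · have hHnil : Group.IsNilpotent (fittingHall (G ⧸ pCore p G)) := fittingHall_nilpotent
    have hnt : fittingHall (G ⧸ pCore p G) ≠ ⊤ := by
      intro ht
      apply hnn'
      rw [ht] at hHnil
      exact Group.nilpotent_of_surjective (Subgroup.topEquiv (G := G ⧸ pCore p G)).toMonoidHom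
        (Subgroup.topEquiv (G := G ⧸ pCore p G)).surjective
    obtain ⟨E, hc, hF, hfpf, hEnil⟩ := cn_hall_structure hCN' hH' hnt
    haveI hHn : (fittingHall (G ⧸ pCore p G)).Normal := fittingHall_normal _
    have hHcop : (Nat.card (fittingHall (G ⧸ pCore p G))).Coprime p := by
      rw [Nat.coprime_comm, Nat.Prime.coprime_iff_not_dvd hp]
      intro hd
      obtain ⟨x, hx⟩ := exists_prime_orderOf_dvd_card' p hd
      obtain ⟨Q₁⟩ : Nonempty (Sylow p (fittingHall (G ⧸ pCore p G))) := inferInstance
      have hQ₁n : (Q₁ : Subgroup (fittingHall (G ⧸ pCore p G))).Normal :=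
        (Group.isNilpotent_of_finite_tfae (G := fittingHall (G ⧸ pCore p G))).out 0 3 rfl rfl
          |>.mp hHnil p inferInstance Q₁
      have hQ₁c : (Q₁ : Subgroup (fittingHall (G ⧸ pCore p G))).Characteristic :=
        Sylow.characteristic_of_normal Q₁ hQ₁n
      have hQ₀n : ((Q₁ : Subgroup (fittingHall (G ⧸ pCore p G))).map
        (fittingHall (G ⧸ pCore p G)).subtype).Normal := inferInstance
      have h1 := H01.le_pCore hQ₀n (Q₁.isPGroup'.map _)
      rw [hO] at h1
      have h2 : x ∈ (Q₁ : Subgroup (fittingHall (G ⧸ pCore p G))) :=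
        H19.mem_sylow_of_normal (k := 1) (by rw [pow_one]; exact hx) Q₁ hQ₁n
      have h3 := h1 (Subgroup.mem_map_of_mem _ h2)
      rw [Subgroup.mem_bot] at h3
      have h4 : x = 1 := Subtype.ext h3
      rw [h4, orderOf_one] at hx
      exact hp.one_lt.ne hx
    have hodd := quot_odd (pCore p G) hPp hP hC hCN hCN' hnn' _ hHn hHcop
    have hcyc := quot_cyclic (pCore p G) hPp hP hC hCN _ hHcop hodd
    obtain ⟨A, hAB, hd, hcard⟩ := exists_lift_complement (pCore p G) hPp _ hHcop
    have hsup : pCore p G ⊔ A = (fittingHall (G ⧸ pCore p G)).comap (QuotientGroup.mk' (pCore p G)) := by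
      apply le_antisymm
      · refine sup_le ?_ ?_
        · intro x hx
          rw [Subgroup.mem_comap]
          have h9 : QuotientGroup.mk' (pCore p G) x = 1 := (QuotientGroup.eq_one_iff x).mpr hx
          rw [h9]
          exact Subgroup.one_mem _
        · intro x hx
          rw [Subgroup.mem_comap, ← hAB]
          exact Subgroup.mem_map_of_mem _ hx
      · intro x hx
        have h1 : QuotientGroup.mk' (pCore p G) x ∈ fittingHall (G ⧸ pCore p G) := hx
        rw [← hAB] at h1
        obtain ⟨a, ha, hax⟩ := h1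
        have h2 : a⁻¹ * x ∈ pCore p G := QuotientGroup.eq.mp hax
        have h3 : x = a * (a⁻¹ * x) := by group
        rw [h3, sup_comm]
        exact Subgroup.mul_mem _ (Subgroup.mem_sup_left ha) (Subgroup.mem_sup_right h2)
    have hidx : (pCore p G ⊔ A).index = (fittingHall (G ⧸ pCore p G)).index := by
      rw [hsup]
      exact Subgroup.index_comap_of_surjective _ (QuotientGroup.mk'_surjective _)
    have hcardE : Nat.card (fittingHall (G ⧸ pCore p G)) * Nat.card E = Nat.card (G ⧸ pCore p G) :=
      hc.card_mul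
    have hidxE : (fittingHall (G ⧸ pCore p G)).index = Nat.card E := by
      have h3 := Subgroup.card_mul_index (fittingHall (G ⧸ pCore p G))
      have h4 : 0 < Nat.card (fittingHall (G ⧸ pCore p G)) := Nat.card_pos
      exact Nat.eq_of_mul_eq_mul_left h4 (h3.trans hcardE.symm)
    -- `E` is a `p`-group
    have hEp : ∀ r : ℕ, r.Prime → r ∣ Nat.card E → r = p := by
      intro r hr hrE
      by_contra hrp
      haveI := Fact.mk hr
      obtain ⟨e, he⟩ := exists_prime_orderOf_dvd_card' r hrE
      have he' : orderOf (e : G ⧸ pCore p G) = r := by rwa [Subgroup.orderOf_coe]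
      have he1 : (e : G ⧸ pCore p G) ≠ 1 := by
        intro h
        rw [h, orderOf_one] at he'
        exact hr.one_lt.ne he'
      set B := fittingHall (G ⧸ pCore p G) ⊔ Subgroup.zpowers (e : G ⧸ pCore p G) with hB
      have hBcop : (Nat.card B).Coprime p := by
        have h1 : Nat.card B ∣ Nat.card (fittingHall (G ⧸ pCore p G)) *
            Nat.card (Subgroup.zpowers (e : G ⧸ pCore p G)) := card_sup_dvd_of_normal _ _
        refine Nat.Coprime.coprime_dvd_left h1 (Nat.Coprime.mul_left hHcop ?_)
        rw [Nat.card_zpowers, he']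
        exact (Nat.coprime_primes hr hp).mpr hrp
      have hBnil := quot_nilpotent (pCore p G) hPp hP hC hCN B hBcop
      have hle : fittingHall (G ⧸ pCore p G) ≤ B := le_sup_left
      have hNne : (fittingHall (G ⧸ pCore p G)).subgroupOf B ≠ ⊥ := by
        intro hb
        apply hH'
        rw [eq_bot_iff]
        intro x hx
        have h1 : (⟨x, hle hx⟩ : B) ∈ (fittingHall (G ⧸ pCore p G)).subgroupOf B :=
          Subgroup.mem_subgroupOf.mpr hx
        rw [hb, Subgroup.mem_bot] at h1
        exact Subgroup.mem_bot.mpr (congrArg Subtype.val h1)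
      obtain ⟨y, hyN, hy1, hyc⟩ := exists_central_of_normal
        (N := (fittingHall (G ⧸ pCore p G)).subgroupOf B) inferInstance hNne
      have hyH : (y : G ⧸ pCore p G) ∈ fittingHall (G ⧸ pCore p G) := Subgroup.mem_subgroupOf.mp hyN
      have heB : (e : G ⧸ pCore p G) ∈ B := Subgroup.mem_sup_right (Subgroup.mem_zpowers _)
      have h5 : (y : G ⧸ pCore p G) ∈ fittingHall (G ⧸ pCore p G) ⊓
          Subgroup.centralizer ({(e : G ⧸ pCore p G)} : Set (G ⧸ pCore p G)) := by
        refine Subgroup.mem_inf.mpr ⟨hyH, ?_⟩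
        have h6 := (Subgroup.mem_center_iff.mp hyc) ⟨_, heB⟩
        exact mem_centralizer_singleton' (congrArg Subtype.val h6)
      rw [hfpf _ e.2 he1, Subgroup.mem_bot] at h5
      exact hy1 (Subtype.ext h5)
    refine ⟨hP, A, ?_, ?_, ?_, ?_, ?_, ?_, ?_, ?_, ?_⟩
    · rintro rfl
      apply hH'
      rw [← hAB]
      simp
    · have hcyc' : IsCyclic (A.map (QuotientGroup.mk' (pCore p G))) := by
        rw [hAB]
        exact hcyc
      refine isCyclic_of_injective ((QuotientGroup.mk' (pCore p G)).subgroupMap A) ?_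
      intro x y hxy
      apply Subtype.ext
      exact lift_inj (pCore p G) hd x.2 y.2 (congrArg Subtype.val hxy)
    · rw [hcard]
      exact Nat.not_even_iff_odd.mp (fun h => hodd h.two_dvd)
    · rwa [hcard]
    · rw [hsup]
      exact Subgroup.Normal.comap hHn _
    · intro ht
      apply hnt
      rw [hsup] at ht
      rw [eq_top_iff]
      intro x _
      obtain ⟨g, rfl⟩ := QuotientGroup.mk'_surjective _ x
      have : g ∈ (fittingHall (G ⧸ pCore p G)).comap (QuotientGroup.mk' (pCore p G)) := by
        rw [ht]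
        exact Subgroup.mem_top _
      exact this
    · rw [hidx, hidxE]
      have h0 : Nat.card E ≠ 0 := Nat.card_pos.ne'
      exact ⟨_, Nat.eq_prime_pow_of_unique_prime_dvd h0 (fun {d} hd hdd => hEp d hd hdd)⟩
    · exact fpf_pprime_sub (pCore p G) hPp hP hC hCN A (by rwa [hcard])
    · intro x hx a ha ha1 hmem
      have hxH : QuotientGroup.mk' (pCore p G) x ∉ fittingHall (G ⧸ pCore p G) := by
        intro h
        apply hx
        rw [hsup, Subgroup.mem_comap]
        exact h
      have haH : QuotientGroup.mk' (pCore p G) a ∈ fittingHall (G ⧸ pCore p G) := by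
        rw [← hAB]
        exact Subgroup.mem_map_of_mem _ ha
      have ha1' : QuotientGroup.mk' (pCore p G) a ≠ 1 := by
        intro h
        apply ha1
        apply lift_inj (pCore p G) hd ha A.one_mem
        rw [h, map_one]
      have hcm : QuotientGroup.mk' (pCore p G) x * QuotientGroup.mk' (pCore p G) a =
          QuotientGroup.mk' (pCore p G) a * QuotientGroup.mk' (pCore p G) x := by
        have h1 : QuotientGroup.mk' (pCore p G) (x * a * x⁻¹ * a⁻¹) = 1 :=
          (QuotientGroup.eq_one_iff _).mpr hmem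
        simp only [map_mul, map_inv] at h1
        rw [mul_inv_eq_one, mul_inv_eq_iff_eq_mul] at h1
        exact h1
      obtain ⟨⟨⟨h, hh⟩, ⟨e, he⟩⟩, hhe⟩ := hc.2 (QuotientGroup.mk' (pCore p G) x)
      have hhe' : h * e = QuotientGroup.mk' (pCore p G) x := hhe
      have he1 : e ≠ 1 := by
        rintro rfl
        apply hxH
        rw [← hhe', mul_one]
        exact hh
      haveI : IsMulCommutative (fittingHall (G ⧸ pCore p G)) := IsCyclic.commutative
      have hha : h * QuotientGroup.mk' (pCore p G) a = QuotientGroup.mk' (pCore p G) a * h := by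
        have := mul_comm' (⟨h, hh⟩ : fittingHall (G ⧸ pCore p G)) ⟨_, haH⟩
        exact congrArg Subtype.val this
      have hea : QuotientGroup.mk' (pCore p G) a * e = e * QuotientGroup.mk' (pCore p G) a := by
        rw [← hhe'] at hcm
        have h2 : h * (e * QuotientGroup.mk' (pCore p G) a) =
            h * (QuotientGroup.mk' (pCore p G) a * e) := by
          calc h * (e * QuotientGroup.mk' (pCore p G) a)
              = h * e * QuotientGroup.mk' (pCore p G) a := by group
            _ = QuotientGroup.mk' (pCore p G) a * (h * e) := hcm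
            _ = (QuotientGroup.mk' (pCore p G) a * h) * e := by group
            _ = (h * QuotientGroup.mk' (pCore p G) a) * e := by rw [hha]
            _ = h * (QuotientGroup.mk' (pCore p G) a * e) := by group
        exact (mul_left_cancel h2).symm
      have h5 : QuotientGroup.mk' (pCore p G) a ∈ fittingHall (G ⧸ pCore p G) ⊓
          Subgroup.centralizer ({e} : Set (G ⧸ pCore p G)) :=
        Subgroup.mem_inf.mpr ⟨haH, mem_centralizer_singleton' hea.symm⟩
      rw [hfpf e he he1, Subgroup.mem_bot] at h5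
      exact ha1' h5

/-- A nilpotent group acting without fixed points is cyclic, or a product of a cyclic group of odd
order and a generalized quaternion group. -/
theorem fpf_nilp_structure (K E : Subgroup G) (hEK : E ≤ Subgroup.normalizer (K : Set G)) (hK : K ≠ ⊥)
    (hfpf : ∀ h ∈ E, h ≠ 1 → K ⊓ Subgroup.centralizer {h} = ⊥) (hnil : Group.IsNilpotent E) :
    IsCyclic E ∨ ∃ C Q : Subgroup G, C ⊔ Q = E ∧ (∀ a ∈ C, ∀ b ∈ Q, a * b = b * a) ∧ IsCyclic C ∧
      Odd (Nat.card C) ∧ ∃ n : ℕ, Nonempty (↥Q ≃* QuaternionGroup (2 ^ n)) := by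
  classical
  haveI : Fact (Nat.Prime 2) := ⟨Nat.prime_two⟩
  obtain ⟨P⟩ : Nonempty (Sylow 2 E) := inferInstance
  have hPn : (P : Subgroup E).Normal :=
    (Group.isNilpotent_of_finite_tfae (G := E)).out 0 3 rfl rfl |>.mp hnil 2 inferInstance P
  set Q : Subgroup G := (P : Subgroup E).map E.subtype with hQdef
  have hQE : Q ≤ E := by
    rintro _ ⟨x, _, rfl⟩
    exact x.2
  let φ : (P : Subgroup E) ≃* Q := (P : Subgroup E).equivMapOfInjective E.subtype E.subtype_injective
  have hQp : IsPGroup 2 Q := IsPGroup.of_surjective P.isPGroup' φ.toMonoidHom φ.surjective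
  have hu := fpf_uniqueP K E hEK hK hfpf Q hQE hQp
  rcases H14.isCyclic_or_quaternion hQp hu with hcyc | ⟨_, k, hk, ⟨ψ⟩⟩
  · left
    haveI : IsZGroup E := by
      refine ⟨fun q hq P' => ?_⟩
      haveI := Fact.mk hq
      by_cases hq2 : q = 2
      · subst hq2
        have h1 : P' = P := by
          haveI := Sylow.unique_of_normal P hPn
          exact Subsingleton.elim P' P
        rw [h1]
        exact isCyclic_of_surjective φ.symm.toMonoidHom φ.symm.surjective
      · set S : Subgroup G := (P' : Subgroup E).map E.subtype with hS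
        have hSE : S ≤ E := by
          rintro _ ⟨x, _, rfl⟩
          exact x.2
        let e : (P' : Subgroup E) ≃* S :=
          (P' : Subgroup E).equivMapOfInjective E.subtype E.subtype_injective
        have hSp : IsPGroup q S := IsPGroup.of_surjective P'.isPGroup' e.toMonoidHom e.surjective
        haveI := fpf_isCyclic_of_odd K E hEK hK hfpf hq2 S hSE hSp
        exact isCyclic_of_surjective e.symm.toMonoidHom e.symm.surjective
    exact isCyclic_of_nilp_Z hnil
  · right
    obtain ⟨T, hT⟩ := Subgroup.exists_right_complement'_of_coprime P.card_coprime_index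
    have hcardT : Nat.card (P : Subgroup E) * Nat.card T = Nat.card E := hT.card_mul
    have hidx : (P : Subgroup E).index = Nat.card T := by
      have h3 := Subgroup.card_mul_index (P : Subgroup E)
      have h4 : 0 < Nat.card (P : Subgroup E) := Nat.card_pos
      exact Nat.eq_of_mul_eq_mul_left h4 (h3.trans hcardT.symm)
    have hcoP : (Nat.card (P : Subgroup E)).Coprime (Nat.card T) := by
      rw [← hidx]
      exact P.card_coprime_index
    have hcardP : Nat.card (P : Subgroup E) = 4 * 2 ^ k := by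
      rw [Nat.card_congr φ.toEquiv, Nat.card_congr ψ.toEquiv, Nat.card_eq_fintype_card, QuaternionGroup.card]
    have hoddT : ¬ 2 ∣ Nat.card T := by
      intro h2
      have h3 : 2 ∣ Nat.card (P : Subgroup E) := by
        rw [hcardP]
        exact Dvd.dvd.mul_right (by norm_num) _
      exact Nat.prime_two.one_lt.ne' (Nat.eq_one_of_dvd_coprimes hcoP h3 h2)
    set C : Subgroup G := T.map E.subtype with hCdef
    have hCE : C ≤ E := by
      rintro _ ⟨x, _, rfl⟩
      exact x.2
    let χ : T ≃* C := T.equivMapOfInjective E.subtype E.subtype_injective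
    have hcardC : Nat.card C = Nat.card T := Nat.card_congr χ.symm.toEquiv
    have hCnil : Group.IsNilpotent C := nilpotent_of_le hCE hnil
    have hfpfC : ∀ h ∈ C, h ≠ 1 → K ⊓ Subgroup.centralizer {h} = ⊥ := fun h hh => hfpf h (hCE hh)
    haveI : IsZGroup C := fpf_isZGroup K C (hCE.trans hEK) hK hfpfC (by rwa [hcardC])
    refine ⟨C, Q, ?_, ?_, isCyclic_of_nilp_Z hCnil, ?_, k, ⟨ψ⟩⟩
    · apply le_antisymm (sup_le hCE hQE)
      intro e he
      obtain ⟨⟨⟨p, hp⟩, ⟨t, ht⟩⟩, hpt⟩ := hT.2 ⟨e, he⟩
      have h1 : ((p : E) : G) * (t : E) = e := congrArg Subtype.val hpt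
      rw [← h1, sup_comm]
      exact Subgroup.mul_mem _ (Subgroup.mem_sup_left ⟨p, hp, rfl⟩) (Subgroup.mem_sup_right ⟨t, ht, rfl⟩)
    · intro a ha b hb
      refine commute_of_coprime_order_sub hnil (hCE ha) (hQE hb) ?_
      have h1 : orderOf a ∣ Nat.card T := by
        rw [← hcardC]
        have := orderOf_dvd_natCard (⟨a, ha⟩ : C)
        rwa [Subgroup.orderOf_mk] at this
      have h2 : orderOf b ∣ Nat.card (P : Subgroup E) := by
        rw [Nat.card_congr φ.toEquiv]
        have := orderOf_dvd_natCard (⟨b, hb⟩ : Q)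
        rwa [Subgroup.orderOf_mk] at this
      exact Nat.Coprime.coprime_dvd_left h1 (Nat.Coprime.coprime_dvd_right h2 hcoP.symm)
    · rw [hcardC]
      exact Nat.not_even_iff_odd.mp (fun h => hoddT h.two_dvd)

end Cfsg.Agent.H06
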