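import Cfsg.Agent.Lib.H06.CharGallagher

/-!
# Induction from a normal subgroup with abelian inertia quotient
-/

set_option autoImplicit false

namespace Cfsg.Agent.H06

open Cfsg Cfsg.Agent.H21
open scoped ComplexConjugate

universe u

section

variable {G : Type u} [Group G] [Fintype G] (H T : Subgroup G) [hN : H.Normal]

/-- The normal subgroup lies in the inertia group. -/
theorem le_inertia {θ : H → ℂ} (hθ : IsCharacter H θ)
    (hT : ∀ g : G, g ∈ T ↔ ∀ h : H, θ ⟨g * h * g⁻¹, hN.conj_mem h h.2 g⟩ = θ h) : H ≤ T := by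
  intro x hx
  rw [hT]
  intro h
  exact isCharacter_conj hθ h ⟨x, hx⟩

theorem induced_structure_G {θ : H → ℂ} (hθ : IsIrrCharacter H θ)
    (hT : ∀ g : G, g ∈ T ↔ ∀ h : H, θ ⟨g * h * g⁻¹, hN.conj_mem h h.2 g⟩ = θ h)
    (hab : ∀ x ∈ T, ∀ y ∈ T, x * y * x⁻¹ * y⁻¹ ∈ H) :
    ∃ (e : ℕ) (C : Finset (G → ℂ)), 0 < e ∧ (∀ χ ∈ C, IsIrrCharacter G χ) ∧
      e ^ 2 * C.card * Nat.card H = Nat.card T ∧ indFun H θ = (e : ℂ) • ∑ χ ∈ C, χ ∧
      (∀ χ ∈ C, χ 1 = (T.index : ℂ) * e * θ 1) ∧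
      ∀ (ψ : T → ℂ), IsIrrCharacter T ψ →
        (∀ h : T, ∀ hh : (h : G) ∈ H, ψ h = θ ⟨h, hh⟩) → e = 1 := by
  classical
  haveI : Fintype T := Fintype.ofFinite _
  have hHT : H ≤ T := le_inertia H T (isCharacter_of_irr hθ) hT
  haveI : Fintype (H.subgroupOf T) := Fintype.ofFinite _
  have hinv : ∀ t : T, twist (H.subgroupOf T) (subTheta H T θ) t = subTheta H T θ := by
    intro t
    funext x
    simp only [twist, subTheta]
    exact (hT t).mp t.2 ⟨(x : T), Subgroup.mem_subgroupOf.mp x.2⟩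
  have hab' : ∀ x y : T, x * y * x⁻¹ * y⁻¹ ∈ H.subgroupOf T := by
    intro x y
    rw [Subgroup.mem_subgroupOf]
    simpa using hab x x.2 y y.2
  obtain ⟨e, C₀, he, hirr, hres, hinner, hmem, hsum, hcard⟩ :=
    invariant_abelian_structure (H.subgroupOf T) (subTheta_irr H T hHT hθ) hinv hab'
  have hcne : ∀ ψ ∈ C₀, classInner (indFun (H.subgroupOf T) (subTheta H T θ)) ψ ≠ 0 := by
    intro ψ hψ
    rw [hinner ψ hψ]
    exact Nat.cast_ne_zero.mpr he.ne'
  have hinj : Set.InjOn (indFun T) (C₀ : Set (T → ℂ)) := by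
    intro a ha b hb hab
    exact (clifford_correspondence H T hHT hθ hT (hirr a ha) (hirr b hb) (hcne a ha) (hcne b hb)).2 hab
  have hcardH : Nat.card (H.subgroupOf T) = Nat.card H :=
    Nat.card_congr (Subgroup.subgroupOfEquivOfLe hHT).toEquiv
  refine ⟨e, C₀.image (indFun T), he, ?_, ?_, ?_, ?_, ?_⟩
  · intro χ hχ
    obtain ⟨ψ, hψ, rfl⟩ := Finset.mem_image.mp hχ
    exact (clifford_correspondence H T hHT hθ hT (hirr ψ hψ) (hirr ψ hψ) (hcne ψ hψ) (hcne ψ hψ)).1
  · rw [Finset.card_image_of_injOn hinj, ← hcardH]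
    rw [hcard]
  · rw [Finset.sum_image hinj, ← indFun_sum, ← indFun_smul, ← hsum]
    exact (indFun_trans H T hHT θ).symm
  · intro χ hχ
    obtain ⟨ψ, hψ, rfl⟩ := Finset.mem_image.mp hχ
    rw [indFun_one]
    have h1 := hres ψ hψ 1
    have h2 : (((1 : H.subgroupOf T) : T)) = 1 := rfl
    rw [h2] at h1
    rw [mul_assoc]
    congr 1
  · intro ψ hψ hext
    have hψc := isCharacter_of_irr hψ
    have hψres : (fun x : H.subgroupOf T => ψ x) = subTheta H T θ := by
      funext x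
      exact hext x (Subgroup.mem_subgroupOf.mp x.2)
    have hne : classInner (indFun (H.subgroupOf T) (subTheta H T θ)) ψ ≠ 0 := by
      haveI : Fintype (IrrCharacter T) := Fintype.ofFinite _
      rw [frobenius_reciprocity (H.subgroupOf T) _ _ (isClassFunction_of_isCharacter
        (isCharacter_of_irr hψ)), hψres, classInner_irr_self (subTheta_irr H T hHT hθ)]
      exact one_ne_zero
    have h3 := hres ψ (hmem ψ hψ hne) 1
    have h4 := hext 1 (H.one_mem)
    have hθ1 : θ 1 ≠ 0 := irr_one_ne_zero' hθ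
    have h5 : subTheta H T θ 1 = θ 1 := rfl
    rw [h5] at h3
    have h6 : ψ 1 = θ 1 := h4
    have h7 : ψ (((1 : H.subgroupOf T) : T)) = ψ 1 := rfl
    rw [h7, h6] at h3
    have h8 : (e : ℂ) = 1 := by
      apply mul_right_cancel₀ hθ1
      rw [← h3, one_mul]
    exact_mod_cast h8

end

end Cfsg.Agent.H06
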