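import Cfsg.Agent.Lib.H06.CharVirtual
import Cfsg.Agent.Lib.H06.Basic
import Cfsg.Agent.Lib.H06.CharGallagher
import Cfsg.Prelude.Def_OddOrderLocal
import Mathlib.GroupTheory.FiniteAbelian.Duality
import Mathlib.RingTheory.RootsOfUnity.AlgebraicallyClosed

/-!
# Linear characters as homomorphisms to `ℂˣ`; the `(1 - φ)(1 - ψ)` functions on `W₁ ⊔ W₂`; TI induction
-/

set_option autoImplicit false

namespace Cfsg.Agent.H06

open Cfsg Cfsg.Agent.H21
open scoped ComplexConjugate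

universe u

section Lin

variable {V : Type u} [Group V]

/-- A homomorphism to `ℂˣ`, as a function to `ℂ`. -/
def linFun (ω : V →* ℂˣ) : V → ℂ := fun v => (ω v : ℂ)

@[simp] theorem linFun_apply (ω : V →* ℂˣ) (v : V) : linFun ω v = (ω v : ℂ) := rfl

theorem linFun_injective : Function.Injective (linFun : (V →* ℂˣ) → V → ℂ) := by
  intro a b h
  ext v
  exact congrFun h v

variable [Finite V]

theorem norm_hom_eq_one (ω : V →* ℂˣ) (v : V) : ‖(ω v : ℂ)‖ = 1 := by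
  have h1 : ((ω v : ℂˣ) : ℂ) ^ orderOf v = 1 := by
    rw [← Units.val_pow_eq_pow_val, ← map_pow, pow_orderOf_eq_one, map_one, Units.val_one]
  exact Complex.norm_eq_one_of_pow_eq_one h1 (orderOf_pos v).ne'

theorem hom_mul_conj (ω : V →* ℂˣ) (v : V) : (ω v : ℂ) * conj (ω v : ℂ) = 1 := by
  rw [Complex.mul_conj, Complex.normSq_eq_norm_sq, norm_hom_eq_one]
  simp

variable [Fintype V]

open Classical in
theorem inner_lin (ω ω' : V →* ℂˣ) : classInner (linFun ω) (linFun ω') = if ω = ω' then 1 else 0 := by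
  have hne : (Nat.card V : ℂ) ≠ 0 := Nat.cast_ne_zero.mpr Nat.card_pos.ne'
  split_ifs with h
  · subst h
    simp only [classInner, linFun_apply, hom_mul_conj]
    simp only [Finset.sum_const, Finset.card_univ, nsmul_eq_mul, mul_one]
    rw [Nat.card_eq_fintype_card] at hne ⊢
    exact inv_mul_cancel₀ hne
  · have h1 : ∃ w, ω w ≠ ω' w := by
      by_contra hcon
      push Not at hcon
      exact h (MonoidHom.ext hcon)
    obtain ⟨w, hw⟩ := h1
    simp only [classInner, linFun_apply]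
    have hs : ∑ v : V, (ω v : ℂ) * conj (ω' v : ℂ) = 0 := by
      apply sum_mul_eq_zero (w := w) (fun v => (ω v : ℂ) * conj (ω' v : ℂ))
      · intro a b
        simp only [map_mul, Units.val_mul]
        ring
      · show (ω w : ℂ) * conj (ω' w : ℂ) ≠ 1
        intro h2
        apply hw
        apply Units.ext
        have h3 := hom_mul_conj ω' w
        have h4 : conj ((ω' w : ℂˣ) : ℂ) ≠ 0 := by
          intro h0
          rw [h0, mul_zero] at h3
          exact zero_ne_one h3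
        exact mul_right_cancel₀ h4 (h2.trans h3.symm)
    rw [hs, mul_zero]

end Lin

section Alpha

variable {G : Type u} [Group G] {W₁ W₂ : Subgroup G}

/-- The function `(1 - φ)(1 - ψ)`. -/
theorem alpha_eq (φ ψ : ↥(W₁ ⊔ W₂) →* ℂˣ) :
    (fun w : ↥(W₁ ⊔ W₂) => 1 - (φ w : ℂ) - (ψ w : ℂ) + (φ w : ℂ) * (ψ w : ℂ)) =
      linFun 1 - linFun φ - linFun ψ + linFun (φ * ψ) := by
  funext w
  simp

theorem alpha_vanish {φ ψ : ↥(W₁ ⊔ W₂) →* ℂˣ} (hφ : ∀ w : ↥(W₁ ⊔ W₂), (w : G) ∈ W₂ → φ w = 1)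
    (hψ : ∀ w : ↥(W₁ ⊔ W₂), (w : G) ∈ W₁ → ψ w = 1) (w : ↥(W₁ ⊔ W₂))
    (hw : (w : G) ∈ W₁ ∨ (w : G) ∈ W₂) :
    1 - (φ w : ℂ) - (ψ w : ℂ) + (φ w : ℂ) * (ψ w : ℂ) = 0 := by
  rcases hw with hw | hw
  · rw [hψ w hw]
    simp
  · rw [hφ w hw]
    simp

/-- A homomorphism on `W₁ ⊔ W₂` is determined by its values on `W₁` and `W₂`. -/
theorem hom_ext_sup (hcomm : ∀ a ∈ W₁, ∀ b ∈ W₂, a * b = b * a) {ω ω' : ↥(W₁ ⊔ W₂) →* ℂˣ}
    (h₁ : ∀ w : ↥(W₁ ⊔ W₂), (w : G) ∈ W₁ → ω w = ω' w)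
    (h₂ : ∀ w : ↥(W₁ ⊔ W₂), (w : G) ∈ W₂ → ω w = ω' w) : ω = ω' := by
  ext ⟨x, hx⟩
  obtain ⟨a, ha, b, hb, rfl⟩ := mem_sup_of_commute hcomm hx
  have h : (⟨a * b, hx⟩ : ↥(W₁ ⊔ W₂)) =
      ⟨a, Subgroup.mem_sup_left ha⟩ * ⟨b, Subgroup.mem_sup_right hb⟩ := rfl
  rw [h, map_mul, map_mul, h₁ _ ha, h₂ _ hb]

/-- The product decomposition is unique. -/
theorem mul_eq_mul_iff (hcomm : ∀ a ∈ W₁, ∀ b ∈ W₂, a * b = b * a)
    {φ φ' ψ ψ' : ↥(W₁ ⊔ W₂) →* ℂˣ}
    (hφ : ∀ w : ↥(W₁ ⊔ W₂), (w : G) ∈ W₂ → φ w = 1)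
    (hφ' : ∀ w : ↥(W₁ ⊔ W₂), (w : G) ∈ W₂ → φ' w = 1)
    (hψ : ∀ w : ↥(W₁ ⊔ W₂), (w : G) ∈ W₁ → ψ w = 1)
    (hψ' : ∀ w : ↥(W₁ ⊔ W₂), (w : G) ∈ W₁ → ψ' w = 1) :
    φ * ψ = φ' * ψ' ↔ φ = φ' ∧ ψ = ψ' := by
  constructor
  · intro h
    have h1 : ∀ w : ↥(W₁ ⊔ W₂), (w : G) ∈ W₁ → φ w = φ' w := by
      intro w hw
      have := congrArg (fun f : ↥(W₁ ⊔ W₂) →* ℂˣ => f w) h
      simpa [hψ w hw, hψ' w hw] using this
    have h2 : ∀ w : ↥(W₁ ⊔ W₂), (w : G) ∈ W₂ → ψ w = ψ' w := by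
      intro w hw
      have := congrArg (fun f : ↥(W₁ ⊔ W₂) →* ℂˣ => f w) h
      simpa [hφ w hw, hφ' w hw] using this
    constructor
    · exact hom_ext_sup hcomm h1 (fun w hw => by rw [hφ w hw, hφ' w hw])
    · exact hom_ext_sup hcomm (fun w hw => by rw [hψ w hw, hψ' w hw]) h2
  · rintro ⟨rfl, rfl⟩
    rfl

end Alpha

section TI

variable {G : Type u} [Group G] [Fintype G] (W : Subgroup G) [Fintype W]

/-- The value at an element of `A` of a function induced from a class function supported on `A`. -/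
theorem indFun_eq_of_fusion (A : Set G) {β : W → ℂ} (hcl : IsClassFunction W β)
    (hβ : ∀ x : W, (x : G) ∉ A → β x = 0)
    (hfus : ∀ x : G, ∀ a ∈ A, x⁻¹ * a * x ∈ A → x ∈ W) (w : W) (hw : (w : G) ∈ A) :
    indFun W β w = β w := by
  classical
  have hne : (Nat.card W : ℂ) ≠ 0 := Nat.cast_ne_zero.mpr Nat.card_pos.ne'
  have h1 : ∀ x : G, extendByZero W β (x⁻¹ * w * x) = if x ∈ W then β w else 0 := by
    intro x
    split_ifs with hx
    · have hm : x⁻¹ * (w : G) * x ∈ W := W.mul_mem (W.mul_mem (W.inv_mem hx) w.2) hx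
      have h2 := extendByZero_coe W β ⟨_, hm⟩
      simp only at h2
      rw [h2]
      have h3 := hcl w ⟨x, hx⟩⁻¹
      rw [← h3]
      congr 1
      apply Subtype.ext
      simp
    · by_cases hm : x⁻¹ * (w : G) * x ∈ W
      · have h2 := extendByZero_coe W β ⟨_, hm⟩
        simp only at h2
        rw [h2]
        apply hβ
        intro h3
        exact hx (hfus x _ hw h3)
      · exact extendByZero_of_not_mem W β hm
  simp only [indFun, h1]
  rw [Finset.sum_ite, Finset.sum_const_zero, add_zero, Finset.sum_const, nsmul_eq_mul]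
  have h2 : (Finset.univ.filter (fun x : G => x ∈ W)).card = Nat.card W := by
    rw [Nat.card_eq_fintype_card, Fintype.card_subtype]
  rw [h2, ← mul_assoc, inv_mul_cancel₀ hne, one_mul]

/-- Induction from a TI situation is an isometry. -/
theorem classInner_indFun_of_fusion (A : Set G) {α β : W → ℂ} (hcl : IsClassFunction W β)
    (hα : ∀ x : W, (x : G) ∉ A → α x = 0) (hβ : ∀ x : W, (x : G) ∉ A → β x = 0)
    (hfus : ∀ x : G, ∀ a ∈ A, x⁻¹ * a * x ∈ A → x ∈ W) :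
    classInner (indFun W α) (indFun W β) = classInner α β := by
  rw [frobenius_reciprocity W α _ (indFun_isClass W β)]
  simp only [classInner]
  congr 1
  refine Finset.sum_congr rfl fun w _ => ?_
  by_cases hw : (w : G) ∈ A
  · rw [indFun_eq_of_fusion W A hcl hβ hfus w hw]
  · rw [hα w hw, zero_mul, zero_mul]

end TI

section SN

variable {G : Type u} [Group G] [Finite G] {W₁ W₂ : Subgroup G}

/-- The fusion property for self-normalising cyclic pairs. -/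
theorem sn_fusion (hW : IsSelfNormalizingCyclic W₁ W₂) :
    ∀ x : G, ∀ a ∈ (↑(W₁ ⊔ W₂) : Set G) \ (↑W₁ ∪ ↑W₂), x⁻¹ * a * x ∈ (↑(W₁ ⊔ W₂) : Set G) \ (↑W₁ ∪ ↑W₂) →
      x ∈ W₁ ⊔ W₂ := by
  obtain ⟨-, -, -, -, hcyc, hN⟩ := hW
  intro x a ha hb
  set b := x⁻¹ * a * x with hb'
  have haW : a ∈ W₁ ⊔ W₂ := ha.1
  have hbW : b ∈ W₁ ⊔ W₂ := hb.1
  let c : MulAut G := MulAut.conj x⁻¹
  have hc : ∀ y, c y = x⁻¹ * y * x := fun y => by simp [c, MulAut.conj_apply]
  have hca : c a = b := hc a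
  have hzp : Subgroup.zpowers b = Subgroup.zpowers a := by
    apply eq_of_card_eq_of_le_cyclic hcyc
    · exact (Subgroup.zpowers_le).mpr hbW
    · exact (Subgroup.zpowers_le).mpr haW
    · rw [Nat.card_zpowers, Nat.card_zpowers, ← hca]
      exact orderOf_injective c.toMonoidHom c.injective a
  let X : Set G := {y | Subgroup.zpowers y = Subgroup.zpowers a}
  have hXA : X ⊆ (↑(W₁ ⊔ W₂) : Set G) \ (↑W₁ ∪ ↑W₂) := by
    intro y hy
    have hy' : Subgroup.zpowers y = Subgroup.zpowers a := hy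
    have hyz : y ∈ Subgroup.zpowers a := hy' ▸ Subgroup.mem_zpowers y
    have haz : a ∈ Subgroup.zpowers y := hy'.symm ▸ Subgroup.mem_zpowers a
    refine ⟨(Subgroup.zpowers_le.mpr haW) hyz, ?_⟩
    rintro (h | h)
    · exact ha.2 (Or.inl ((Subgroup.zpowers_le.mpr h) haz))
    · exact ha.2 (Or.inr ((Subgroup.zpowers_le.mpr h) haz))
  have hXne : X.Nonempty := ⟨a, rfl⟩
  have hnorm := hN X hXA hXne
  have hmem : x⁻¹ ∈ Subgroup.normalizer X := by
    rw [Subgroup.mem_set_normalizer_iff]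
    intro y
    have h1 : x⁻¹ * y * x⁻¹⁻¹ = c y := by rw [hc, inv_inv]
    rw [h1]
    show Subgroup.zpowers y = Subgroup.zpowers a ↔ Subgroup.zpowers (c y) = Subgroup.zpowers a
    have h2 : ∀ z, (Subgroup.zpowers z).map c.toMonoidHom = Subgroup.zpowers (c z) := fun z =>
      MonoidHom.map_zpowers c.toMonoidHom z
    have h3 : (Subgroup.zpowers a).map c.toMonoidHom = Subgroup.zpowers a := by
      rw [h2 a, hca, hzp]
    constructor
    · intro h
      rw [← h2 y, h, h3]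
    · intro h
      apply Subgroup.map_injective (f := c.toMonoidHom) c.injective
      rw [h2 y, h, h3]
  rw [hnorm] at hmem
  simpa using Subgroup.inv_mem _ hmem

end SN

section Sum

variable {V : Type u} [CommGroup V] [Finite V]

theorem finite_dual : Finite (V →* ℂˣ) := by
  obtain ⟨e⟩ := CommGroup.monoidHom_mulEquiv_of_hasEnoughRootsOfUnity V ℂ
  exact Finite.of_equiv _ e.symm.toEquiv

/-- Orthogonality for the dual. -/
theorem sum_dual_eq_zero [Fintype (V →* ℂˣ)] {z : V} (hz : z ≠ 1) :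
    ∑ ω : V →* ℂˣ, (ω z : ℂ) = 0 := by
  obtain ⟨ω₀, hω₀⟩ := CommGroup.exists_apply_ne_one_of_hasEnoughRootsOfUnity V ℂ hz
  have h1 : (ω₀ z : ℂ) * ∑ ω : V →* ℂˣ, (ω z : ℂ) = ∑ ω : V →* ℂˣ, (ω z : ℂ) := by
    rw [Finset.mul_sum]
    refine Fintype.sum_equiv (Equiv.mulLeft ω₀) _ _ ?_
    intro ω
    simp
  have h2 : ((ω₀ z : ℂ) - 1) * ∑ ω : V →* ℂˣ, (ω z : ℂ) = 0 := by
    rw [sub_mul, h1]
    ring
  refine (mul_eq_zero.mp h2).resolve_left ?_
  intro h3
  apply hω₀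
  apply Units.ext
  exact sub_eq_zero.mp h3

end Sum

end Cfsg.Agent.H06
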