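import Cfsg.Agent.Lib.H06.CharVirtual
import Cfsg.Prelude.Def_OddOrderChar

/-!
# Linear algebra for coherence: positivity, Bessel, and the extension of an isometry from a family
-/

set_option autoImplicit false

namespace Cfsg.Agent.H06

open Cfsg Cfsg.Agent.H21
open scoped ComplexConjugate

universe u v

section Inner

variable {X : Type u} [Group X] [Fintype X]

theorem classInner_self_eq_real (f : X → ℂ) :
    classInner f f = (((Nat.card X : ℝ)⁻¹ * ∑ x : X, ‖f x‖ ^ 2 : ℝ) : ℂ) := by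
  simp only [classInner]
  push_cast
  congr 1
  refine Finset.sum_congr rfl fun x _ => ?_
  rw [Complex.mul_conj, Complex.normSq_eq_norm_sq]
  push_cast
  rfl

theorem classInner_self_im (f : X → ℂ) : (classInner f f).im = 0 := by
  rw [classInner_self_eq_real]
  exact Complex.ofReal_im _

theorem classInner_self_re_nonneg (f : X → ℂ) : 0 ≤ (classInner f f).re := by
  rw [classInner_self_eq_real, Complex.ofReal_re]
  positivity

theorem classInner_self_eq_zero {f : X → ℂ} (h : classInner f f = 0) : f = 0 := by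
  rw [classInner_self_eq_real] at h
  have h1 : (Nat.card X : ℝ)⁻¹ * ∑ x : X, ‖f x‖ ^ 2 = 0 := by exact_mod_cast h
  have h2 : (Nat.card X : ℝ)⁻¹ ≠ 0 := inv_ne_zero (Nat.cast_ne_zero.mpr Nat.card_pos.ne')
  have h3 := (mul_eq_zero.mp h1).resolve_left h2
  have h4 := (Finset.sum_eq_zero_iff_of_nonneg (fun x _ => by positivity)).mp h3
  funext x
  have h5 := h4 x (Finset.mem_univ x)
  simpa using h5

theorem classInner_zero_right' (f : X → ℂ) : classInner f (0 : X → ℂ) = 0 := by
  simp [classInner]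

theorem classInner_zsmul_left (n : ℤ) (f g : X → ℂ) : classInner (n • f) g = n * classInner f g := by
  rw [← Int.cast_smul_eq_zsmul ℂ n f, classInner_smul_left]

theorem classInner_zsmul_right (n : ℤ) (f g : X → ℂ) : classInner f (n • g) = n * classInner f g := by
  rw [← Int.cast_smul_eq_zsmul ℂ n g, classInner_smul_right, map_intCast]

/-- Bessel's inequality with the equality case, for a finite orthonormal family. -/
theorem bessel {ι : Type*} [DecidableEq ι] (s : Finset ι) (e : ι → X → ℂ)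
    (he : ∀ i ∈ s, ∀ j ∈ s, classInner (e i) (e j) = if i = j then 1 else 0) (f : X → ℂ) :
    classInner f f = ∑ i ∈ s, classInner f (e i) * conj (classInner f (e i)) +
      classInner (f - ∑ i ∈ s, classInner f (e i) • e i) (f - ∑ i ∈ s, classInner f (e i) • e i) := by
  set g := ∑ i ∈ s, classInner f (e i) • e i with hg
  have h1 : ∀ j ∈ s, classInner g (e j) = classInner f (e j) := by
    intro j hj
    rw [hg, classInner_sum_left]
    simp only [classInner_smul_left]
    rw [Finset.sum_eq_single j]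
    · rw [he j hj j hj, if_pos rfl, mul_one]
    · intro i hi hij
      rw [he i hi j hj, if_neg hij, mul_zero]
    · intro hj'
      exact absurd hj hj'
  have h2 : classInner (f - g) g = 0 := by
    conv_lhs => rw [hg]
    rw [classInner_sum_right]
    refine Finset.sum_eq_zero fun j hj => ?_
    rw [classInner_smul_right, classInner_sub_left', h1 j hj, sub_self, mul_zero]
  have h3 : classInner g (f - g) = 0 := by
    rw [← classInner_comm_conj, h2, map_zero]
  have h4 : classInner g g = ∑ i ∈ s, classInner f (e i) * conj (classInner f (e i)) := by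
    conv_lhs => rw [hg]
    rw [classInner_sum_left]
    refine Finset.sum_congr rfl fun i hi => ?_
    rw [classInner_smul_left, ← classInner_comm_conj g, h1 i hi]
  have h5 : f = g + (f - g) := by abel
  have h6 : classInner f f = classInner g g + classInner (f - g) (f - g) := by
    conv_lhs => rw [h5]
    rw [classInner_add_left, classInner_add_right, classInner_add_right, h2, h3]
    ring
  rw [h6, h4]

/-- If the family has the maximal possible total, the remainder is zero. -/
theorem eq_sum_of_bessel_eq {ι : Type*} [DecidableEq ι] (s : Finset ι) (e : ι → X → ℂ)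
    (he : ∀ i ∈ s, ∀ j ∈ s, classInner (e i) (e j) = if i = j then 1 else 0) (f : X → ℂ)
    (h : classInner f f = ∑ i ∈ s, classInner f (e i) * conj (classInner f (e i))) :
    f = ∑ i ∈ s, classInner f (e i) • e i := by
  have h1 := bessel s e he f
  rw [h] at h1
  have h2 : classInner (f - ∑ i ∈ s, classInner f (e i) • e i) (f - ∑ i ∈ s, classInner f (e i) • e i) = 0 := by
    linear_combination -h1
  have h3 := classInner_self_eq_zero h2
  exact sub_eq_zero.mp h3

/-- Bessel for integer coefficients. -/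
theorem bessel_le_int {ι : Type*} [DecidableEq ι] (s : Finset ι) (e : ι → X → ℂ)
    (he : ∀ i ∈ s, ∀ j ∈ s, classInner (e i) (e j) = if i = j then 1 else 0) (f : X → ℂ)
    (a : ι → ℤ) (ha : ∀ i ∈ s, classInner f (e i) = a i) (N : ℤ) (hN : classInner f f = N) :
    ∑ i ∈ s, a i * a i ≤ N := by
  have h1 := bessel s e he f
  have h2 : ∑ i ∈ s, classInner f (e i) * conj (classInner f (e i)) = ((∑ i ∈ s, a i * a i : ℤ) : ℂ) := by
    push_cast
    refine Finset.sum_congr rfl fun i hi => ?_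
    rw [ha i hi, map_intCast]
  rw [h2, hN] at h1
  have h3 := classInner_self_re_nonneg (f - ∑ i ∈ s, classInner f (e i) • e i)
  have h4 := congrArg Complex.re h1
  simp only [Complex.intCast_re, Complex.add_re] at h4
  have h5 : ((∑ i ∈ s, a i * a i : ℤ) : ℝ) ≤ (N : ℝ) := by linarith
  exact_mod_cast h5

end Inner

section Finite

variable {L : Type u} [Group L] [Fintype L]

/-- A pairwise orthogonal set of nonzero functions is finite. -/
theorem finite_of_orthogonal {S : Set (L → ℂ)} (horth : ∀ χ ∈ S, ∀ φ ∈ S, χ ≠ φ → classInner χ φ = 0)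
    (hne : ∀ χ ∈ S, classInner χ χ ≠ 0) : S.Finite := by
  classical
  have hli : LinearIndependent ℂ (fun x : S => (x : L → ℂ)) := by
    rw [linearIndependent_iff']
    intro t c hsum x hx
    have h1 := congrArg (fun f => classInner f (x : L → ℂ)) hsum
    beta_reduce at h1
    rw [classInner_zero_left, classInner_sum_left] at h1
    simp only [classInner_smul_left] at h1
    rw [Finset.sum_eq_single x] at h1
    · exact (mul_eq_zero.mp h1).resolve_right (hne x x.2)
    · intro y _ hy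
      rw [horth y y.2 x x.2 (fun h => hy (Subtype.ext h)), mul_zero]
    · intro h
      exact absurd hx h
  exact LinearIndependent.setFinite hli

end Finite

section Ext

variable {L : Type u} [Group L] [Fintype L] {G : Type v} [Group G] [Fintype G]

/-- The linear map defined by prescribing its values on an orthogonal family. -/
noncomputable def coherExt (S : Finset (L → ℂ)) (μ : (L → ℂ) → (G → ℂ)) (f : L → ℂ) : G → ℂ :=
  ∑ χ ∈ S, (classInner f χ / classInner χ χ) • μ χ

variable {S : Finset (L → ℂ)} {μ : (L → ℂ) → (G → ℂ)}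

theorem coherExt_add (f g : L → ℂ) : coherExt S μ (f + g) = coherExt S μ f + coherExt S μ g := by
  simp only [coherExt, classInner_add_left, add_div, add_smul, Finset.sum_add_distrib]

theorem coherExt_zsmul (n : ℤ) (f : L → ℂ) : coherExt S μ (n • f) = n • coherExt S μ f := by
  simp only [coherExt, classInner_zsmul_left, Finset.smul_sum]
  refine Finset.sum_congr rfl fun χ _ => ?_
  rw [← Int.cast_smul_eq_zsmul ℂ n, smul_smul, mul_div_assoc]

theorem coherExt_zero : coherExt S μ (0 : L → ℂ) = 0 := by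
  simp [coherExt, classInner_zero_left]

theorem coherExt_sub (f g : L → ℂ) : coherExt S μ (f - g) = coherExt S μ f - coherExt S μ g := by
  simp only [coherExt, classInner_sub_left', sub_div, sub_smul, Finset.sum_sub_distrib]

theorem coherExt_mem (horth : ∀ χ ∈ S, ∀ φ ∈ S, χ ≠ φ → classInner χ φ = 0)
    (hne : ∀ χ ∈ S, classInner χ χ ≠ 0) {χ : L → ℂ} (hχ : χ ∈ S) : coherExt S μ χ = μ χ := by
  classical
  simp only [coherExt]
  rw [Finset.sum_eq_single χ]
  · rw [div_self (hne χ hχ), one_smul]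
  · intro φ hφ hne'
    rw [horth χ hχ φ hφ hne'.symm]
    simp
  · intro h
    exact absurd hχ h

/-- The prescribed map is a linear isometry on the integer span. -/
theorem coherExt_isometry (horth : ∀ χ ∈ S, ∀ φ ∈ S, χ ≠ φ → classInner χ φ = 0)
    (hne : ∀ χ ∈ S, classInner χ χ ≠ 0) (hgen : ∀ χ ∈ S, IsGeneralizedCharacter G (μ χ))
    (hin : ∀ χ ∈ S, ∀ φ ∈ S, classInner (μ χ) (μ φ) = classInner χ φ) :
    IsLinearIsometryOn (zspan (S : Set (L → ℂ))) (coherExt S μ) := by
  refine ⟨fun f _ g _ => coherExt_add f g, fun f _ n => coherExt_zsmul n f, ?_, ?_⟩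
  · intro f hf g hg
    have hf' : f ∈ Submodule.span ℤ (S : Set (L → ℂ)) := hf
    have hg' : g ∈ Submodule.span ℤ (S : Set (L → ℂ)) := hg
    clear hf hg
    induction hf' using Submodule.span_induction with
    | mem χ hχ =>
      induction hg' using Submodule.span_induction with
      | mem φ hφ =>
        rw [coherExt_mem horth hne hχ, coherExt_mem horth hne hφ]
        exact hin χ hχ φ hφ
      | zero =>
        rw [coherExt_zero, classInner_zero_right', classInner_zero_right']
      | add a b _ _ ha hb =>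
        rw [coherExt_add, classInner_add_right, classInner_add_right, ha, hb]
      | smul n a _ ha =>
        rw [coherExt_zsmul, classInner_zsmul_right, classInner_zsmul_right, ha]
    | zero =>
      rw [coherExt_zero, classInner_zero_left, classInner_zero_left]
    | add a b _ _ ha hb =>
      rw [coherExt_add, classInner_add_left, classInner_add_left, ha, hb]
    | smul n a _ ha =>
      rw [coherExt_zsmul, classInner_zsmul_left, classInner_zsmul_left, ha]
  · intro f hf
    have hf' : f ∈ Submodule.span ℤ (S : Set (L → ℂ)) := hf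
    clear hf
    induction hf' using Submodule.span_induction with
    | mem χ hχ =>
      rw [coherExt_mem horth hne hχ]
      exact hgen χ hχ
    | zero =>
      rw [coherExt_zero]
      exact isGeneralized_zero
    | add a b _ _ ha hb =>
      rw [coherExt_add]
      exact gen_add ha hb
    | smul n a _ ha =>
      rw [coherExt_zsmul]
      exact gen_zsmul ha n

end Ext

section Span

variable {X : Type*}

theorem zsmul_apply' (n : ℤ) (f : X → ℂ) (x : X) : (n • f) x = (n : ℂ) * f x := by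
  rw [Pi.smul_apply, zsmul_eq_mul]

theorem mem_zspan {S : Set (X → ℂ)} {χ : X → ℂ} (h : χ ∈ S) : χ ∈ zspan S :=
  Submodule.subset_span h

theorem zspan_add_mem {S : Set (X → ℂ)} {f g : X → ℂ} (hf : f ∈ zspan S) (hg : g ∈ zspan S) :
    f + g ∈ zspan S := Submodule.add_mem _ hf hg

theorem zspan_sub_mem {S : Set (X → ℂ)} {f g : X → ℂ} (hf : f ∈ zspan S) (hg : g ∈ zspan S) :
    f - g ∈ zspan S := Submodule.sub_mem _ hf hg

theorem zspan_zsmul_mem {S : Set (X → ℂ)} {f : X → ℂ} (n : ℤ) (hf : f ∈ zspan S) :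
    n • f ∈ zspan S := Submodule.smul_of_tower_mem _ n hf

theorem zspan_zero_mem {S : Set (X → ℂ)} : (0 : X → ℂ) ∈ zspan S := Submodule.zero_mem _

theorem zspan_mono {S T : Set (X → ℂ)} (h : S ⊆ T) {f : X → ℂ} (hf : f ∈ zspan S) : f ∈ zspan T :=
  Submodule.span_mono h hf

theorem zspanOn_mono {S T : Set (X → ℂ)} {A : Set X} (h : S ⊆ T) {f : X → ℂ} (hf : f ∈ zspanOn S A) :
    f ∈ zspanOn T A := ⟨zspan_mono h hf.1, hf.2⟩

end Span

section Iso

variable {L : Type u} [Group L] [Fintype L] {G : Type v} [Group G] [Fintype G]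

theorem iso_lin {E : Set (L → ℂ)} {τ : (L → ℂ) → (G → ℂ)} (h : IsLinearIsometryOn E τ)
    (hz : ∀ (n : ℤ), ∀ f ∈ E, n • f ∈ E) (m n : ℤ) {f g : L → ℂ} (hf : f ∈ E) (hg : g ∈ E) :
    τ (m • f + n • g) = m • τ f + n • τ g := by
  rw [h.1 _ (hz m f hf) _ (hz n g hg), h.2.1 f hf m, h.2.1 g hg n]

theorem zspan_closed (S : Set (L → ℂ)) : ∀ (n : ℤ), ∀ f ∈ zspan S, n • f ∈ zspan S :=
  fun n _ hf => zspan_zsmul_mem n hf

theorem zspanOn_closed (S : Set (L → ℂ)) (A : Set L) : ∀ (n : ℤ), ∀ f ∈ zspanOn S A, n • f ∈ zspanOn S A := by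
  intro n f hf
  refine ⟨zspan_zsmul_mem n hf.1, fun x hx => ?_⟩
  simp [hf.2 x hx]

theorem zspanOn_add {S : Set (L → ℂ)} {A : Set L} {f g : L → ℂ} (hf : f ∈ zspanOn S A) (hg : g ∈ zspanOn S A) :
    f + g ∈ zspanOn S A := by
  refine ⟨zspan_add_mem hf.1 hg.1, fun x hx => ?_⟩
  simp [hf.2 x hx, hg.2 x hx]

theorem mem_zspanOn_one {S : Set (L → ℂ)} {f : L → ℂ} (h : f ∈ zspan S) (h1 : f 1 = 0) :
    f ∈ zspanOn S {1}ᶜ := by
  refine ⟨h, fun x hx => ?_⟩
  have : x = 1 := by simpa using hx
  rw [this, h1]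

theorem iso_zero {E : Set (L → ℂ)} {τ : (L → ℂ) → (G → ℂ)} (h : IsLinearIsometryOn E τ)
    (h0 : (0 : L → ℂ) ∈ E) : τ 0 = 0 := by
  have := h.2.1 0 h0 0
  simpa using this

/-- Linear isometries send norm one elements to signed irreducibles. -/
theorem iso_signedIrr {E : Set (L → ℂ)} {τ : (L → ℂ) → (G → ℂ)} (h : IsLinearIsometryOn E τ)
    {f : L → ℂ} (hf : f ∈ E) (hn : classInner f f = 1) : SignedIrr (τ f) :=
  signedIrr_of_norm_one (h.2.2.2 f hf) (by rw [h.2.2.1 f hf f hf, hn])

end Iso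

section Quad

variable {X : Type u} [Group X] [Fintype X]

/-- The "two by two" lemma on signed irreducibles. -/
theorem quad_orth_aux {a b γ δ : X → ℂ} (ha : SignedIrr a) (hb : SignedIrr b) (hγ : SignedIrr γ)
    (hδ : SignedIrr δ) {u₁ v₁ u₂ v₂ : ℝ} (hu₁ : u₁ ≠ 0) (hu₂ : u₂ ≠ 0) (hv₁ : v₁ ≠ 0) (hv₂ : v₂ ≠ 0)
    (hab : classInner a b = 0) (hcd : classInner γ δ = 0)
    (hmix : (u₁ : ℂ) * u₂ * classInner a γ - (u₁ : ℂ) * v₂ * classInner a δ -
      (v₁ : ℂ) * u₂ * classInner b γ + (v₁ : ℂ) * v₂ * classInner b δ = 0)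
    (h1 : (u₁ : ℂ) * a 1 = v₁ * b 1) (h2 : (u₂ : ℂ) * γ 1 = v₂ * δ 1) : classInner a γ = 0 := by
  by_contra hne
  have hu₁' : (u₁ : ℂ) ≠ 0 := by exact_mod_cast hu₁
  have hu₂' : (u₂ : ℂ) ≠ 0 := by exact_mod_cast hu₂
  have hv₁' : (v₁ : ℂ) ≠ 0 := by exact_mod_cast hv₁
  have hv₂' : (v₂ : ℂ) ≠ 0 := by exact_mod_cast hv₂
  have ha1 := ha.one_ne_zero
  have hba : classInner b a = 0 := by
    rw [← classInner_comm_conj, hab, map_zero]
  obtain ⟨e, he, hγe, hae⟩ := ha.inner_cases hγ hne
  have h3 : classInner a δ = 0 := by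
    have h := hcd
    rw [hγe, classInner_smul_left] at h
    exact (mul_eq_zero.mp h).resolve_left (sign_ne_zero he)
  have h4 : classInner b γ = 0 := by
    rw [hγe, classInner_smul_right, hba, mul_zero]
  rw [hae, h3, h4] at hmix
  have hd : classInner b δ ≠ 0 := by
    intro hd
    rw [hd] at hmix
    have h5 : (u₁ : ℂ) * u₂ * e = 0 := by linear_combination hmix
    exact (mul_ne_zero (mul_ne_zero hu₁' hu₂') (sign_ne_zero he)) h5
  obtain ⟨f, hf, hδf, hdf⟩ := hb.inner_cases hδ hd
  rw [hdf] at hmix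
  have h5 := h2
  rw [hγe, hδf] at h5
  simp only [Pi.smul_apply, smul_eq_mul] at h5
  -- eliminate
  have h6 : (v₂ : ℂ) * f * (u₁ * a 1) = (v₁ : ℂ) * ((u₂ : ℂ) * (e * a 1)) := by
    rw [h5, h1]
    ring
  have h7 : (v₂ : ℂ) * f * u₁ = (v₁ : ℂ) * u₂ * e := by
    apply mul_right_cancel₀ ha1
    linear_combination h6
  have h8 : ((u₁ ^ 2 + v₁ ^ 2 : ℝ) : ℂ) * (u₂ * e) = 0 := by
    push_cast
    linear_combination (u₁ : ℂ) * hmix - (v₁ : ℂ) * h7
  have h9 : ((u₁ ^ 2 + v₁ ^ 2 : ℝ) : ℂ) ≠ 0 := by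
    have : u₁ ^ 2 + v₁ ^ 2 ≠ 0 := by positivity
    exact_mod_cast this
  exact (mul_ne_zero h9 (mul_ne_zero hu₂' (sign_ne_zero he))) h8

theorem quad_orth {a b γ δ : X → ℂ} (ha : SignedIrr a) (hb : SignedIrr b) (hγ : SignedIrr γ)
    (hδ : SignedIrr δ) {u₁ v₁ u₂ v₂ : ℝ} (hu₁ : u₁ ≠ 0) (hu₂ : u₂ ≠ 0) (hv₁ : v₁ ≠ 0) (hv₂ : v₂ ≠ 0)
    (hab : classInner a b = 0) (hcd : classInner γ δ = 0)
    (hmix : (u₁ : ℂ) * u₂ * classInner a γ - (u₁ : ℂ) * v₂ * classInner a δ -
      (v₁ : ℂ) * u₂ * classInner b γ + (v₁ : ℂ) * v₂ * classInner b δ = 0)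
    (h1 : (u₁ : ℂ) * a 1 = v₁ * b 1) (h2 : (u₂ : ℂ) * γ 1 = v₂ * δ 1) :
    classInner a γ = 0 ∧ classInner a δ = 0 ∧ classInner b γ = 0 ∧ classInner b δ = 0 := by
  have hba : classInner b a = 0 := by
    rw [← classInner_comm_conj, hab, map_zero]
  have hdc : classInner δ γ = 0 := by
    rw [← classInner_comm_conj, hcd, map_zero]
  refine ⟨quad_orth_aux ha hb hγ hδ hu₁ hu₂ hv₁ hv₂ hab hcd hmix h1 h2,
    quad_orth_aux ha hb hδ hγ hu₁ hv₂ hv₁ hu₂ hab hdc ?_ h1 h2.symm,
    quad_orth_aux hb ha hγ hδ hv₁ hu₂ hu₁ hv₂ hba hcd ?_ h1.symm h2,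
    quad_orth_aux hb ha hδ hγ hv₁ hv₂ hu₁ hu₂ hba hdc ?_ h1.symm h2.symm⟩
  · linear_combination -hmix
  · linear_combination -hmix
  · linear_combination hmix

end Quad

end Cfsg.Agent.H06
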