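import Cfsg.Agent.Lib.H06.Coher

/-!
# Orthonormal projection in coherence systems
-/

set_option autoImplicit false

namespace Cfsg.Agent.H06

open Cfsg Cfsg.Agent.H21
open scoped ComplexConjugate

universe u v

section Proj

variable {G : Type v} [Group G] [Fintype G]

/-- The orthogonal projection to the span of a finite set. -/
noncomputable def proj (s : Finset (G → ℂ)) (f : G → ℂ) : G → ℂ := ∑ r ∈ s, classInner f r • r

variable {s s' : Finset (G → ℂ)}

theorem classInner_proj_right (hs : ∀ a ∈ s, ∀ b ∈ s, classInner a b = if a = b then 1 else 0) (f : G → ℂ)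
    {r : G → ℂ} (hr : r ∈ s) : classInner (proj s f) r = classInner f r := by
  classical
  rw [proj, classInner_sum_left]
  simp only [classInner_smul_left]
  rw [Finset.sum_eq_single r]
  · rw [hs r hr r hr, if_pos rfl, mul_one]
  · intro b hb hne
    rw [hs b hb r hr, if_neg hne, mul_zero]
  · intro h
    exact absurd hr h

theorem classInner_proj_self (hs : ∀ a ∈ s, ∀ b ∈ s, classInner a b = if a = b then 1 else 0) (f : G → ℂ) :
    classInner (proj s f) (proj s f) = ∑ r ∈ s, classInner f r * conj (classInner f r) := by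
  conv_lhs => rw [proj, classInner_sum_left]
  refine Finset.sum_congr rfl fun r hr => ?_
  rw [classInner_smul_left, ← proj, ← classInner_comm_conj (proj s f) r, classInner_proj_right hs f hr]

theorem classInner_proj_of_orth (h : ∀ a ∈ s, ∀ b ∈ s', classInner a b = 0) (f g : G → ℂ) :
    classInner (proj s f) (proj s' g) = 0 := by
  rw [proj, classInner_sum_left]
  refine Finset.sum_eq_zero fun a ha => ?_
  rw [classInner_smul_left, proj, classInner_sum_right]
  rw [Finset.sum_eq_zero, mul_zero]
  intro b hb
  rw [classInner_smul_right, h a ha b hb, mul_zero]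

theorem gen_proj (hs : ∀ r ∈ s, IsGeneralizedCharacter G r) (f : G → ℂ)
    (hf : IsGeneralizedCharacter G f) : IsGeneralizedCharacter G (proj s f) := by
  classical
  rw [proj]
  refine gen_sum s _ fun r hr => ?_
  obtain ⟨n, hn⟩ := gen_inner_int hf (hs r hr)
  rw [hn, Int.cast_smul_eq_zsmul]
  exact gen_zsmul (hs r hr) n

/-- Sums over subsets of an orthonormal set. -/
theorem classInner_sum_self (hs : ∀ a ∈ s, ∀ b ∈ s, classInner a b = if a = b then 1 else 0) :
    classInner (∑ r ∈ s, r) (∑ r ∈ s, r) = s.card := by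
  classical
  rw [classInner_sum_left]
  have : ∀ a ∈ s, classInner a (∑ r ∈ s, r) = 1 := by
    intro a ha
    rw [classInner_sum_right, Finset.sum_eq_single a]
    · rw [hs a ha a ha, if_pos rfl]
    · intro b hb hne
      rw [hs a ha b hb, if_neg hne.symm]
    · intro h
      exact absurd ha h
  rw [Finset.sum_congr rfl this]
  simp

end Proj

section System

variable {L : Type u} [Group L] [Fintype L] {G : Type v} [Group G] [Fintype G]
variable {S : Set (L → ℂ)} {τ : (L → ℂ) → (G → ℂ)} {R : (L → ℂ) → Finset (G → ℂ)}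

theorem system_char_ne_zero (hS : IsCoherenceSystem S τ R) {χ : L → ℂ} (hχ : χ ∈ S) : classInner χ χ ≠ 0 := by
  intro h
  have h0 := classInner_self_eq_zero h
  apply hS.conj_ne χ hχ
  rw [h0]
  funext x
  simp [conjFun]

theorem system_exists_norm (hS : IsCoherenceSystem S τ R) {χ : L → ℂ} (hχ : χ ∈ S) :
    ∃ n : ℕ, 0 < n ∧ classInner χ χ = n := by
  obtain ⟨n, hn⟩ := classInner_isCharacter_nat (hS.isCharacter χ hχ) (hS.isCharacter χ hχ)
  refine ⟨n, Nat.pos_of_ne_zero fun h => ?_, hn⟩
  apply system_char_ne_zero hS hχ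
  rw [hn, h]
  simp

theorem classInner_conj_self (χ : L → ℂ) (n : ℕ) (h : classInner χ χ = n) :
    classInner (conjFun χ) (conjFun χ) = n := by
  rw [classInner_conjFun, h, Complex.conj_natCast]

end System

end Cfsg.Agent.H06
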