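import Cfsg.Agent.Lib.H06.Coher2

/-!
# Coherent subsets of coherence systems
-/

set_option autoImplicit false

namespace Cfsg.Agent.H06

open Cfsg Cfsg.Agent.H21
open scoped ComplexConjugate

universe u v


section CoherSys

variable {L : Type u} [Group L] [Fintype L] {G : Type v} [Group G] [Fintype G]
variable {S : Set (L → ℂ)} {τ : (L → ℂ) → (G → ℂ)} {R : (L → ℂ) → Finset (G → ℂ)}

theorem system_one_ne_zero (hS : IsCoherenceSystem S τ R) {χ : L → ℂ} (hχ : χ ∈ S) : χ 1 ≠ 0 := by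
  intro h
  apply system_char_ne_zero hS hχ
  have hz : χ = 0 := by
    funext x
    have := isCharacter_norm_le (hS.isCharacter χ hχ) x
    rw [one_eq_charDegree (hS.isCharacter χ hχ)] at h
    have h' : (charDegree χ : ℝ) = 0 := by exact_mod_cast h
    rw [h'] at this
    simpa using this
  rw [hz]
  exact classInner_zero_left _

theorem system_conj_one (hS : IsCoherenceSystem S τ R) {χ : L → ℂ} (hχ : χ ∈ S) : conjFun χ 1 = χ 1 := by
  show conj (χ 1) = χ 1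
  rw [one_eq_charDegree (hS.isCharacter χ hχ), Complex.conj_natCast]

theorem system_sub_conj_mem (hS : IsCoherenceSystem S τ R) {S₁ : Set (L → ℂ)} (hS₁ : S₁ ⊆ S)
    (hS₁c : ∀ φ ∈ S₁, conjFun φ ∈ S₁) {φ : L → ℂ} (hφ : φ ∈ S₁) : φ - conjFun φ ∈ zspanOn S₁ {1}ᶜ :=
  mem_zspanOn_one (zspan_sub_mem (mem_zspan hφ) (mem_zspan (hS₁c φ hφ))) (by
    rw [Pi.sub_apply, system_conj_one hS (hS₁ hφ), sub_self])

/-- A coherence extension on a conjugation closed subset lands in the span of `R φ`. -/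
theorem coh_eq_proj (hS : IsCoherenceSystem S τ R) {S₁ : Set (L → ℂ)} (hS₁ : S₁ ⊆ S)
    (hS₁c : ∀ φ ∈ S₁, conjFun φ ∈ S₁) {τ₁ : (L → ℂ) → (G → ℂ)} (hτ₁ : IsLinearIsometryOn (zspan S₁) τ₁)
    (hag : ∀ α ∈ zspanOn S₁ {1}ᶜ, τ₁ α = τ α) {φ : L → ℂ} (hφ : φ ∈ S₁) :
    τ₁ φ = proj (R φ) (τ₁ φ) := by
  classical
  have hφS := hS₁ hφ
  have hφc := hS₁c φ hφ
  obtain ⟨n, -, hn⟩ := system_exists_norm hS hφS
  have hn' : classInner (conjFun φ) (conjFun φ) = n := classInner_conj_self φ n hn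
  have hne := hS.conj_ne φ hφS
  have e : classInner φ (conjFun φ) = 0 := hS.orthogonal φ hφS _ (hS.conj_mem φ hφS) hne.symm
  have e' : classInner (conjFun φ) φ = 0 := hS.orthogonal _ (hS.conj_mem φ hφS) φ hφS hne
  have hd := system_sub_conj_mem hS hS₁ hS₁c hφ
  have hon := hS.orthonormal φ hφS
  have hΔ : τ₁ φ - τ₁ (conjFun φ) = ∑ r ∈ R φ, r := by
    rw [← hS.sum_eq φ hφS, ← hag _ hd]
    have := iso_lin hτ₁ (zspan_closed _) 1 (-1) (mem_zspan hφ) (mem_zspan hφc)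
    simp only [one_smul, neg_smul] at this
    rw [sub_eq_add_neg, sub_eq_add_neg, this]
  have hcard : (R φ).card = 2 * n := by
    have h1 := hS.isometry.2.2.1 _ (zspanOn_mono hS₁ hd) _ (zspanOn_mono hS₁ hd)
    rw [hS.sum_eq φ hφS, classInner_sum_self hon] at h1
    simp only [classInner_sub_left', classInner_sub_right'] at h1
    rw [hn, hn', e, e'] at h1
    have : (((R φ).card : ℕ) : ℂ) = ((2 * n : ℕ) : ℂ) := by
      rw [h1]
      push_cast
      ring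
    exact_mod_cast this
  have hgen1 : IsGeneralizedCharacter G (τ₁ φ) := hτ₁.2.2.2 _ (mem_zspan hφ)
  have hgen2 : IsGeneralizedCharacter G (τ₁ (conjFun φ)) := hτ₁.2.2.2 _ (mem_zspan hφc)
  have hint1 : ∀ r ∈ R φ, ∃ k : ℤ, classInner (τ₁ φ) r = k := fun r hr =>
    gen_inner_int hgen1 (hS.virtual φ hφS r hr)
  have hint2 : ∀ r ∈ R φ, ∃ k : ℤ, classInner (τ₁ (conjFun φ)) r = k := fun r hr =>
    gen_inner_int hgen2 (hS.virtual φ hφS r hr)
  choose! u hu using hint1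
  choose! v hv using hint2
  have huv : ∀ r ∈ R φ, u r = v r + 1 := by
    intro r hr
    have h1 : classInner (τ₁ φ - τ₁ (conjFun φ)) r = 1 := by
      rw [hΔ, classInner_sum_left, Finset.sum_eq_single r]
      · rw [hon r hr r hr, if_pos rfl]
      · intro b hb hb'
        rw [hon b hb r hr, if_neg hb']
      · intro h
        exact absurd hr h
    rw [classInner_sub_left', hu r hr, hv r hr] at h1
    have h2 : ((u r - v r : ℤ) : ℂ) = ((1 : ℤ) : ℂ) := by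
      push_cast
      exact h1
    have h3 : u r - v r = 1 := by exact_mod_cast h2
    omega
  have hb1 := bessel_le_int (R φ) (fun r => r) hon (τ₁ φ) u hu n (by
    rw [hτ₁.2.2.1 _ (mem_zspan hφ) _ (mem_zspan hφ), hn]
    push_cast
    rfl)
  have hb2 := bessel_le_int (R φ) (fun r => r) hon (τ₁ (conjFun φ)) v hv n (by
    rw [hτ₁.2.2.1 _ (mem_zspan hφc) _ (mem_zspan hφc), hn']
    push_cast
    rfl)
  have hlow : (∑ r ∈ R φ, (1 : ℤ)) ≤ ∑ r ∈ R φ, (u r * u r + v r * v r) := by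
    refine Finset.sum_le_sum fun r hr => ?_
    rw [huv r hr]
    nlinarith [mul_self_nonneg (2 * v r + 1)]
  rw [Finset.sum_add_distrib, Finset.sum_const, hcard] at hlow
  simp only [smul_eq_mul, mul_one, nsmul_eq_mul] at hlow
  push_cast at hlow
  have hE : ∑ r ∈ R φ, u r * u r = n := by omega
  have := eq_sum_of_bessel_eq (R φ) (fun r => r) hon (τ₁ φ) (by
    rw [hτ₁.2.2.1 _ (mem_zspan hφ) _ (mem_zspan hφ), hn]
    have h1 : ∀ r ∈ R φ, classInner (τ₁ φ) r * conj (classInner (τ₁ φ) r) = ((u r * u r : ℤ) : ℂ) := by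
      intro r hr
      rw [hu r hr, map_intCast]
      push_cast
      rfl
    rw [Finset.sum_congr rfl h1, ← Int.cast_sum, hE]
    simp)
  exact this

/-- A coherence extension on a conjugation closed subset is orthogonal to `R χ` for `χ` outside. -/
theorem coh_orth (hS : IsCoherenceSystem S τ R) {S₁ : Set (L → ℂ)} (hS₁ : S₁ ⊆ S)
    (hS₁c : ∀ φ ∈ S₁, conjFun φ ∈ S₁) {τ₁ : (L → ℂ) → (G → ℂ)} (hτ₁ : IsLinearIsometryOn (zspan S₁) τ₁)
    (hag : ∀ α ∈ zspanOn S₁ {1}ᶜ, τ₁ α = τ α) {φ χ : L → ℂ} (hφ : φ ∈ S₁) (hχ : χ ∈ S) (h1 : χ ∉ S₁)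
    (h2 : conjFun χ ∉ S₁) {r : G → ℂ} (hr : r ∈ R χ) : classInner (τ₁ φ) r = 0 := by
  rw [coh_eq_proj hS hS₁ hS₁c hτ₁ hag hφ, proj, classInner_sum_left]
  refine Finset.sum_eq_zero fun s hs => ?_
  rw [classInner_smul_left, hS.disjoint χ hχ φ (hS₁ hφ)
    (hS.orthogonal φ (hS₁ hφ) χ hχ (fun e => h1 (e ▸ hφ)))
    (hS.orthogonal φ (hS₁ hφ) _ (hS.conj_mem χ hχ) (fun e => h2 (e ▸ hφ))) s hs r hr, mul_zero]

end CoherSys

end Cfsg.Agent.H06
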