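import Cfsg.Agent.Lib.H06.CoherInd

/-!
# Auxiliaries for coherence of characters induced from Frobenius kernels
-/

set_option autoImplicit false

namespace Cfsg.Agent.H06

open Cfsg Cfsg.Agent.H21
open scoped ComplexConjugate commutatorElement

universe u v

section Restrict

variable {L : Type u} [Group L] [Fintype L] {G : Type v} [Group G] [Fintype G]

/-- A coherence system restricts to a nonempty conjugation closed subset. -/
theorem system_restrict {S S₁ : Set (L → ℂ)} {τ : (L → ℂ) → (G → ℂ)} {R : (L → ℂ) → Finset (G → ℂ)}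
    (hS : IsCoherenceSystem S τ R) (hne : S₁.Nonempty) (hsub : S₁ ⊆ S)
    (hc : ∀ χ ∈ S₁, conjFun χ ∈ S₁) : IsCoherenceSystem S₁ τ R := by
  obtain ⟨h1, h2, h3, h4⟩ := hS.isometry
  exact
    { nonempty := hne
      isCharacter := fun χ hχ => hS.isCharacter χ (hsub hχ)
      conj_mem := hc
      conj_ne := fun χ hχ => hS.conj_ne χ (hsub hχ)
      isometry := ⟨fun α hα β hβ => h1 α (zspanOn_mono hsub hα) β (zspanOn_mono hsub hβ),
        fun α hα m => h2 α (zspanOn_mono hsub hα) m,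
        fun α hα β hβ => h3 α (zspanOn_mono hsub hα) β (zspanOn_mono hsub hβ),
        fun α hα => h4 α (zspanOn_mono hsub hα)⟩
      map_one := fun α hα => hS.map_one α (zspanOn_mono hsub hα)
      orthogonal := fun χ hχ φ hφ hne => hS.orthogonal χ (hsub hχ) φ (hsub hφ) hne
      orthonormal := fun χ hχ α hα β hβ => hS.orthonormal χ (hsub hχ) α hα β hβ
      virtual := fun χ hχ α hα => hS.virtual χ (hsub hχ) α hα
      sum_eq := fun χ hχ => hS.sum_eq χ (hsub hχ)
      disjoint := fun χ hχ φ hφ h5 h6 α hα β hβ => hS.disjoint χ (hsub hχ) φ (hsub hφ) h5 h6 α hα β hβ }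

end Restrict

section Count

/-- If all stabilizers of an action equal a subgroup `T`, then `[Γ:T]` divides the number of points. -/
theorem dvd_card_of_stabilizer_eq {Γ A : Type*} [Group Γ] [Finite Γ] [MulAction Γ A] [Finite A]
    (T : Subgroup Γ) (h : ∀ a : A, MulAction.stabilizer Γ a = T) : T.index ∣ Nat.card A := by
  classical
  haveI : Fintype (MulAction.orbitRel.Quotient Γ A) := Fintype.ofFinite _
  rw [Nat.card_congr (MulAction.selfEquivSigmaOrbits Γ A), Nat.card_sigma]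
  apply Finset.dvd_sum
  intro ω _
  rw [← h (Quotient.out ω), MulAction.index_stabilizer, Nat.card_coe_set_eq]

variable {L : Type u} [Group L] [Finite L]

/-- The number of nontrivial cosets in a normal section of a Frobenius quotient is divisible by the
order of the complement. -/
theorem frob_index_dvd (K H₁ N : Subgroup L) [hH₁ : H₁.Normal] [hN : N.Normal] (hH₁N : H₁ ≤ N)
    (hNK : N ≤ K) (hcomm : ∀ x ∈ K, ∀ y ∈ K, x * y * x⁻¹ * y⁻¹ ∈ H₁)
    (hfrob : ∀ k ∈ K, k ∉ H₁ → ∀ x : L, x * k * x⁻¹ * k⁻¹ ∈ H₁ → x ∈ K) :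
    K.index ∣ H₁.relIndex N - 1 := by
  classical
  haveI : Fintype (L ⧸ H₁) := Fintype.ofFinite _
  let f := QuotientGroup.mk' H₁
  let Nb : Subgroup (L ⧸ H₁) := N.map f
  let A : Type u := {q : L ⧸ H₁ // q ∈ Nb ∧ q ≠ 1}
  have hconj : ∀ (g : L) (a : A), f g * a.1 * (f g)⁻¹ ∈ Nb ∧ f g * a.1 * (f g)⁻¹ ≠ 1 := by
    rintro g ⟨q, ⟨n, hn, rfl⟩, hq⟩
    refine ⟨⟨g * n * g⁻¹, hN.conj_mem n hn g, by simp⟩, ?_⟩
    intro h
    apply hq
    have h2 : f g * f n * (f g)⁻¹ * f g = f g := by rw [h, one_mul]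
    simpa using h2
  letI : MulAction L A :=
    { smul := fun g a => ⟨f g * a.1 * (f g)⁻¹, hconj g a⟩
      one_smul := by
        intro a
        apply Subtype.ext
        show f 1 * a.1 * (f 1)⁻¹ = a.1
        simp
      mul_smul := by
        intro g h a
        apply Subtype.ext
        show f (g * h) * a.1 * (f (g * h))⁻¹ = f g * (f h * a.1 * (f h)⁻¹) * (f g)⁻¹
        simp only [map_mul]
        group }
  have hstab : ∀ a : A, MulAction.stabilizer L a = K := by
    rintro ⟨q, ⟨n, hn, rfl⟩, hq⟩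
    have hnH : n ∉ H₁ := by
      intro h
      apply hq
      exact (QuotientGroup.eq_one_iff n).mpr h
    ext g
    rw [MulAction.mem_stabilizer_iff]
    have hiff : g • (⟨f n, ⟨n, hn, rfl⟩, hq⟩ : A) = ⟨f n, ⟨n, hn, rfl⟩, hq⟩ ↔ f g * f n * (f g)⁻¹ = f n :=
      Subtype.ext_iff
    rw [hiff]
    have hiff2 : f g * f n * (f g)⁻¹ = f n ↔ g * n * g⁻¹ * n⁻¹ ∈ H₁ := by
      rw [← QuotientGroup.eq_one_iff (g * n * g⁻¹ * n⁻¹)]
      have : ((g * n * g⁻¹ * n⁻¹ : L) : L ⧸ H₁) = f g * f n * (f g)⁻¹ * (f n)⁻¹ := by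
        simp [f]
      rw [this, mul_inv_eq_one]
    rw [hiff2]
    constructor
    · exact hfrob n (hNK hn) hnH g
    · intro hg
      exact hcomm g hg n (hNK hn)
  have h1 := dvd_card_of_stabilizer_eq K hstab
  have h2 : Nat.card A = H₁.relIndex N - 1 := by
    have h3 : H₁.relIndex N = Nat.card Nb := by
      have := Subgroup.relIndex_ker f (K := N)
      rw [QuotientGroup.ker_mk'] at this
      exact this
    rw [h3]
    have h4 : Nat.card Nb = (Finset.univ.filter (· ∈ Nb)).card := by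
      rw [Nat.card_eq_fintype_card, Fintype.card_subtype]
    have h5 : Nat.card A = (Finset.univ.filter (fun q : L ⧸ H₁ => q ∈ Nb ∧ q ≠ 1)).card := by
      show Nat.card {q : L ⧸ H₁ // q ∈ Nb ∧ q ≠ 1} = _
      rw [Nat.card_eq_fintype_card, Fintype.card_subtype]
    have h6 : Finset.univ.filter (· ∈ Nb) = insert 1 (Finset.univ.filter (fun q : L ⧸ H₁ => q ∈ Nb ∧ q ≠ 1)) := by
      ext q
      simp only [Finset.mem_filter, Finset.mem_univ, true_and, Finset.mem_insert]
      constructor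
      · intro h
        by_cases hq : q = 1
        · exact Or.inl hq
        · exact Or.inr ⟨h, hq⟩
      · rintro (rfl | h)
        · exact Nb.one_mem
        · exact h.1
    rw [h4, h5, h6, Finset.card_insert_of_notMem (by simp)]
    simp
  rwa [h2] at h1

end Count

section NilpMax

variable {T : Type u} [Group T] [Finite T]

/-- A proper subgroup of a finite nilpotent group lies in a proper normal subgroup containing the
commutator subgroup. -/
theorem nilp_exists_max (hT : Group.IsNilpotent T) (H : Subgroup T) (hH : H ≠ ⊤) :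
    ∃ M : Subgroup T, M.Normal ∧ H ≤ M ∧ M ≠ ⊤ ∧ commutator T ≤ M := by
  classical
  obtain hc | ⟨M, hM, hHM⟩ := eq_top_or_exists_le_coatom H
  · exact absurd hc hH
  have hiff : Group.IsNilpotent T ↔ ∀ H : Subgroup T, IsCoatom H → H.Normal :=
    (isNilpotent_of_finite_tfae (G := T)).out 0 2
  have hnorm : M.Normal := hiff.mp hT M hM
  refine ⟨M, hnorm, hHM, hM.1, ?_⟩
  obtain ⟨t, -, ht⟩ := SetLike.exists_of_lt (lt_top_iff_ne_top.mpr hM.1)
  have hsup : M ⊔ Subgroup.zpowers t = ⊤ := by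
    apply hM.2
    refine lt_of_le_of_ne le_sup_left ?_
    intro h
    apply ht
    rw [h]
    exact Subgroup.mem_sup_right (Subgroup.mem_zpowers t)
  have hpow : ∀ a : T, ∃ i : ℤ, ((a : T) : T ⧸ M) = ((t : T) : T ⧸ M) ^ i := by
    intro a
    have h1 : a ∈ M ⊔ Subgroup.zpowers t := by rw [hsup]; exact Subgroup.mem_top _
    have h1' : a ∈ (↑(M ⊔ Subgroup.zpowers t) : Set T) := h1
    rw [Subgroup.normal_mul, Set.mem_mul] at h1'
    obtain ⟨m, hm, z, hz, rfl⟩ := h1'
    obtain ⟨i, rfl⟩ := Subgroup.mem_zpowers_iff.mp hz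
    refine ⟨i, ?_⟩
    rw [QuotientGroup.mk_mul, (QuotientGroup.eq_one_iff m).mpr hm, one_mul, QuotientGroup.mk_zpow]
  rw [commutator_def, Subgroup.commutator_le]
  intro a _ b _
  rw [← QuotientGroup.eq_one_iff]
  obtain ⟨i, hi⟩ := hpow a
  obtain ⟨j, hj⟩ := hpow b
  have h2 : ((⁅a, b⁆ : T) : T ⧸ M) = ⁅(a : T ⧸ M), (b : T ⧸ M)⁆ := rfl
  rw [h2, hi, hj, commutatorElement_eq_one_iff_mul_comm]
  exact ((Commute.refl ((t : T) : T ⧸ M)).zpow_zpow i j).eq

/-- A finite nilpotent group whose abelianization has prime power order is a group of prime power order. -/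
theorem nilp_card_prime_pow (hT : Group.IsNilpotent T) {p a : ℕ} (hp : p.Prime)
    (ha : (commutator T).index = p ^ a) : ∃ b, Nat.card T = p ^ b := by
  classical
  haveI : Fact p.Prime := ⟨hp⟩
  obtain ⟨P⟩ : Nonempty (Sylow p T) := inferInstance
  by_cases hP : (P : Subgroup T) = ⊤
  · obtain ⟨b, hb⟩ := IsPGroup.iff_card.mp P.isPGroup'
    refine ⟨b, ?_⟩
    rw [hP] at hb
    rwa [Subgroup.card_top] at hb
  · exfalso
    obtain ⟨M, hMn, hPM, hMt, hcM⟩ := nilp_exists_max hT _ hP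
    have h1 : M.index ∣ p ^ a := ha ▸ Subgroup.index_dvd_of_le hcM
    obtain ⟨c, -, hc⟩ := (Nat.dvd_prime_pow hp).mp h1
    have h2 : M.index ∣ (P : Subgroup T).index := Subgroup.index_dvd_of_le hPM
    have h3 : ¬ p ∣ (P : Subgroup T).index := P.not_dvd_index
    have h4 : c = 0 := by
      by_contra hc0
      apply h3
      refine dvd_trans ?_ h2
      rw [hc]
      exact dvd_pow_self p hc0
    rw [h4, pow_zero] at hc
    exact hMt (Subgroup.index_eq_one.mp hc)

/-- A finite nilpotent group whose abelianization has prime order is abelian. -/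
theorem nilp_commutator_eq_bot (hT : Group.IsNilpotent T) {p : ℕ} (hp : p.Prime)
    (ha : (commutator T).index = p) : commutator T = ⊥ := by
  classical
  have hne : commutator T ≠ ⊤ := by
    intro h
    rw [h, Subgroup.index_top] at ha
    exact hp.one_lt.ne ha
  obtain ⟨t, -, ht⟩ := SetLike.exists_of_lt (lt_top_iff_ne_top.mpr hne)
  have hz : Subgroup.zpowers t = ⊤ := by
    by_contra hz
    obtain ⟨M, hMn, hPM, hMt, hcM⟩ := nilp_exists_max hT _ hz
    have h1 : M.index ∣ p := ha ▸ Subgroup.index_dvd_of_le hcM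
    rcases (Nat.dvd_prime hp).mp h1 with h2 | h2
    · exact hMt (Subgroup.index_eq_one.mp h2)
    · have h3 : (commutator T).relIndex M * M.index = (commutator T).index :=
        Subgroup.relIndex_mul_index hcM
      rw [h2, ha] at h3
      have h4 : (commutator T).relIndex M = 1 := by
        have : (commutator T).relIndex M * p = 1 * p := by rw [h3, one_mul]
        exact Nat.eq_of_mul_eq_mul_right hp.pos this
      have h5 : M ≤ commutator T := Subgroup.relIndex_eq_one.mp h4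
      exact ht (h5 (hPM (Subgroup.mem_zpowers t)))
  have hcomm : ∀ a b : T, a * b = b * a := by
    intro a b
    have ha' : a ∈ Subgroup.zpowers t := by rw [hz]; exact Subgroup.mem_top _
    have hb' : b ∈ Subgroup.zpowers t := by rw [hz]; exact Subgroup.mem_top _
    obtain ⟨i, rfl⟩ := Subgroup.mem_zpowers_iff.mp ha'
    obtain ⟨j, rfl⟩ := Subgroup.mem_zpowers_iff.mp hb'
    exact ((Commute.refl t).zpow_zpow i j).eq
  rw [eq_bot_iff, commutator_def, Subgroup.commutator_le]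
  intro a _ b _
  rw [Subgroup.mem_bot, commutatorElement_eq_one_iff_mul_comm]
  exact hcomm a b

end NilpMax

section Between

variable {L : Type u} [Group L] [Finite L]

/-- If two distinct primes divide `[K:H₁]` with `K/H₁` abelian, there is an intermediate normal
subgroup of `L`. -/
theorem exists_between_of_two_primes (K H₁ : Subgroup L) [hK : K.Normal] [hH₁ : H₁.Normal] (hH₁K : H₁ ≤ K)
    (hcomm : ∀ x ∈ K, ∀ y ∈ K, x * y * x⁻¹ * y⁻¹ ∈ H₁) {p q : ℕ} (hp : p.Prime) (hq : q.Prime)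
    (hpq : p ≠ q) (hpd : p ∣ H₁.relIndex K) (hqd : q ∣ H₁.relIndex K) :
    ∃ N : Subgroup L, N.Normal ∧ H₁ < N ∧ N < K := by
  classical
  haveI : Fact p.Prime := ⟨hp⟩
  haveI : Fact q.Prime := ⟨hq⟩
  let Q := ↥K ⧸ H₁.subgroupOf K
  have hcardQ : Nat.card Q = H₁.relIndex K := rfl
  have hmem : ∀ (k : K) (n : ℕ), ((k : K) : Q) ^ n = 1 ↔ (k : L) ^ n ∈ H₁ := by
    intro k n
    rw [← QuotientGroup.mk_pow, QuotientGroup.eq_one_iff, Subgroup.mem_subgroupOf]
    simp
  obtain ⟨x, hx⟩ := exists_prime_orderOf_dvd_card' (G := Q) p (by rw [hcardQ]; exact hpd)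
  obtain ⟨y, hy⟩ := exists_prime_orderOf_dvd_card' (G := Q) q (by rw [hcardQ]; exact hqd)
  obtain ⟨k, rfl⟩ := QuotientGroup.mk_surjective x
  obtain ⟨k', rfl⟩ := QuotientGroup.mk_surjective y
  have hmk : ∀ a ∈ K, ∀ b ∈ K, (a : L ⧸ H₁) * (b : L ⧸ H₁) = (b : L ⧸ H₁) * (a : L ⧸ H₁) := by
    intro a ha b hb
    have h1 : ((a * b * a⁻¹ * b⁻¹ : L) : L ⧸ H₁) = 1 := (QuotientGroup.eq_one_iff _).mpr (hcomm a ha b hb)
    have h2 : (a : L ⧸ H₁) * (b : L ⧸ H₁) * (a : L ⧸ H₁)⁻¹ * (b : L ⧸ H₁)⁻¹ = 1 := by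
      simpa using h1
    rw [mul_inv_eq_one, mul_inv_eq_iff_eq_mul] at h2
    exact h2
  let N : Subgroup L :=
    { carrier := {x | x ∈ K ∧ ∃ i : ℕ, x ^ (p ^ i) ∈ H₁}
      one_mem' := ⟨K.one_mem, 0, by simp [H₁.one_mem]⟩
      mul_mem' := by
        rintro a b ⟨ha, i, hi⟩ ⟨hb, j, hj⟩
        refine ⟨K.mul_mem ha hb, i + j, ?_⟩
        have hcomm' : Commute (a : L ⧸ H₁) (b : L ⧸ H₁) := hmk a ha b hb
        rw [← QuotientGroup.eq_one_iff, QuotientGroup.mk_pow, QuotientGroup.mk_mul, hcomm'.mul_pow]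
        have h1 : ((a : L) : L ⧸ H₁) ^ (p ^ (i + j)) = 1 := by
          rw [pow_add, pow_mul, ← QuotientGroup.mk_pow, (QuotientGroup.eq_one_iff _).mpr hi, one_pow]
        have h2 : ((b : L) : L ⧸ H₁) ^ (p ^ (i + j)) = 1 := by
          rw [add_comm, pow_add, pow_mul, ← QuotientGroup.mk_pow, (QuotientGroup.eq_one_iff _).mpr hj, one_pow]
        rw [h1, h2, one_mul]
      inv_mem' := by
        rintro a ⟨ha, i, hi⟩
        refine ⟨K.inv_mem ha, i, ?_⟩
        rw [inv_pow]
        exact H₁.inv_mem hi }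
  have hNn : N.Normal := by
    refine ⟨?_⟩
    rintro n ⟨hn, i, hi⟩ g
    refine ⟨hK.conj_mem n hn g, i, ?_⟩
    rw [conj_pow]
    exact hH₁.conj_mem _ hi g
  refine ⟨N, hNn, ?_, ?_⟩
  · refine lt_of_le_of_ne (fun a ha => ⟨hH₁K ha, 0, by simpa using ha⟩) ?_
    intro h
    have h1 : (k : L) ∈ N := by
      refine ⟨k.2, 1, ?_⟩
      rw [pow_one, ← hmem, ← hx, pow_orderOf_eq_one]
    rw [← h] at h1
    have h2 : ((k : K) : Q) = 1 := (QuotientGroup.eq_one_iff _).mpr (Subgroup.mem_subgroupOf.mpr h1)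
    rw [h2, orderOf_one] at hx
    exact hp.one_lt.ne hx
  · refine lt_of_le_of_ne (fun a ha => ha.1) ?_
    intro h
    have h1 : (k' : L) ∈ N := by rw [h]; exact k'.2
    obtain ⟨-, i, hi⟩ := h1
    rw [← hmem] at hi
    have h2 := orderOf_dvd_of_pow_eq_one hi
    rw [hy] at h2
    have h3 := (Nat.prime_dvd_prime_iff_eq hq hp).mp (hq.dvd_of_dvd_pow h2)
    exact hpq h3.symm

end Between

/-- An odd number `u > 1` with `e ∣ u - 1`, `e` odd, is at least `2e+1`. -/
theorem two_mul_add_one_le {e u : ℕ} (he : Odd e) (hu : Odd u) (h1 : 1 < u) (hd : e ∣ u - 1) :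
    2 * e + 1 ≤ u := by
  have h2 : 2 ∣ u - 1 := by
    obtain ⟨m, rfl⟩ := hu
    exact ⟨m, by omega⟩
  have hc : Nat.Coprime 2 e := by
    rw [Nat.coprime_two_left]
    exact he
  have h3 : 2 * e ∣ u - 1 := hc.mul_dvd_of_dvd_of_dvd h2 hd
  have := Nat.le_of_dvd (by omega) h3
  omega

end Cfsg.Agent.H06
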