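import Cfsg.Agent.S1516
import Cfsg.Agent.Lib.H23.ProdIrr
import Cfsg.Agent.Lib.H23.Ito2
import Cfsg.Agent.Lib.H23.AcdTwo
import Cfsg.Agent.Lib.H06.CharLin2

/-!
# Degree bounds and the degree sum for characters induced from a normal subgroup
-/

set_option autoImplicit false

namespace Cfsg.Agent.H06

open Cfsg Cfsg.Agent.H21
open scoped ComplexConjugate

universe u v

section ConstKernel

variable {X : Type u} [Group X] [Fintype X]

/-- Removing an irreducible constituent from a character leaves a character. -/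
theorem isCharacter_sub_constituent {β ξ : X → ℂ} (hξ : IsIrrCharacter X ξ) (hβ : IsCharacter X β)
    (h : classInner β ξ ≠ 0) : IsCharacter X (β - ξ) := by
  classical
  haveI : Fintype (IrrCharacter X) := Fintype.ofFinite _
  have hcl := isClassFunction_of_isCharacter hβ
  have hcξ := isClassFunction_of_isCharacter (isCharacter_of_irr hξ)
  obtain ⟨m, hm⟩ := classInner_isNat hβ ⟨ξ, hξ⟩
  have hm' : classInner β ξ = m := hm
  have hm0 : m ≠ 0 := by
    rintro rfl
    apply h
    rw [hm']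
    simp
  apply isCharacter_of_inner_nat
  · intro g k
    simp only [Pi.sub_apply]
    rw [hcl, hcξ]
  · intro φ
    obtain ⟨a, ha⟩ := classInner_isNat hβ φ
    have h1 : classInner (β - ξ) (φ : X → ℂ) = a - classInner ξ (φ : X → ℂ) := by
      have h2 : β - ξ = β + (-1 : ℂ) • ξ := by
        funext g; simp [sub_eq_add_neg]
      rw [h2, classInner_add_left, classInner_smul_left, ha]
      ring
    by_cases hφ : ξ = (φ : X → ℂ)
    · have hφ' : φ = ⟨ξ, hξ⟩ := Subtype.ext hφ.symm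
      have : a = m := by
        have h3 : (a : ℂ) = m := by
          rw [← ha, ← hm', hφ]
        exact_mod_cast h3
      refine ⟨m - 1, ?_⟩
      rw [h1, classInner_irr_fun hξ φ.2, if_pos hφ, this]
      have hm1 : 1 ≤ m := Nat.one_le_iff_ne_zero.mpr hm0
      push_cast [Nat.cast_sub hm1]
      ring
    · refine ⟨a, ?_⟩
      rw [h1, classInner_irr_fun hξ φ.2, if_neg hφ, sub_zero]

/-- The kernel of a character lies in the kernel of each irreducible constituent. -/
theorem constituent_ker {ξ μ : X → ℂ} (hξ : IsCharacter X ξ) (hμ : IsIrrCharacter X μ)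
    (h : classInner ξ μ ≠ 0) {g : X} (hg : ξ g = ξ 1) : μ g = μ 1 := by
  have hr := isCharacter_sub_constituent hμ hξ h
  have hμc := isCharacter_of_irr hμ
  have h1 := isCharacter_norm_le hμc g
  have h2 := isCharacter_norm_le hr g
  have e1 := one_eq_charDegree hμc
  have e2 := one_eq_charDegree hr
  have e5 : μ g + (ξ - μ) g = (charDegree μ : ℂ) + (charDegree (ξ - μ) : ℂ) := by
    rw [← e1, ← e2]
    simp only [Pi.sub_apply, hg]
    ring
  rw [e1]
  have hre : (μ g).re + ((ξ - μ) g).re = (charDegree μ : ℝ) + (charDegree (ξ - μ) : ℝ) := by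
    have := congrArg Complex.re e5
    simpa using this
  have hra : (μ g).re ≤ ‖μ g‖ := Complex.re_le_norm _
  have hrb : ((ξ - μ) g).re ≤ ‖(ξ - μ) g‖ := Complex.re_le_norm _
  have hre' : (μ g).re = (charDegree μ : ℝ) := by linarith
  have him : (μ g).im = 0 := by
    have hsq : ‖μ g‖ ^ 2 = (μ g).re ^ 2 + (μ g).im ^ 2 := by
      rw [← Complex.normSq_eq_norm_sq, Complex.normSq_apply]
      ring
    have hle : ‖μ g‖ ^ 2 ≤ (charDegree μ : ℝ) ^ 2 := by
      apply pow_le_pow_left₀ (norm_nonneg _) h1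
    rw [hsq, hre'] at hle
    have : (μ g).im ^ 2 ≤ 0 := by linarith
    have h0 : (μ g).im ^ 2 = 0 := le_antisymm this (sq_nonneg _)
    exact pow_eq_zero_iff (two_ne_zero) |>.mp h0
  apply Complex.ext
  · simpa using hre'
  · simpa using him

/-- If `D` is central modulo the kernel of the irreducible `χ` then `χ(1)² |D| ≤ |X|`. -/
theorem irr_deg_sq_le_of_central {χ : X → ℂ} (hχ : IsIrrCharacter X χ) (D : Subgroup X)
    (hc : ∀ d ∈ D, ∀ g : X, χ (d * g * d⁻¹ * g⁻¹) = χ 1) :
    charDegree χ ^ 2 * Nat.card D ≤ Nat.card X := by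
  classical
  have hnorm : ∀ d ∈ D, ‖χ d‖ = charDegree χ := by
    intro d hd
    obtain ⟨n, ρ, hρ, rfl⟩ := hχ
    have hdeg : charDegree ρ.character = n := by simp [charDegree, Representation.char_one]
    rw [hdeg]
    have : ∃ c : ℂ, ρ d = c • (1 : Module.End ℂ (Fin n → ℂ)) := by
      apply schur_scalar ρ hρ
      intro g
      have h1 : ρ (d * g * d⁻¹ * g⁻¹) = 1 := by
        rw [← character_eq_finrank_iff]
        simpa [Representation.char_one] using hc d hd g
      have h2 : ρ (d * g) = ρ (g * d) := by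
        have : d * g = (d * g * d⁻¹ * g⁻¹) * (g * d) := by group
        rw [this, map_mul ρ (d * g * d⁻¹ * g⁻¹), h1, one_mul]
      change ρ d * ρ g = ρ g * ρ d
      rw [← map_mul, ← map_mul, h2]
    simpa using (norm_character_eq_finrank_iff ρ d).2 this
  have h1 := classInner_irr_self hχ
  rw [classInner_self_eq_real] at h1
  have h2 : (Nat.card X : ℝ)⁻¹ * ∑ x : X, ‖χ x‖ ^ 2 = 1 := by exact_mod_cast h1
  have hX : (Nat.card X : ℝ) ≠ 0 := Nat.cast_ne_zero.mpr Nat.card_pos.ne'
  have h3 : ∑ x : X, ‖χ x‖ ^ 2 = Nat.card X := by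
    field_simp at h2
    linarith
  have h4 : ∑ x ∈ Finset.univ.filter (· ∈ D), ‖χ x‖ ^ 2 ≤ ∑ x : X, ‖χ x‖ ^ 2 :=
    Finset.sum_le_sum_of_subset_of_nonneg (Finset.filter_subset _ _) (fun _ _ _ => by positivity)
  have h5 : ∑ x ∈ Finset.univ.filter (· ∈ D), ‖χ x‖ ^ 2
      = ∑ x ∈ Finset.univ.filter (· ∈ D), (charDegree χ : ℝ) ^ 2 := by
    refine Finset.sum_congr rfl fun x hx => ?_
    rw [hnorm x (Finset.mem_filter.mp hx).2]
  have h6 : (Finset.univ.filter (· ∈ D)).card = Nat.card D := by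
    rw [Nat.card_eq_fintype_card, Fintype.card_subtype]
  rw [h5, Finset.sum_const, h6, h3, nsmul_eq_mul] at h4
  have h7 : ((charDegree χ ^ 2 * Nat.card D : ℕ) : ℝ) ≤ (Nat.card X : ℝ) := by
    push_cast
    linarith
  exact_mod_cast h7

/-- The degree bound: `θ(1)² ≤ [X:C]² [C:D]` when `D ≤ C` is central in `C` modulo a subgroup
in the kernel of `θ`. -/
theorem irr_deg_sq_le (θ : X → ℂ) (hθ : IsIrrCharacter X θ) (B C D : Subgroup X) (hDC : D ≤ C)
    (hB : ∀ b ∈ B, θ b = θ 1) (hcent : ∀ x ∈ D, ∀ y ∈ C, x * y * x⁻¹ * y⁻¹ ∈ B) :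
    charDegree θ ^ 2 ≤ C.index ^ 2 * D.relIndex C := by
  classical
  haveI : Fintype (IrrCharacter X) := Fintype.ofFinite _
  obtain ⟨μ, hμ, hne⟩ := Cfsg.Agent.H23.exists_constituent C hθ
  have hcθ := isCharacter_of_irr hθ
  have hcls := isClassFunction_of_isCharacter hcθ
  have hres := isCharacter_restrict C hcθ
  -- `θ` is a constituent of the induced character
  have hin0 : classInner (indFun C μ) θ ≠ 0 := by
    rw [frobenius_reciprocity C μ θ hcls]
    intro h0
    apply hne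
    have := classInner_comm_conj (fun a : C => θ a) μ
    rw [h0] at this
    simpa using this
  have hle := Cfsg.Agent.H23.deg_le_of_inner_ne hθ (isCharacter_indFun C (isCharacter_of_irr hμ)) hin0
  rw [charDegree_indFun C (isCharacter_of_irr hμ)] at hle
  -- the central bound on `C`
  have hcen : charDegree μ ^ 2 * Nat.card (D.subgroupOf C) ≤ Nat.card C := by
    apply irr_deg_sq_le_of_central hμ
    intro d hd g
    apply constituent_ker hres hμ hne
    have hm : ((d * g * d⁻¹ * g⁻¹ : C) : X) ∈ B := by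
      have hd' : (d : X) ∈ D := hd
      simpa using hcent d hd' g g.2
    have h1 := hB _ hm
    simpa using h1
  have hrel : Nat.card (D.subgroupOf C) * D.relIndex C = Nat.card C :=
    Subgroup.card_mul_index (D.subgroupOf C)
  have hpos : 0 < Nat.card (D.subgroupOf C) := Nat.card_pos
  have hμle : charDegree μ ^ 2 ≤ D.relIndex C := by
    rw [← hrel] at hcen
    have h2 : Nat.card (D.subgroupOf C) * charDegree μ ^ 2
        ≤ Nat.card (D.subgroupOf C) * D.relIndex C := by
      rw [mul_comm (Nat.card (D.subgroupOf C))]; exact hcen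
    exact Nat.le_of_mul_le_mul_left h2 hpos
  calc charDegree θ ^ 2 ≤ (C.index * charDegree μ) ^ 2 := Nat.pow_le_pow_left hle 2
    _ = C.index ^ 2 * charDegree μ ^ 2 := by ring
    _ ≤ C.index ^ 2 * D.relIndex C := Nat.mul_le_mul_left _ hμle

end ConstKernel

section RegKer

variable {X : Type u} [Group X] [Fintype X]

/-- An induced function is constant on a normal subgroup on which the inducing function is. -/
theorem indFun_const_of_trivial (K A : Subgroup X) [hA : A.Normal] (hAK : A ≤ K) (θ : K → ℂ)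
    (hθ : ∀ a : K, (a : X) ∈ A → θ a = θ 1) {a : X} (ha : a ∈ A) :
    indFun K θ a = indFun K θ 1 := by
  unfold indFun
  congr 1
  refine Finset.sum_congr rfl fun x _ => ?_
  have h1 : x⁻¹ * a * x ∈ A := by
    have := hA.conj_mem a ha x⁻¹
    simpa using this
  have h2 : x⁻¹ * 1 * x ∈ A := by
    have := hA.conj_mem 1 A.one_mem x⁻¹
    simpa using this
  have e1 : extendByZero K θ (x⁻¹ * a * x) = θ 1 := by
    rw [← hθ ⟨_, hAK h1⟩ h1]
    exact extendByZero_coe K θ ⟨_, hAK h1⟩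
  have e2 : extendByZero K θ (x⁻¹ * 1 * x) = θ 1 := by
    rw [← hθ ⟨_, hAK h2⟩ h2]
    exact extendByZero_coe K θ ⟨_, hAK h2⟩
  rw [e1, e2]

/-- The character of the regular representation of `X/A` as a combination of irreducible characters
with `A` in their kernel. -/
theorem regKer_expansion (A : Subgroup X) [hA : A.Normal] [Fintype (IrrCharacter X)]
    [DecidablePred fun θ : IrrCharacter X => ∀ a ∈ A, (θ : X → ℂ) a = (θ : X → ℂ) 1] :
    indFun A (fun _ => (1 : ℂ))
      = ∑ θ ∈ Finset.univ.filter (fun θ : IrrCharacter X => ∀ a ∈ A, (θ : X → ℂ) a = (θ : X → ℂ) 1),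
          (charDegree (θ : X → ℂ) : ℂ) • (θ : X → ℂ) := by
  classical
  haveI : Fintype A := Fintype.ofFinite _
  have hc : IsCharacter X (indFun A (fun _ => (1 : ℂ))) := isCharacter_indFun A isCharacter_one
  have hexp := classFunction_expansion _ (isClassFunction_of_isCharacter hc)
  have hker : ∀ a ∈ A, indFun A (fun _ => (1 : ℂ)) a = indFun A (fun _ => (1 : ℂ)) 1 :=
    fun a ha => indFun_const_of_trivial A A le_rfl _ (fun _ _ => rfl) ha
  conv_lhs => rw [hexp]
  rw [Finset.sum_filter]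
  refine Finset.sum_congr rfl fun θ _ => ?_
  split_ifs with h
  · congr 1
    rw [frobenius_reciprocity A _ _ (isClassFunction_of_isCharacter (isCharacter_of_irr θ.2))]
    have h1 : (fun a : A => (θ : X → ℂ) a) = fun _ => (charDegree (θ : X → ℂ) : ℂ) := by
      funext a
      rw [h a a.2, one_eq_charDegree (isCharacter_of_irr θ.2)]
    rw [h1]
    simp only [classInner, one_mul, Complex.conj_natCast, Finset.sum_const, Finset.card_univ,
      nsmul_eq_mul, ← Nat.card_eq_fintype_card]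
    have : (Nat.card A : ℂ) ≠ 0 := by exact_mod_cast Nat.card_pos.ne'
    field_simp
  · have h0 : classInner (indFun A (fun _ => (1 : ℂ))) (θ : X → ℂ) = 0 := by
      by_contra hne
      apply h
      intro a ha
      exact constituent_ker hc θ.2 hne (hker a ha)
    rw [h0, zero_smul]

/-- The squares of degrees of the irreducible characters with `A` in the kernel sum to `[X:A]`. -/
theorem sum_deg_sq_ker (A : Subgroup X) [hA : A.Normal] [Fintype (IrrCharacter X)]
    [DecidablePred fun θ : IrrCharacter X => ∀ a ∈ A, (θ : X → ℂ) a = (θ : X → ℂ) 1] :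
    ∑ θ ∈ Finset.univ.filter (fun θ : IrrCharacter X => ∀ a ∈ A, (θ : X → ℂ) a = (θ : X → ℂ) 1),
      charDegree (θ : X → ℂ) ^ 2 = A.index := by
  have h1 := congrFun (regKer_expansion A) 1
  rw [indFun_one, Finset.sum_apply] at h1
  have h2 : ((A.index : ℕ) : ℂ) = ((∑ θ ∈ Finset.univ.filter
      (fun θ : IrrCharacter X => ∀ a ∈ A, (θ : X → ℂ) a = (θ : X → ℂ) 1),
      charDegree (θ : X → ℂ) ^ 2 : ℕ) : ℂ) := by
    push_cast
    rw [mul_one] at h1
    rw [h1]
    refine Finset.sum_congr rfl fun θ _ => ?_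
    rw [Pi.smul_apply, smul_eq_mul, one_eq_charDegree (isCharacter_of_irr θ.2)]
    ring
  exact_mod_cast h2.symm

/-- Summing `θ(1) ⟨θ, ξ⟩` over the irreducible characters with `A` in the kernel. -/
theorem sum_deg_inner_ker (A : Subgroup X) [hA : A.Normal] [Fintype (IrrCharacter X)]
    [DecidablePred fun θ : IrrCharacter X => ∀ a ∈ A, (θ : X → ℂ) a = (θ : X → ℂ) 1]
    (ξ : X → ℂ) (hξ : IsClassFunction X ξ) (hk : ∀ a ∈ A, ξ a = ξ 1) :
    ∑ θ ∈ Finset.univ.filter (fun θ : IrrCharacter X => ∀ a ∈ A, (θ : X → ℂ) a = (θ : X → ℂ) 1),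
      (charDegree (θ : X → ℂ) : ℂ) * classInner (θ : X → ℂ) ξ = conj (ξ 1) := by
  classical
  haveI : Fintype A := Fintype.ofFinite _
  have h1 := congrArg (fun f => classInner f ξ) (regKer_expansion A)
  rw [classInner_sum_left] at h1
  simp only [classInner_smul_left] at h1
  rw [← h1, frobenius_reciprocity A _ _ hξ]
  have h2 : (fun a : A => ξ a) = fun _ => ξ 1 := by
    funext a
    exact hk a a.2
  rw [h2]
  simp only [classInner, one_mul, Finset.sum_const, Finset.card_univ,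
    nsmul_eq_mul, ← Nat.card_eq_fintype_card]
  have : (Nat.card A : ℂ) ≠ 0 := by exact_mod_cast Nat.card_pos.ne'
  field_simp

end RegKer

section DegSum

variable {L : Type u} [Group L] [Fintype L]

/-- The inducing principal character is orthogonal to the induced of a nonprincipal irreducible. -/
theorem inner_indFun_one_eq_zero (K : Subgroup L) [hK : K.Normal] {θ : K → ℂ}
    (hθ : IsIrrCharacter K θ) (hne : θ ≠ fun _ => 1) :
    classInner (indFun K θ) (indFun K (fun _ => (1 : ℂ))) = 0 := by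
  classical
  haveI : Fintype K := Fintype.ofFinite _
  rw [frobenius_reciprocity K θ _ (indFun_isClass K _)]
  have h1 : (fun k : K => indFun K (fun _ => (1 : ℂ)) k)
      = (K.index : ℂ) • (fun _ : K => (1 : ℂ)) := by
    funext k
    rw [indFun_const_of_trivial K K le_rfl _ (fun _ _ => rfl) k.2, indFun_one]
    simp
  rw [h1, classInner_smul_right, classInner_irr_fun hθ isIrrCharacter_one, if_neg hne, mul_zero]

/-- The key formula: `∑ φ(1)²/⟨φ,φ⟩ = [L:K]([K:A]-1)` over the characters induced from nonprincipal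
irreducible characters of `K` with `A` in their kernel. -/
theorem sum_deg_sq_induced (K A : Subgroup L) [hK : K.Normal] [hA : A.Normal] (hAK : A ≤ K)
    (horth : ∀ χ ∈ inducedIrrAbove K A, ∀ φ ∈ inducedIrrAbove K A, χ ≠ φ → classInner χ φ = 0)
    (d n : (L → ℂ) → ℕ) (hd : ∀ φ ∈ inducedIrrAbove K A, φ 1 = (d φ : ℂ))
    (hn : ∀ φ ∈ inducedIrrAbove K A, classInner φ φ = (n φ : ℂ) ∧ n φ ≠ 0)
    (Sf : Finset (L → ℂ)) (hSf : (Sf : Set (L → ℂ)) = inducedIrrAbove K A) :
    ∑ φ ∈ Sf, ((d φ : ℝ) ^ 2 / (n φ : ℝ)) = (K.index : ℝ) * ((A.relIndex K : ℝ) - 1) := by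
  classical
  haveI : Fintype K := Fintype.ofFinite _
  haveI : Fintype (IrrCharacter K) := Fintype.ofFinite _
  let A' : Subgroup K := A.subgroupOf K
  haveI hA' : A'.Normal := inferInstance
  let I := Finset.univ.filter (fun θ : IrrCharacter K => ∀ a ∈ A', (θ : K → ℂ) a = (θ : K → ℂ) 1)
  let one : IrrCharacter K := ⟨fun _ => 1, isIrrCharacter_one⟩
  have hone : one ∈ I := by
    simp only [I, Finset.mem_filter, Finset.mem_univ, true_and]
    intro a _
    rfl
  let I₀ := I.erase one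
  have hmemI₀ : ∀ θ ∈ I₀, (θ : K → ℂ) ≠ (fun _ => 1) ∧ ∀ a : K, (a : L) ∈ A → (θ : K → ℂ) a = (θ : K → ℂ) 1 := by
    intro θ hθ
    obtain ⟨h1, h2⟩ := Finset.mem_erase.mp hθ
    refine ⟨fun h => h1 (Subtype.ext h), fun a ha => ?_⟩
    exact (Finset.mem_filter.mp h2).2 a (Subgroup.mem_subgroupOf.mpr ha)
  have hmemS : ∀ θ ∈ I₀, indFun K (θ : K → ℂ) ∈ inducedIrrAbove K A := fun θ hθ =>
    ⟨θ, θ.2, (hmemI₀ θ hθ).1, (hmemI₀ θ hθ).2, rfl⟩
  have hmemSf : ∀ θ ∈ I₀, indFun K (θ : K → ℂ) ∈ Sf := fun θ hθ => by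
    rw [← Finset.mem_coe, hSf]; exact hmemS θ hθ
  -- the degree sum
  have hsumdeg : (∑ θ ∈ I₀, charDegree (θ : K → ℂ) ^ 2) + 1 = A.relIndex K := by
    have h1 : ∑ θ ∈ I, charDegree (θ : K → ℂ) ^ 2 = A'.index := sum_deg_sq_ker A'
    have h2 := Finset.add_sum_erase I (fun θ : IrrCharacter K => charDegree (θ : K → ℂ) ^ 2) hone
    have h3 : charDegree (one : K → ℂ) = 1 := by
      have := one_eq_charDegree (isCharacter_of_irr one.2)
      have h4 : ((charDegree (one : K → ℂ) : ℕ) : ℂ) = 1 := this.symm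
      exact_mod_cast h4
    simp only [h3] at h2
    have h5 : A'.index = A.relIndex K := rfl
    rw [← h5, ← h1, ← h2]
    ring
  -- the degree of the induced
  have hdInd : ∀ θ ∈ I₀, d (indFun K (θ : K → ℂ)) = K.index * charDegree (θ : K → ℂ) := by
    intro θ hθ
    have h1 := hd _ (hmemS θ hθ)
    rw [indFun_one, one_eq_charDegree (isCharacter_of_irr θ.2)] at h1
    have h2 : ((d (indFun K (θ : K → ℂ)) : ℕ) : ℂ) = ((K.index * charDegree (θ : K → ℂ) : ℕ) : ℂ) := by
      push_cast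
      exact h1.symm
    exact_mod_cast h2
  -- the coefficient
  let c : (L → ℂ) → ℕ := fun φ => ∑ θ ∈ I₀.filter (fun θ : IrrCharacter K => indFun K (θ : K → ℂ) = φ), charDegree (θ : K → ℂ)
  have hkey : ∀ φ ∈ Sf, d φ = n φ * c φ := by
    intro φ hφ
    have hφS : φ ∈ inducedIrrAbove K A := by
      rw [← hSf]; exact Finset.mem_coe.mpr hφ
    obtain ⟨θ₀, hθ₀, hθ₀ne, hθ₀t, rfl⟩ := id hφS
    let ξ : K → ℂ := fun k => indFun K θ₀ k
    have hξc : IsClassFunction K ξ := by
      intro g h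
      have := indFun_isClass K θ₀ (g : L) (h : L)
      simpa [ξ] using this
    have hξk : ∀ a ∈ A', ξ a = ξ 1 := by
      intro a ha
      have := indFun_const_of_trivial K A hAK θ₀ hθ₀t (Subgroup.mem_subgroupOf.mp ha)
      simpa [ξ] using this
    have h1 := sum_deg_inner_ker A' ξ hξc hξk
    have hξ1 : ξ 1 = (d (indFun K θ₀) : ℂ) := by
      have := hd _ hφS
      simpa [ξ] using this
    rw [hξ1, Complex.conj_natCast] at h1
    have h2 := Finset.add_sum_erase I (fun θ : IrrCharacter K =>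
      (charDegree (θ : K → ℂ) : ℂ) * classInner (θ : K → ℂ) ξ) hone
    have h3 : classInner (one : K → ℂ) ξ = 0 := by
      rw [← frobenius_reciprocity K _ _ (indFun_isClass K θ₀), ← classInner_comm_conj,
        inner_indFun_one_eq_zero K hθ₀ hθ₀ne, map_zero]
    have h4 : ∑ θ ∈ I₀, (charDegree (θ : K → ℂ) : ℂ) * classInner (θ : K → ℂ) ξ
        = (d (indFun K θ₀) : ℂ) := by
      rw [← h1, ← h2]
      simp only [h3, mul_zero, zero_add]
      rfl
    have h5 : ∀ θ ∈ I₀, (charDegree (θ : K → ℂ) : ℂ) * classInner (θ : K → ℂ) ξ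
        = if indFun K (θ : K → ℂ) = indFun K θ₀ then
            ((n (indFun K θ₀) : ℂ) * (charDegree (θ : K → ℂ) : ℂ)) else 0 := by
      intro θ hθ
      rw [← frobenius_reciprocity K _ _ (indFun_isClass K θ₀)]
      split_ifs with h
      · rw [h, (hn _ hφS).1]; ring
      · rw [horth _ (hmemS θ hθ) _ hφS h, mul_zero]
    rw [Finset.sum_congr rfl h5, ← Finset.sum_filter, ← Finset.mul_sum] at h4
    have h6 : ((d (indFun K θ₀) : ℕ) : ℂ) = ((n (indFun K θ₀) * c (indFun K θ₀) : ℕ) : ℂ) := by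
      rw [← h4]
      simp only [c]
      push_cast
      rfl
    exact_mod_cast h6
  have hkey2 : ∀ φ ∈ Sf, ((d φ : ℝ) ^ 2 / (n φ : ℝ)) = ((d φ * c φ : ℕ) : ℝ) := by
    intro φ hφ
    have hφS : φ ∈ inducedIrrAbove K A := by
      rw [← hSf]; exact Finset.mem_coe.mpr hφ
    have hn0 : (n φ : ℝ) ≠ 0 := Nat.cast_ne_zero.mpr (hn φ hφS).2
    have h1 : (d φ : ℝ) = n φ * c φ := by
      exact_mod_cast hkey φ hφ
    push_cast
    rw [h1]
    field_simp
  rw [Finset.sum_congr rfl hkey2, ← Nat.cast_sum]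
  have h3 : ∑ φ ∈ Sf, d φ * c φ = ∑ θ ∈ I₀, K.index * charDegree (θ : K → ℂ) ^ 2 := by
    have h4 : ∀ φ ∈ Sf, d φ * c φ
        = ∑ θ ∈ I₀.filter (fun θ : IrrCharacter K => indFun K (θ : K → ℂ) = φ), K.index * charDegree (θ : K → ℂ) ^ 2 := by
      intro φ _
      simp only [c]
      rw [Finset.mul_sum]
      refine Finset.sum_congr rfl fun θ hθ => ?_
      obtain ⟨h5, h6⟩ := Finset.mem_filter.mp hθ
      rw [← h6, hdInd θ h5]
      ring
    rw [Finset.sum_congr rfl h4]
    exact Finset.sum_fiberwise_of_maps_to (fun θ hθ => hmemSf θ hθ) _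
  rw [h3, ← Finset.mul_sum]
  push_cast
  have h7 : ((A.relIndex K : ℕ) : ℝ) = ((∑ θ ∈ I₀, charDegree (θ : K → ℂ) ^ 2 : ℕ) : ℝ) + 1 := by
    rw [← hsumdeg]; push_cast; ring
  rw [h7]
  push_cast
  ring

end DegSum

section Extend

variable {L : Type u} [Group L] [Fintype L] {G : Type v} [Group G] [Fintype G]

/-- Coherence passes to subsets with a nonzero combination vanishing off `A`. -/
theorem coh_restrict {S T : Set (L → ℂ)} {A : Set L} {τ : (L → ℂ) → (G → ℂ)}
    (hT : IsCoherent T A τ) (hST : S ⊆ T) (hne : ∃ α ∈ zspanOn S A, α ≠ 0) : IsCoherent S A τ := by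
  obtain ⟨-, τ₁, ⟨h1, h2, h3, h4⟩, hag⟩ := hT
  refine ⟨hne, τ₁, ⟨?_, ?_, ?_, ?_⟩, fun α hα => hag α (zspanOn_mono hST hα)⟩
  · exact fun α hα β hβ => h1 α (zspan_mono hST hα) β (zspan_mono hST hβ)
  · exact fun α hα m => h2 α (zspan_mono hST hα) m
  · exact fun α hα β hβ => h3 α (zspan_mono hST hα) β (zspan_mono hST hβ)
  · exact fun α hα => h4 α (zspan_mono hST hα)

/-- Adding finitely many conjugation closed characters of small degree to a coherent set. -/
theorem coh_extend {S : Set (L → ℂ)} {τ : (L → ℂ) → (G → ℂ)} {R : (L → ℂ) → Finset (G → ℂ)}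
    (hS : IsCoherenceSystem S τ R) (d n : (L → ℂ) → ℕ) (hd : ∀ φ ∈ S, φ 1 = (d φ : ℂ))
    (hn : ∀ φ ∈ S, classInner φ φ = (n φ : ℂ))
    (S₀ T : Finset (L → ℂ)) (hS₀ : (S₀ : Set (L → ℂ)) ⊆ S) (hS₀c : ∀ φ ∈ S₀, conjFun φ ∈ S₀)
    (hcoh : IsCoherent (S₀ : Set (L → ℂ)) {1}ᶜ τ) (hT : (T : Set (L → ℂ)) ⊆ S)
    (hTc : ∀ φ ∈ T, conjFun φ ∈ T) (χ₁ : L → ℂ) (hχ₁ : χ₁ ∈ S₀) (hdvd : ∀ χ ∈ T, d χ₁ ∣ d χ)
    (hineq : ∀ χ ∈ T, (2 * d χ * d χ₁ : ℝ) < ∑ φ ∈ S₀, ((d φ : ℝ) ^ 2 / (n φ : ℝ))) :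
    IsCoherent ((S₀ : Set (L → ℂ)) ∪ T) {1}ᶜ τ := by
  classical
  suffices H : ∀ k : ℕ, ∀ S₁ : Finset (L → ℂ), S₀ ⊆ S₁ → (S₁ : Set (L → ℂ)) ⊆ S →
      (∀ φ ∈ S₁, conjFun φ ∈ S₁) → IsCoherent (S₁ : Set (L → ℂ)) {1}ᶜ τ → (T \ S₁).card ≤ k →
      IsCoherent ((S₁ : Set (L → ℂ)) ∪ T) {1}ᶜ τ from
    H _ S₀ (Finset.Subset.refl _) hS₀ hS₀c hcoh le_rfl
  intro k
  induction k with
  | zero =>
    intro S₁ _ _ _ hco hk
    have h0 : T \ S₁ = ∅ := Finset.card_eq_zero.mp (Nat.le_zero.mp hk)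
    have h1 : T ⊆ S₁ := Finset.sdiff_eq_empty_iff_subset.mp h0
    have h2 : (S₁ : Set (L → ℂ)) ∪ T = S₁ := Set.union_eq_left.mpr (Finset.coe_subset.mpr h1)
    rw [h2]
    exact hco
  | succ k ih =>
    intro S₁ h01 h1S h1c hco hk
    by_cases hem : T \ S₁ = ∅
    · have h1 : T ⊆ S₁ := Finset.sdiff_eq_empty_iff_subset.mp hem
      have h2 : (S₁ : Set (L → ℂ)) ∪ T = S₁ := Set.union_eq_left.mpr (Finset.coe_subset.mpr h1)
      rw [h2]
      exact hco
    obtain ⟨χ, hχ⟩ := Finset.nonempty_iff_ne_empty.mpr hem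
    obtain ⟨hχT, hχ1⟩ := Finset.mem_sdiff.mp hχ
    have hconj : conjFun χ ∉ S₁ := by
      intro h
      apply hχ1
      have := h1c _ h
      rwa [conjFun_conjFun] at this
    have hineq' : (2 * d χ * d χ₁ : ℝ) < ∑ φ ∈ S₁, ((d φ : ℝ) ^ 2 / (n φ : ℝ)) := by
      refine lt_of_lt_of_le (hineq χ hχT) ?_
      exact Finset.sum_le_sum_of_subset_of_nonneg h01 (fun _ _ _ => by positivity)
    have hnew := Cfsg.Agent.S1516.result S τ R hS d n hd hn S₁ h1S h1c hco χ (hT hχT) hχ1 hconj χ₁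
      (h01 hχ₁) (hdvd χ hχT) hineq'
    let S₂ : Finset (L → ℂ) := S₁ ∪ {χ, conjFun χ}
    have hS₂ : (S₂ : Set (L → ℂ)) = (S₁ : Set (L → ℂ)) ∪ {χ, conjFun χ} := by
      simp [S₂]
    have hχS : χ ∈ S := hT hχT
    have h3 := ih S₂ (Finset.Subset.trans h01 Finset.subset_union_left) (by
        rw [hS₂]
        intro φ hφ
        rcases hφ with hφ | hφ
        · exact h1S hφ
        · rcases hφ with rfl | hφ
          · exact hχS
          · rw [Set.mem_singleton_iff.mp hφ]; exact hS.conj_mem χ hχS) (by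
        intro φ hφ
        rcases Finset.mem_union.mp hφ with hφ | hφ
        · exact Finset.mem_union_left _ (h1c φ hφ)
        · rcases Finset.mem_insert.mp hφ with rfl | hφ
          · exact Finset.mem_union_right _ (by simp)
          · rw [Finset.mem_singleton.mp hφ, conjFun_conjFun]
            exact Finset.mem_union_right _ (by simp)) (by
        rw [hS₂]; exact hnew) (by
        have h4 : T \ S₂ ⊂ T \ S₁ := by
          refine Finset.ssubset_iff_of_subset ?_ |>.mpr ⟨χ, hχ, ?_⟩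
          · intro x hx
            obtain ⟨h5, h6⟩ := Finset.mem_sdiff.mp hx
            refine Finset.mem_sdiff.mpr ⟨h5, fun h7 => h6 (Finset.mem_union_left _ h7)⟩
          · intro hx
            exact (Finset.mem_sdiff.mp hx).2 (Finset.mem_union_right _ (by simp))
        have := Finset.card_lt_card h4
        omega)
    have h6 : (S₂ : Set (L → ℂ)) ∪ T = (S₁ : Set (L → ℂ)) ∪ T := by
      rw [hS₂]
      ext x
      simp only [Set.mem_union, Set.mem_insert_iff, Set.mem_singleton_iff, Finset.mem_coe]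
      constructor
      · rintro ((h | rfl | rfl) | h)
        · exact Or.inl h
        · exact Or.inr hχT
        · exact Or.inr (hTc _ hχT)
        · exact Or.inr h
      · rintro (h | h)
        · exact Or.inl (Or.inl h)
        · exact Or.inr h
    rw [← h6]
    exact h3

end Extend

section Induced

variable {L : Type u} [Group L] [Fintype L]

theorem extendByZero_conjFun (K : Subgroup L) (θ : K → ℂ) (g : L) :
    extendByZero K (conjFun θ) g = conj (extendByZero K θ g) := by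
  by_cases hg : g ∈ K
  · have h1 := extendByZero_coe K θ ⟨g, hg⟩
    have h2 := extendByZero_coe K (conjFun θ) ⟨g, hg⟩
    simp only at h1 h2
    rw [h1, h2]
    rfl
  · rw [extendByZero_of_not_mem K _ hg, extendByZero_of_not_mem K _ hg, map_zero]

theorem indFun_conjFun (K : Subgroup L) (θ : K → ℂ) : conjFun (indFun K θ) = indFun K (conjFun θ) := by
  funext g
  simp only [conjFun, indFun, map_mul, map_inv₀, map_natCast, map_sum]
  congr 1
  refine Finset.sum_congr rfl fun x _ => ?_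
  exact (extendByZero_conjFun K θ _).symm

theorem inducedIrrAbove_finite (K X : Subgroup L) : (inducedIrrAbove K X).Finite := by
  classical
  apply Set.Finite.subset (Set.finite_range (fun θ : IrrCharacter K => indFun K (θ : K → ℂ)))
  rintro φ ⟨θ, h1, -, -, rfl⟩
  exact ⟨⟨θ, h1⟩, rfl⟩

theorem inducedIrrAbove_subset (K X : Subgroup L) : inducedIrrAbove K X ⊆ inducedIrrAbove K ⊥ := by
  rintro φ ⟨θ, h1, h2, h3, h4⟩
  refine ⟨θ, h1, h2, fun a ha => ?_, h4⟩
  have : a = 1 := by
    ext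
    simpa using ha
  rw [this]

theorem inducedIrrAbove_conj (K X : Subgroup L) {φ : L → ℂ} (hφ : φ ∈ inducedIrrAbove K X) :
    conjFun φ ∈ inducedIrrAbove K X := by
  obtain ⟨θ, h1, h2, h3, rfl⟩ := hφ
  refine ⟨conjFun θ, Cfsg.Agent.H23.isIrrCharacter_conjFun h1, ?_, ?_, indFun_conjFun K θ⟩
  · intro h
    apply h2
    funext k
    have := congrFun h k
    have h4 : conj (θ k) = 1 := this
    have h5 := congrArg conj h4
    simpa using h5
  · intro a ha
    show conj (θ a) = conj (θ 1)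
    rw [h3 a ha]

/-- A nontrivial solvable quotient has a nontrivial linear character. -/
theorem exists_linear_trivial {X : Type u} [Group X] [Finite X] [Group.IsSolvable X] (A : Subgroup X)
    [A.Normal] (hA : A ≠ ⊤) : ∃ ω : X →* ℂˣ, (∀ a ∈ A, ω a = 1) ∧ ω ≠ 1 := by
  haveI : Nontrivial (X ⧸ A) := by
    obtain ⟨x, -, hx⟩ := SetLike.exists_of_lt (lt_top_iff_ne_top.mpr hA)
    refine ⟨⟨(x : X ⧸ A), 1, fun h => hx ((QuotientGroup.eq_one_iff x).mp h)⟩⟩
  have h1 := Group.IsSolvable.commutator_lt_top_of_nontrivial (X ⧸ A)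
  obtain ⟨z, -, hz⟩ := SetLike.exists_of_lt h1
  have hz' : (Abelianization.of z : Abelianization (X ⧸ A)) ≠ 1 := by
    intro h
    apply hz
    exact (QuotientGroup.eq_one_iff z).mp h
  obtain ⟨ω₀, hω₀⟩ := CommGroup.exists_apply_ne_one_of_hasEnoughRootsOfUnity
    (Abelianization (X ⧸ A)) ℂ hz'
  refine ⟨ω₀.comp (Abelianization.of.comp (QuotientGroup.mk' A)), fun a ha => ?_, fun h => ?_⟩
  · have : (a : X ⧸ A) = 1 := (QuotientGroup.eq_one_iff a).mpr ha
    simp [this]
  · induction z using QuotientGroup.induction_on with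
    | H x =>
      apply hω₀
      have := DFunLike.congr_fun h x
      simpa using this

end Induced

end Cfsg.Agent.H06
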