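import Cfsg.Agent.S1524
import Cfsg.Agent.S0171
import Cfsg.Agent.S1528
import Cfsg.Agent.S1529
import Cfsg.Agent.S0033
import Cfsg.Agent.S0852
import Cfsg.Agent.S0853
import Cfsg.Agent.Lib.H04.TIF2
import Cfsg.Agent.Lib.H06.CoherJ4

/-!
# TI subgroups with Frobenius normalizer: the coherent map
-/

set_option autoImplicit false
set_option linter.style.haveILetI false
set_option linter.unusedSectionVars false
set_option linter.unusedVariables false

namespace Cfsg.Agent.H06

open Cfsg Cfsg.Agent.H21 Cfsg.Agent.H04.TIF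
open scoped ComplexConjugate

universe u

section Nil

variable {G : Type u} [Group G] [Finite G] (K : Subgroup G)

/-- A TI kernel with Frobenius normalizer is nilpotent (by Thompson's theorem). -/
theorem tiKernel_nilpotent (hlt : K < Subgroup.normalizer (K : Set G))
    (hC : ∀ k ∈ K, k ≠ 1 → Subgroup.centralizer ({k} : Set G) ≤ K) : Group.IsNilpotent K := by
  classical
  haveI : Fintype G := Fintype.ofFinite _
  by_cases hbot : K = ⊥
  · subst hbot
    haveI : Subsingleton (⊥ : Subgroup G) := inferInstance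
    exact inferInstance
  set N := Subgroup.normalizer (K : Set G) with hN
  haveI : Fintype N := Fintype.ofFinite _
  set K' := K.subgroupOf N with hK'
  haveI hn : (K').Normal := Subgroup.normal_subgroupOf_of_le_normalizer le_rfl
  have hf : ∀ k ∈ K', k ≠ 1 → ∀ x : N, x * k = k * x → x ∈ K' := hfrobK K hC
  have hcop := coprime_of_frob hf
  have hidx : K'.index ≠ 1 := by
    intro h
    rw [Subgroup.index_eq_one] at h
    obtain ⟨x, hx, hxK⟩ := SetLike.exists_of_lt hlt
    have : (⟨x, hx⟩ : N) ∈ K' := by rw [h]; trivial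
    exact hxK (Subgroup.mem_subgroupOf.mp this)
  obtain ⟨p, hp, hpd⟩ := Nat.exists_prime_and_dvd hidx
  haveI := Fact.mk hp
  have hpN : p ∣ Nat.card N := by
    rw [← Subgroup.card_mul_index K']
    exact hpd.trans (dvd_mul_left _ _)
  obtain ⟨x, hx⟩ := exists_prime_orderOf_dvd_card' p hpN
  have hxK : (x : G) ∉ K := by
    intro hxK
    have h1 : x ∈ K' := Subgroup.mem_subgroupOf.mpr hxK
    have h2 : orderOf x ∣ Nat.card K' := by
      have := orderOf_dvd_natCard (⟨x, h1⟩ : K')
      rwa [Subgroup.orderOf_mk] at this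
    rw [hx] at h2
    exact hp.one_lt.ne' (Nat.eq_one_of_dvd_coprimes hcop h2 hpd)
  have hxn : ∀ k ∈ K, (x : G) * k * (x : G)⁻¹ ∈ K := fun k hk =>
    (Subgroup.mem_normalizer_iff.mp x.2 k).mp hk
  have hxn' : ∀ k ∈ K, (x : G)⁻¹ * k * (x : G) ∈ K := fun k hk => by
    have h1 := (Subgroup.mem_normalizer_iff.mp (N.inv_mem x.2) k).mp hk
    simpa using h1
  let φ : K ≃* K :=
    { toFun := fun k => ⟨(x : G) * k * (x : G)⁻¹, hxn k k.2⟩
      invFun := fun k => ⟨(x : G)⁻¹ * k * (x : G), hxn' k k.2⟩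
      left_inv := fun k => by ext; simp [mul_assoc]
      right_inv := fun k => by ext; simp [mul_assoc]
      map_mul' := fun a b => by ext; simp [mul_assoc] }
  have hφv : ∀ (n : ℕ) (k : K), (((φ ^ n) k : K) : G) = (x : G) ^ n * k * ((x : G) ^ n)⁻¹ := by
    intro n
    induction n with
    | zero => intro k; simp
    | succ n ih =>
      intro k
      rw [pow_succ', MulAut.mul_apply]
      show (x : G) * (((φ ^ n) k : K) : G) * (x : G)⁻¹ = _
      rw [ih, pow_succ']
      group
  have hfix : MonoidHom.FixedPointFree (φ : K →* K) := by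
    intro k hk
    by_contra hk1
    have hk1' : (k : G) ≠ 1 := fun h => hk1 (Subtype.ext h)
    have hk2 : (x : G) * k * (x : G)⁻¹ = k := congrArg Subtype.val hk
    apply hxK
    apply hC k k.2 hk1'
    rw [Subgroup.mem_centralizer_iff]
    intro g hg
    have hg' : g = (k : G) := hg
    rw [hg']
    calc (k : G) * x = (x : G) * k * (x : G)⁻¹ * x := by rw [hk2]
      _ = x * k := by group
  have hord : orderOf φ = p := by
    apply orderOf_eq_prime
    · ext k
      rw [hφv]
      have h1 : (x : G) ^ p = 1 := by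
        have := pow_orderOf_eq_one x
        rw [hx] at this
        simpa using congrArg Subtype.val this
      rw [h1]
      simp
    · intro h1
      obtain ⟨k, hk, hk1⟩ := (Subgroup.bot_or_exists_ne_one K).resolve_left hbot
      have h2 := hfix ⟨k, hk⟩ (by rw [show (φ : K →* K) = ((1 : MulAut K) : K →* K) by rw [h1]]; rfl)
      exact hk1 (congrArg Subtype.val h2)
  exact Cfsg.Agent.S0033.result φ hfix p hp hord

end Nil

section Star

variable {G : Type u} [Group G] [Fintype G] (K : Subgroup G)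
  [Fintype ↥(Subgroup.normalizer (K : Set G))]

local notation "NK" => Subgroup.normalizer (K : Set G)
local notation "K'" => Subgroup.subgroupOf K (Subgroup.normalizer (K : Set G))

/-- The irreducible characters of the normalizer that are nontrivial on `K`. -/
def tiSet : Set (↥NK → ℂ) :=
  {χ | IsIrrCharacter ↥NK χ ∧ ∃ k : ↥NK, (k : G) ∈ K ∧ χ k ≠ χ 1}

theorem tiSet_eq_induced
    (hC : ∀ k ∈ K, k ≠ 1 → Subgroup.centralizer ({k} : Set G) ≤ K)
    (E : Subgroup ↥NK) (hE : Subgroup.IsComplement' K' E) :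
    inducedIrrAbove K' ⊥ = tiSet K := by
  classical
  haveI hn : (K').Normal := Subgroup.normal_subgroupOf_of_le_normalizer le_rfl
  have hf : ∀ k ∈ K', k ≠ 1 → ∀ x : ↥NK, x * k = k * x → x ∈ K' := hfrobK K hC
  haveI : Fintype K' := Fintype.ofFinite _
  have hEinf : K' ⊓ E = ⊥ := hE.disjoint.eq_bot
  have hEsup : K' ⊔ E = ⊤ := hE.sup_eq_top
  have hfpf : ∀ h ∈ E, h ≠ 1 → ∀ k ∈ K', h * k = k * h → k = 1 := by
    intro h hh hh1 k hk hcomm
    by_contra hk1
    have h1 := hf k hk hk1 h hcomm
    have h2 : h ∈ K' ⊓ E := ⟨h1, hh⟩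
    rw [hEinf, Subgroup.mem_bot] at h2
    exact hh1 h2
  apply Set.eq_of_subset_of_subset
  · rintro χ ⟨θ, hθ, hne, -, rfl⟩
    have hirr : IsIrrCharacter ↥NK (indFun K' θ) :=
      Cfsg.Agent.S0171.result K' E hEinf hEsup hfpf θ hθ hne
    refine ⟨hirr, ?_⟩
    by_contra hcon
    push Not at hcon
    -- the restriction is a multiple of the principal character
    have h1 : classInner (indFun K' θ) (indFun K' θ) = classInner θ (fun k : K' => indFun K' θ (k : ↥NK)) :=
      frobenius_reciprocity K' θ _ (indFun_isClass K' θ)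
    have h2 : (fun k : K' => indFun K' θ (k : ↥NK)) = (indFun K' θ 1) • (fun _ : K' => (1 : ℂ)) := by
      funext k
      have := hcon (k : ↥NK) (Subgroup.mem_subgroupOf.mp k.2)
      simpa using this
    rw [h2, classInner_irr_self hirr] at h1
    have h3 : classInner θ ((indFun K' θ 1) • (fun _ : K' => (1 : ℂ))) =
        conj (indFun K' θ 1) * classInner θ (fun _ : K' => (1 : ℂ)) := by
      simp only [classInner, Pi.smul_apply, smul_eq_mul, map_mul, Finset.mul_sum]
      refine Finset.sum_congr rfl fun x _ => ?_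
      ring
    rw [h3, classInner_irr_ne hθ isIrrCharacter_one hne, mul_zero] at h1
    exact one_ne_zero h1
  · rintro χ ⟨hχ, k, hk, hne⟩
    obtain ⟨φ, hφ, hχφ⟩ := Cfsg.Agent.S1528.result K' (by
      intro n hn1 hn2
      intro x hx
      apply hf n hn1 hn2 x
      have := Subgroup.mem_centralizer_iff.mp hx n rfl
      exact this.symm) χ hχ ⟨k, Subgroup.mem_subgroupOf.mpr hk, hne⟩
    refine ⟨φ, hφ, ?_, ?_, hχφ⟩
    · rintro rfl
      apply hne
      rw [hχφ]
      exact indFun_const_of_trivial K' K' le_rfl _ (fun _ _ => rfl) (Subgroup.mem_subgroupOf.mpr hk)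
    · intro a ha
      have h1 : (a : ↥NK) = 1 := by simpa using ha
      have h2 : a = 1 := Subtype.ext h1
      rw [h2]

/-- The coherent map on the irreducible characters of the normalizer nontrivial on `K`, together
with a character of normalized degree `1` (induced from a nontrivial linear character of `K`). -/
theorem exists_star (hodd : Odd (Nat.card G)) (hK1 : K ≠ ⊥)
    (hlt : K < NK) (hTI : IsTISubset (K : Set G))
    (hC : ∀ k ∈ K, k ≠ 1 → Subgroup.centralizer ({k} : Set G) ≤ K) :
    ∃ star : (↥NK → ℂ) → (G → ℂ), IsLinearIsometryOn (zspan (tiSet K)) star ∧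
      (∀ α ∈ zspanOn (tiSet K) ({1}ᶜ : Set ↥NK), star α = indFun NK α) ∧
      ∃ φ₀ ∈ tiSet K, φ₀ 1 = ((K').index : ℂ) := by
  classical
  haveI hn : (K').Normal := Subgroup.normal_subgroupOf_of_le_normalizer le_rfl
  have hf : ∀ k ∈ K', k ≠ 1 → ∀ x : ↥NK, x * k = k * x → x ∈ K' := hfrobK K hC
  haveI : Fintype K' := Fintype.ofFinite _
  obtain ⟨E, hE⟩ := Subgroup.exists_right_complement'_of_coprime (coprime_of_frob hf)
  have hset := tiSet_eq_induced K hC E hE
  have hnil : Group.IsNilpotent K := tiKernel_nilpotent K hlt hC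
  have hKN : K ≤ NK := hlt.le
  have hnilK' : Group.IsNilpotent K' :=
    Group.nilpotent_of_surjective (Subgroup.subgroupOfEquivOfLe hKN).symm.toMonoidHom
      (Subgroup.subgroupOfEquivOfLe hKN).symm.surjective
  have hEinf : K' ⊓ E = ⊥ := hE.disjoint.eq_bot
  have hEsup : K' ⊔ E = ⊤ := hE.sup_eq_top
  have hoddN : Odd (Nat.card ↥NK) := Odd.of_dvd_nat hodd (Subgroup.card_subgroup_dvd_card _)
  have hK'1 : K' ≠ ⊥ := by
    intro h
    apply hK1
    rw [eq_bot_iff]
    intro x hx
    have h1 : (⟨x, hKN hx⟩ : ↥NK) ∈ K' := Subgroup.mem_subgroupOf.mpr hx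
    rw [h, Subgroup.mem_bot] at h1
    exact Subgroup.mem_bot.mpr (congrArg Subtype.val h1)
  have hE1 : E ≠ ⊥ := by
    rintro rfl
    rw [sup_bot_eq] at hEsup
    obtain ⟨x, hx, hxK⟩ := SetLike.exists_of_lt hlt
    have : (⟨x, hx⟩ : ↥NK) ∈ K' := by rw [hEsup]; trivial
    exact hxK (Subgroup.mem_subgroupOf.mp this)
  have hfpf : ∀ h ∈ E, h ≠ 1 → ∀ k ∈ K', h * k = k * h → k = 1 := by
    intro h hh hh1 k hk hcomm
    by_contra hk1
    have h1 := hf k hk hk1 h hcomm
    have h2 : h ∈ K' ⊓ E := ⟨h1, hh⟩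
    rw [hEinf, Subgroup.mem_bot] at h2
    exact hh1 h2
  have hcoh := Cfsg.Agent.S1524.result K NK (E.map (NK).subtype) hoddN hKN
    (by rintro x ⟨y, -, rfl⟩; exact y.2) hK1
    (by
      intro h
      apply hE1
      rw [eq_bot_iff]
      intro x hx
      have h1 : (x : G) ∈ E.map (NK).subtype := ⟨x, hx, rfl⟩
      rw [h, Subgroup.mem_bot] at h1
      exact Subgroup.mem_bot.mpr (Subtype.ext h1)) hnil
    (fun x hx h hh => (Subgroup.mem_normalizer_iff.mp hx h).mp hh)
    (by
      rw [eq_bot_iff]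
      rintro x ⟨hx, y, hy, rfl⟩
      have h1 : y ∈ K' ⊓ E := ⟨Subgroup.mem_subgroupOf.mpr hx, hy⟩
      rw [hEinf, Subgroup.mem_bot] at h1
      rw [h1]
      simp)
    (by
      apply le_antisymm
      · exact sup_le hKN (by rintro x ⟨y, -, rfl⟩; exact y.2)
      · intro x hx
        have h1 : (⟨x, hx⟩ : ↥NK) ∈ K' ⊔ E := by rw [hEsup]; trivial
        have h2 := Subgroup.mem_map_of_mem (NK).subtype h1
        rw [Subgroup.map_sup, Subgroup.map_subgroupOf_eq_of_le hKN] at h2
        exact h2)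
    (by
      rintro w ⟨y, hy, rfl⟩ hw1 h hh hcomm
      by_contra hh1
      apply hw1
      have h1 : y ∈ K' := hf ⟨h, hKN hh⟩ (Subgroup.mem_subgroupOf.mpr hh)
        (fun h2 => hh1 (congrArg Subtype.val h2)) y (Subtype.ext hcomm)
      have h2 : y ∈ K' ⊓ E := ⟨h1, hy⟩
      rw [hEinf, Subgroup.mem_bot] at h2
      rw [h2]
      rfl)
    hTI rfl
  rw [hset] at hcoh
  obtain ⟨-, star, hstar, hext⟩ := hcoh
  refine ⟨star, hstar, hext, ?_⟩
  -- the character of normalized degree `1`
  haveI hsolv : Group.IsSolvable K' := inferInstance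
  haveI hntK : Nontrivial K' := by
    obtain ⟨k, hk, hk1⟩ := (Subgroup.bot_or_exists_ne_one K').resolve_left hK'1
    exact ⟨⟨⟨k, hk⟩, 1, fun h => hk1 (congrArg Subtype.val h)⟩⟩
  obtain ⟨ω, -, hω⟩ := exists_linear_trivial (⊥ : Subgroup K') bot_ne_top
  haveI : Fintype ↥K' := Fintype.ofFinite _
  have hωirr := Cfsg.Agent.H23.isIrrCharacter_hom ω
  refine ⟨indFun K' (fun v => (ω v : ℂ)), ?_, ?_⟩
  · rw [← hset]
    refine ⟨_, hωirr, ?_, ?_, rfl⟩
    · intro h
      apply hω
      ext k
      have := congrFun h k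
      simpa using this
    · intro a ha
      have h1 : a = 1 := by
        ext
        simpa using ha
      rw [h1]
  · rw [indFun_one]
    simp

end Star

end Cfsg.Agent.H06
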