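import Cfsg.Agent.Lib.H06.CoherK1

/-!
# TI subgroups with Frobenius normalizer: sums over the exceptional characters
-/

set_option autoImplicit false
set_option linter.style.haveILetI false
set_option linter.unusedSectionVars false
set_option linter.unusedVariables false

namespace Cfsg.Agent.H06

open Cfsg Cfsg.Agent.H21 Cfsg.Agent.H04.TIF
open scoped ComplexConjugate

universe u

section Pack

variable {G : Type u} [Group G] [Fintype G] (K : Subgroup G)

/-- `g` has no non-identity conjugate in `K`. -/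
def tiAvoid (g : G) : Prop := ∀ x : G, x⁻¹ * g * x ∈ K → x⁻¹ * g * x = 1

open scoped Classical in
/-- The irreducible characters of `G` that are not constant on `K \ {1}`. -/
noncomputable def tiPP [Fintype (IrrCharacter G)] : Finset (IrrCharacter G) :=
  Finset.univ.filter (fun ψ => ∃ a ∈ K, ∃ b ∈ K, a ≠ 1 ∧ b ≠ 1 ∧ (ψ : G → ℂ) a ≠ (ψ : G → ℂ) b)

theorem mem_tiPP [Fintype (IrrCharacter G)] {ψ : IrrCharacter G} :
    ψ ∈ tiPP K ↔ ∃ a ∈ K, ∃ b ∈ K, a ≠ 1 ∧ b ≠ 1 ∧ (ψ : G → ℂ) a ≠ (ψ : G → ℂ) b := by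
  simp [tiPP]

variable [Fintype ↥(Subgroup.normalizer (K : Set G))]

local notation "NK" => Subgroup.normalizer (K : Set G)
local notation "K'" => Subgroup.subgroupOf K (Subgroup.normalizer (K : Set G))

/-- Induction vanishes at the elements avoiding the support. -/
theorem ind_vanish (α : ↥NK → ℂ) (hoff : ∀ x : ↥NK, (x : G) ∉ K → α x = 0) (h1 : α 1 = 0) {g : G}
    (hg : tiAvoid K g) : indFun NK α g = 0 := by
  classical
  rw [indFun]
  apply mul_eq_zero_of_right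
  apply Finset.sum_eq_zero
  intro x _
  by_cases hx : x⁻¹ * g * x ∈ NK
  · have h2 := extendByZero_coe NK α ⟨_, hx⟩
    simp only at h2
    rw [h2]
    by_cases h3 : x⁻¹ * g * x ∈ K
    · have h4 := hg x h3
      have h5 : (⟨_, hx⟩ : ↥NK) = 1 := Subtype.ext h4
      rw [h5, h1]
    · exact hoff _ h3
  · exact extendByZero_of_not_mem _ α hx

omit [Fintype G] [Fintype ↥(Subgroup.normalizer (K : Set G))] in
theorem hlt_aux {x : G} (hx : x ∈ K) : x ∈ Subgroup.normalizer (K : Set G) :=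
  Subgroup.le_normalizer hx

section Main

variable {b : ℤ}

variable (hTI : ∀ g : G, g ∉ Subgroup.normalizer (K : Set G) → ∀ k ∈ K, g * k * g⁻¹ ∈ K → k = 1) (hlt : K < Subgroup.normalizer (K : Set G))
  (hC : ∀ k ∈ K, k ≠ 1 → Subgroup.centralizer ({k} : Set G) ≤ K)
  (star : (↥(Subgroup.normalizer (K : Set G)) → ℂ) → (G → ℂ)) (hstar : IsLinearIsometryOn (zspan (tiSet K)) star)
  (hext : ∀ α ∈ zspanOn (tiSet K) ({1}ᶜ : Set ↥(Subgroup.normalizer (K : Set G))), star α = indFun (Subgroup.normalizer (K : Set G)) α)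
  (htwo : ∃ χ ∈ tiSet K, ∃ ξ ∈ tiSet K, χ ≠ ξ)

variable [Fintype (IrrCharacter G)] [Fintype (IrrCharacter ↥(Subgroup.normalizer (K : Set G)))]

include hTI hlt hC hstar hext htwo in
/-- The uniform sign. -/
theorem tiSign : ∃ ε : ℂ, (ε = 1 ∨ ε = -1) ∧ (∀ χ ∈ tiSet K, IsIrrCharacter G (ε • star χ)) ∧
    (∀ χ ∈ tiSet K, ∀ ψ ∈ tiSet K, star χ = star ψ → χ = ψ) := by
  apply Cfsg.Agent.S1529.result NK (tiSet K) (fun χ hχ => hχ.1) htwo star hstar
  intro α hα hα1
  rw [hext α (mem_zspanOn_one hα hα1), indFun_one, hα1, mul_zero]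

include hTI hlt hC hstar hext htwo in
/-- Summing over the exceptional characters. -/
theorem sum_tiPP {β : Type*} [AddCommMonoid β] (F : (G → ℂ) → β) (hF : ∀ f, F (-f) = F f) :
    ∑ ψ ∈ tiPP K, F (ψ : G → ℂ) = ∑ φ ∈ SF K', F (star (φ : ↥NK → ℂ)) := by
  classical
  obtain ⟨ε, hε, hεirr, hinj⟩ := tiSign K hTI hlt hC star hstar hext htwo
  have hmem := mem_S_iff K (tiSet K) rfl
  have hsign : ∀ f : G → ℂ, F (ε • f) = F f := by
    intro f
    rcases hε with rfl | rfl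
    · rw [one_smul]
    · rw [neg_smul, one_smul, hF]
  symm
  refine Finset.sum_bij (fun φ hφ => (⟨ε • star (φ : ↥NK → ℂ), hεirr _ ((hmem φ).mpr hφ)⟩ : IrrCharacter G))
    ?_ ?_ ?_ ?_
  · intro φ hφ
    rw [mem_tiPP]
    have h1 := Cfsg.Agent.S0852.result K hTI hlt hC (tiSet K) rfl htwo star hstar hext
      (ε • star (φ : ↥NK → ℂ)) (hεirr _ ((hmem φ).mpr hφ))
    exact h1.mp ⟨φ, (hmem φ).mpr hφ, by
      rcases hε with rfl | rfl
      · left; rw [one_smul]
      · right; rw [neg_smul, one_smul]⟩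
  · intro φ₁ h₁ φ₂ h₂ h
    have h3 : ε • star (φ₁ : ↥NK → ℂ) = ε • star (φ₂ : ↥NK → ℂ) := congrArg Subtype.val h
    have h4 : star (φ₁ : ↥NK → ℂ) = star (φ₂ : ↥NK → ℂ) := by
      rcases hε with rfl | rfl
      · simpa using h3
      · simpa using h3
    exact Subtype.ext (hinj _ ((hmem φ₁).mpr h₁) _ ((hmem φ₂).mpr h₂) h4)
  · intro ψ hψ
    rw [mem_tiPP] at hψ
    have h1 := Cfsg.Agent.S0852.result K hTI hlt hC (tiSet K) rfl htwo star hstar hext ψ ψ.2
    obtain ⟨χ, hχ, hψχ⟩ := h1.mpr hψ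
    refine ⟨⟨χ, hχ.1⟩, (hmem _).mp hχ, ?_⟩
    apply Subtype.ext
    show ε • star χ = ψ
    have hno : ∀ f : G → ℂ, IsIrrCharacter G f → IsIrrCharacter G (-f) → False := by
      intro f h1 h2
      have hd1 := one_eq_charDegree (isCharacter_of_irr h1)
      have hd2 := one_eq_charDegree (isCharacter_of_irr h2)
      rw [Pi.neg_apply, hd1] at hd2
      have hp1 := irr_charDegree_pos h1
      have hp2 := irr_charDegree_pos h2
      have h3 : ((charDegree f + charDegree (-f) : ℕ) : ℂ) = 0 := by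
        push_cast
        rw [← hd2]
        ring
      have h4 : charDegree f + charDegree (-f) = 0 := by exact_mod_cast h3
      omega
    have hA := hεirr χ hχ
    have hψ2 := ψ.2
    rcases hψχ with h | h <;> rcases hε with rfl | rfl
    · simp [h]
    · exfalso
      rw [neg_smul, one_smul] at hA
      rw [h] at hψ2
      exact hno _ hψ2 hA
    · exfalso
      rw [one_smul] at hA
      rw [h] at hψ2
      exact hno _ hA hψ2
    · simp [h]
  · intro φ hφ
    exact (hsign _).symm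

include hC hstar in
/-- The value of the coherent map on `K \ {1}`. -/
theorem star_on_K (hb : ∀ χ ∈ tiSet K, ∀ k : ↥NK, (k : G) ∈ K → k ≠ 1 →
      star χ k - χ k = (b : ℂ) * χ 1 / (((K').index : ℕ) : ℂ))
    {φ : IrrCharacter ↥NK} (hφ : φ ∈ SF K') {k : ↥NK} (hk : (k : G) ∈ K) (hk1 : k ≠ 1) :
    star (φ : ↥NK → ℂ) k = (φ : ↥NK → ℂ) k + (dd K' φ : ℂ) * b := by
  have h1 := hb φ ((mem_S_iff K (tiSet K) rfl φ).mpr hφ) k hk hk1
  have h2 : (φ : ↥NK → ℂ) 1 = (((K').index : ℕ) : ℂ) * dd K' φ := by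
    have := one_eq_charDegree (isCharacter_of_irr φ.2)
    rw [deg_eq K' (hfrobK K hC) hφ] at this
    push_cast at this
    exact this
  have hidx : (((K').index : ℕ) : ℂ) ≠ 0 := Nat.cast_ne_zero.mpr (index_pos K').ne'
  rw [h2] at h1
  have h3 : (b : ℂ) * ((((K').index : ℕ) : ℂ) * (dd K' φ : ℂ)) / (((K').index : ℕ) : ℂ) = (dd K' φ : ℂ) * b := by
    field_simp
  rw [h3] at h1
  linear_combination h1

include hC hstar hext in
/-- The coherent map off the conjugates of `K \ {1}` is proportional to the normalized degree. -/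
theorem star_off {φ₀ φ : IrrCharacter ↥NK} (h₀ : φ₀ ∈ SF K') (hd₀ : dd K' φ₀ = 1) (hφ : φ ∈ SF K')
    {g : G} (hg : tiAvoid K g) :
    star (φ : ↥NK → ℂ) g = (dd K' φ : ℂ) * star (φ₀ : ↥NK → ℂ) g := by
  have hm := beta_mem K hC (tiSet K) rfl hφ h₀
  have h1 := hext _ hm
  have h2 := star_beta K hC (tiSet K) rfl star hstar hφ h₀
  have h3 := ind_vanish K (Cfsg.Agent.H04.TIF.beta K φ φ₀) (fun x hx => beta_off K hC hφ h₀ x hx)
    (hm.2 1 (by simp)) hg
  rw [← h1, h2, hd₀] at h3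
  simp only [Pi.add_apply, zsmul_apply'] at h3
  push_cast at h3
  linear_combination h3

include hTI hlt hC hstar hext htwo in
/-- Sum over the exceptional characters of products of a value on `K` and a value off `K`. -/
theorem sum_PP_on_off (hb : ∀ χ ∈ tiSet K, ∀ k : ↥NK, (k : G) ∈ K → k ≠ 1 →
      star χ k - χ k = (b : ℂ) * χ 1 / (((K').index : ℕ) : ℂ))
    {φ₀ : IrrCharacter ↥NK} (h₀ : φ₀ ∈ SF K') (hd₀ : dd K' φ₀ = 1)
    {h : ↥NK} (hh : (h : G) ∈ K) (hh1 : h ≠ 1) {g : G} (hg : tiAvoid K g) :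
    ∑ ψ ∈ tiPP K, (ψ : G → ℂ) h * conj ((ψ : G → ℂ) g) =
      (((b * ((∑ φ ∈ SF K', dd K' φ ^ 2 : ℕ) : ℤ) - 1 : ℤ)) : ℂ) * conj (star (φ₀ : ↥NK → ℂ) g) := by
  have hf := hfrobK K hC
  rw [sum_tiPP K hTI hlt hC star hstar hext htwo (fun f => f h * conj (f g)) (by
    intro f
    simp)]
  have h1 : ∀ φ ∈ SF K', star (φ : ↥NK → ℂ) h * conj (star (φ : ↥NK → ℂ) g) =
      conj (star (φ₀ : ↥NK → ℂ) g) * ((dd K' φ : ℂ) * (φ : ↥NK → ℂ) h) +
        (b : ℂ) * conj (star (φ₀ : ↥NK → ℂ) g) * ((dd K' φ ^ 2 : ℕ) : ℂ) := by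
    intro φ hφ
    rw [star_on_K K hC star hstar hb hφ hh hh1, star_off K hC star hstar hext h₀ hd₀ hφ hg]
    simp only [map_mul, Complex.conj_natCast]
    push_cast
    ring
  rw [Finset.sum_congr rfl h1, Finset.sum_add_distrib, ← Finset.mul_sum, ← Finset.mul_sum,
    sum_dd_value K' hf (Subgroup.mem_subgroupOf.mpr hh) hh1]
  push_cast
  ring

include hTI hlt hC hstar hext htwo in
/-- Sum over the exceptional characters of square norms off `K`. -/
theorem sum_PP_off {φ₀ : IrrCharacter ↥NK} (h₀ : φ₀ ∈ SF K') (hd₀ : dd K' φ₀ = 1)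
    {g : G} (hg : tiAvoid K g) :
    ∑ ψ ∈ tiPP K, Complex.normSq ((ψ : G → ℂ) g) =
      ((∑ φ ∈ SF K', dd K' φ ^ 2 : ℕ) : ℝ) * Complex.normSq (star (φ₀ : ↥NK → ℂ) g) := by
  rw [sum_tiPP K hTI hlt hC star hstar hext htwo (fun f => Complex.normSq (f g)) (by
    intro f
    simp)]
  have h1 : ∀ φ ∈ SF K', Complex.normSq (star (φ : ↥NK → ℂ) g) =
      ((dd K' φ ^ 2 : ℕ) : ℝ) * Complex.normSq (star (φ₀ : ↥NK → ℂ) g) := by
    intro φ hφ
    rw [star_off K hC star hstar hext h₀ hd₀ hφ hg, Complex.normSq_mul, Complex.normSq_natCast]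
    push_cast
    ring
  rw [Finset.sum_congr rfl h1, ← Finset.sum_mul]
  push_cast
  rfl

/-- Column orthogonality on the characters nontrivial on `K`. -/
theorem sum_SF_normSq (hC : ∀ k ∈ K, k ≠ 1 → Subgroup.centralizer ({k} : Set G) ≤ K)
    {k : ↥NK} (hk : (k : G) ∈ K) (hk1 : k ≠ 1) :
    ∑ φ ∈ SF K', Complex.normSq ((φ : ↥NK → ℂ) k) =
      (Nat.card (Subgroup.centralizer ({(k : G)} : Set G)) : ℝ) - ((K').index : ℝ) := by
  classical
  haveI hn : (K').Normal := Subgroup.normal_subgroupOf_of_le_normalizer le_rfl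
  have hcol := column_orthogonality_of_isConj (G := ↥NK) (IsConj.refl k)
  have hcent : Nat.card (Subgroup.centralizer ({k} : Set ↥NK)) =
      Nat.card (Subgroup.centralizer ({(k : G)} : Set G)) := by
    have h1 : (Subgroup.centralizer ({k} : Set ↥NK)).map (NK).subtype =
        Subgroup.centralizer ({(k : G)} : Set G) := by
      ext x
      constructor
      · rintro ⟨y, hy, rfl⟩
        rw [Subgroup.mem_centralizer_iff]
        intro g hg
        have hg' : g = (k : G) := hg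
        rw [hg']
        have := Subgroup.mem_centralizer_iff.mp hy k rfl
        exact congrArg Subtype.val this
      · intro hx
        have hxK := hC k hk (fun h => hk1 (Subtype.ext h)) hx
        refine ⟨⟨x, hlt_aux K hxK⟩, SetLike.mem_coe.mpr ?_, rfl⟩
        rw [Subgroup.mem_centralizer_iff]
        intro g hg
        have hg' : g = k := hg
        rw [hg']
        apply Subtype.ext
        exact Subgroup.mem_centralizer_iff.mp hx k rfl
    rw [← h1]
    exact (Subgroup.card_map_of_injective (NK).subtype_injective).symm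
  have h1 : ∑ χ : IrrCharacter ↥NK, Complex.normSq ((χ : ↥NK → ℂ) k) =
      (Nat.card (Subgroup.centralizer ({(k : G)} : Set G)) : ℝ) := by
    apply Complex.ofReal_injective
    rw [← hcent]
    push_cast
    rw [← hcol]
    refine Finset.sum_congr rfl fun χ _ => ?_
    rw [Complex.mul_conj]
  have h2 : ∑ φ ∈ (Finset.univ : Finset (IrrCharacter ↥NK)) \ SF K', Complex.normSq ((φ : ↥NK → ℂ) k) =
      ((K').index : ℝ) := by
    rw [← sum_nonS_deg_sq K']
    push_cast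
    refine Finset.sum_congr rfl fun φ hφ => ?_
    have h3 := (Finset.mem_sdiff.mp hφ).2
    rw [mem_SF] at h3
    push Not at h3
    rw [h3 k (Subgroup.mem_subgroupOf.mpr hk), one_eq_charDegree (isCharacter_of_irr φ.2),
      Complex.normSq_natCast]
    ring
  rw [← Finset.sum_sdiff (Finset.subset_univ (SF K')), h2] at h1
  linarith

include hTI hlt hC hstar hext htwo in
/-- Sum over the exceptional characters of square norms on `K`. -/
theorem sum_PP_on (hb : ∀ χ ∈ tiSet K, ∀ k : ↥NK, (k : G) ∈ K → k ≠ 1 →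
      star χ k - χ k = (b : ℂ) * χ 1 / (((K').index : ℕ) : ℂ))
    {k : ↥NK} (hk : (k : G) ∈ K) (hk1 : k ≠ 1) :
    ∑ ψ ∈ tiPP K, Complex.normSq ((ψ : G → ℂ) k) =
      (Nat.card (Subgroup.centralizer ({(k : G)} : Set G)) : ℝ) - ((K').index : ℝ) - 2 * (b : ℝ) +
        (b : ℝ) ^ 2 * ((∑ φ ∈ SF K', dd K' φ ^ 2 : ℕ) : ℝ) := by
  have hf := hfrobK K hC
  rw [sum_tiPP K hTI hlt hC star hstar hext htwo (fun f => Complex.normSq (f k)) (by
    intro f
    simp)]
  have h1 : ∀ φ ∈ SF K', Complex.normSq (star (φ : ↥NK → ℂ) k) =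
      Complex.normSq ((φ : ↥NK → ℂ) k) + 2 * (b : ℝ) * ((dd K' φ : ℂ) * (φ : ↥NK → ℂ) k).re +
        (b : ℝ) ^ 2 * ((dd K' φ ^ 2 : ℕ) : ℝ) := by
    intro φ hφ
    rw [star_on_K K hC star hstar hb hφ hk hk1, Complex.normSq_add, Complex.normSq_mul,
      Complex.normSq_natCast, Complex.normSq_intCast]
    simp only [map_mul, Complex.conj_natCast, map_intCast]
    have e : (φ : ↥NK → ℂ) k * ((dd K' φ : ℂ) * (b : ℂ)) = ((b : ℝ) : ℂ) * ((dd K' φ : ℂ) * (φ : ↥NK → ℂ) k) := by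
      push_cast
      ring
    rw [e, Complex.re_ofReal_mul]
    push_cast
    ring
  rw [Finset.sum_congr rfl h1, Finset.sum_add_distrib, Finset.sum_add_distrib, ← Finset.mul_sum,
    ← Finset.mul_sum, sum_SF_normSq K hC hk hk1, ← Complex.re_sum,
    sum_dd_value K' hf (Subgroup.mem_subgroupOf.mpr hk) hk1]
  push_cast
  simp
  ring

include hTI hlt hC hstar hext htwo in
/-- An irreducible character of `G` constant on `K \ {1}` has integer value there. -/
theorem const_of_notMem_tiPP {ψ : IrrCharacter G} (hψ : ψ ∉ tiPP K) :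
    ∃ n : ℤ, ∀ k ∈ K, k ≠ 1 → (ψ : G → ℂ) k = n := by
  classical
  have hf := hfrobK K hC
  have hmem := mem_S_iff K (tiSet K) rfl
  have hcon : ∀ χ ∈ tiSet K, (ψ : G → ℂ) ≠ star χ ∧ (ψ : G → ℂ) ≠ -star χ := by
    intro χ hχ
    have h1 := Cfsg.Agent.S0852.result K hTI hlt hC (tiSet K) rfl htwo star hstar hext ψ ψ.2
    constructor
    · intro h
      exact hψ ((mem_tiPP K).mpr (h1.mp ⟨χ, hχ, Or.inl h⟩))
    · intro h
      exact hψ ((mem_tiPP K).mpr (h1.mp ⟨χ, hχ, Or.inr h⟩))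
  have hsigned : ∀ φ ∈ SF K', classInner (star (φ : _ → ℂ)) (ψ : G → ℂ) = 0 := by
    intro φ hφ
    by_contra hne
    have hφS := (hmem φ).mpr hφ
    have hs : SignedIrr (star (φ : _ → ℂ)) :=
      iso_signedIrr hstar (mem_zspan hφS) (classInner_irr_self φ.2)
    obtain ⟨e, he, hψe, _⟩ := SignedIrr.inner_cases hs (Or.inl ψ.2) hne
    rcases he with rfl | rfl
    · exact (hcon _ hφS).1 (by simpa using hψe)
    · exact (hcon _ hφS).2 (by
        rw [hψe]
        funext x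
        simp)
  have hgen : IsGeneralizedCharacter G (ψ : G → ℂ) := gen_of_char (isCharacter_of_irr ψ.2)
  have hcl : IsClassFunction G (ψ : G → ℂ) := gen_isClass hgen
  have hgR := gen_restrict NK hgen
  have hint : ∀ ξ : IrrCharacter ↥NK, ∃ n : ℤ, classInner (fun x : ↥NK => (ψ : G → ℂ) x) (ξ : _ → ℂ) = n := by
    intro ξ
    exact gen_inner_int hgR (gen_of_char (isCharacter_of_irr ξ.2))
  obtain ⟨n, hn⟩ := const_on_K K' hf (fun x : ↥NK => (ψ : G → ℂ) x) (by
      intro x y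
      have := hcl (x : G) (y : G)
      simp only [Subgroup.coe_mul, InvMemClass.coe_inv]
      rw [this]) hint (by
      intro φ₁ h₁ φ₂ h₂
      apply prop_of_ortho K hC _ hint
      have h3 := inner_beta K hC (tiSet K) rfl star hstar hext _ hcl h₁ h₂
      rw [star_beta K hC (tiSet K) rfl star hstar h₁ h₂, classInner_add_left, classInner_zsmul_left,
        classInner_zsmul_left, hsigned φ₁ h₁, hsigned φ₂ h₂] at h3
      simpa using h3.symm)
  refine ⟨n, fun k hk hk1 => ?_⟩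
  exact hn ⟨k, hlt_aux K hk⟩ (Subgroup.mem_subgroupOf.mpr hk) (fun h => hk1 (congrArg Subtype.val h))

include hTI hlt hC hstar hext htwo in
/-- The members of `tiPP` are the images of the members of `SF`, up to the uniform sign. -/
theorem tiPP_exists {ε : ℂ} (hε : ε = 1 ∨ ε = -1) (hεirr : ∀ χ ∈ tiSet K, IsIrrCharacter G (ε • star χ))
    {ψ : IrrCharacter G} (hψ : ψ ∈ tiPP K) :
    ∃ φ ∈ SF K', (ψ : G → ℂ) = ε • star (φ : ↥NK → ℂ) := by
  have hmem := mem_S_iff K (tiSet K) rfl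
  rw [mem_tiPP] at hψ
  have h1 := Cfsg.Agent.S0852.result K hTI hlt hC (tiSet K) rfl htwo star hstar hext ψ ψ.2
  obtain ⟨χ, hχ, hψχ⟩ := h1.mpr hψ
  refine ⟨⟨χ, hχ.1⟩, (hmem _).mp hχ, ?_⟩
  show (ψ : G → ℂ) = ε • star χ
  have hno : ∀ f : G → ℂ, IsIrrCharacter G f → IsIrrCharacter G (-f) → False := by
    intro f h1 h2
    have hd1 := one_eq_charDegree (isCharacter_of_irr h1)
    have hd2 := one_eq_charDegree (isCharacter_of_irr h2)
    rw [Pi.neg_apply, hd1] at hd2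
    have hp1 := irr_charDegree_pos h1
    have hp2 := irr_charDegree_pos h2
    have h3 : ((charDegree f + charDegree (-f) : ℕ) : ℂ) = 0 := by
      push_cast
      rw [← hd2]
      ring
    have h4 : charDegree f + charDegree (-f) = 0 := by exact_mod_cast h3
    omega
  have hA := hεirr χ hχ
  have hψ2 := ψ.2
  rcases hψχ with h | h <;> rcases hε with rfl | rfl
  · simp [h]
  · exfalso
    rw [neg_smul, one_smul] at hA
    rw [h] at hψ2
    exact hno _ hψ2 hA
  · exfalso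
    rw [one_smul] at hA
    rw [h] at hψ2
    exact hno _ hA hψ2
  · simp [h]

include hTI hlt hC hstar hext htwo in
theorem tiPP_mem {ε : ℂ} (hε : ε = 1 ∨ ε = -1) (hεirr : ∀ χ ∈ tiSet K, IsIrrCharacter G (ε • star χ))
    {φ : IrrCharacter ↥NK} (hφ : φ ∈ SF K') :
    (⟨ε • star (φ : ↥NK → ℂ), hεirr _ ((mem_S_iff K (tiSet K) rfl φ).mpr hφ)⟩ : IrrCharacter G) ∈ tiPP K := by
  rw [mem_tiPP]
  have h1 := Cfsg.Agent.S0852.result K hTI hlt hC (tiSet K) rfl htwo star hstar hext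
    (ε • star (φ : ↥NK → ℂ)) (hεirr _ ((mem_S_iff K (tiSet K) rfl φ).mpr hφ))
  exact h1.mp ⟨φ, (mem_S_iff K (tiSet K) rfl φ).mpr hφ, by
    rcases hε with rfl | rfl
    · left; rw [one_smul]
    · right; rw [neg_smul, one_smul]⟩

include hTI hlt hC hstar hext htwo in
/-- Pairing of the exceptional characters. -/
theorem tiPP_pair (hodd : Odd (Nat.card G)) {φ₀ : IrrCharacter ↥NK} (h₀ : φ₀ ∈ SF K') (hd₀ : dd K' φ₀ = 1)
    {ψ : IrrCharacter G} (hψ : ψ ∈ tiPP K) :
    ∃ A ∈ tiPP K, A ≠ ψ ∧ ∀ g : G, tiAvoid K g → (ψ : G → ℂ) g = (A : G → ℂ) g := by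
  classical
  have hmem := mem_S_iff K (tiSet K) rfl
  obtain ⟨ε, hε, hεirr, hinj⟩ := tiSign K hTI hlt hC star hstar hext htwo
  obtain ⟨φ, hφ, hψφ⟩ := tiPP_exists K hTI hlt hC star hstar hext htwo hε hεirr hψ
  let φb : IrrCharacter ↥NK := ⟨conjFun (φ : ↥NK → ℂ), Cfsg.Agent.H23.isIrrCharacter_conjFun φ.2⟩
  have hφb : φb ∈ SF K' := by
    rw [mem_SF] at hφ ⊢
    obtain ⟨k, hk, hne⟩ := hφ
    refine ⟨k, hk, fun h => hne ?_⟩
    have h2 : conj ((φ : ↥NK → ℂ) k) = conj ((φ : ↥NK → ℂ) 1) := h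
    exact (starRingEnd ℂ).injective h2
  have hne : (φb : ↥NK → ℂ) ≠ (φ : ↥NK → ℂ) := by
    apply conj_ne_of_odd (Odd.of_dvd_nat hodd (Subgroup.card_subgroup_dvd_card _)) φ.2
    intro h
    rw [mem_SF] at hφ
    obtain ⟨k, hk, hne⟩ := hφ
    apply hne
    rw [h]
  have hdd : dd K' φb = dd K' φ := by
    have h1 : charDegree (φb : ↥NK → ℂ) = charDegree (φ : ↥NK → ℂ) := by
      have e1 := one_eq_charDegree (isCharacter_of_irr φb.2)
      have e2 := one_eq_charDegree (isCharacter_of_irr φ.2)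
      have e3 : (φb : ↥NK → ℂ) 1 = conj ((φ : ↥NK → ℂ) 1) := rfl
      rw [e3, e2, Complex.conj_natCast] at e1
      exact_mod_cast e1.symm
    simp only [dd, h1]
  refine ⟨⟨ε • star (φb : ↥NK → ℂ), hεirr _ ((hmem φb).mpr hφb)⟩,
    tiPP_mem K hTI hlt hC star hstar hext htwo hε hεirr hφb, ?_, ?_⟩
  · intro h
    have h1 : ε • star (φb : ↥NK → ℂ) = (ψ : G → ℂ) := congrArg Subtype.val h
    rw [hψφ] at h1
    have h4 : star (φb : ↥NK → ℂ) = star (φ : ↥NK → ℂ) := by
      rcases hε with rfl | rfl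
      · simpa using h1
      · simpa using h1
    exact hne (hinj _ ((hmem φb).mpr hφb) _ ((hmem φ).mpr hφ) h4)
  · intro g hg
    show (ψ : G → ℂ) g = (ε • star (φb : ↥NK → ℂ)) g
    rw [hψφ]
    simp only [Pi.smul_apply, smul_eq_mul]
    rw [star_off K hC star hstar hext h₀ hd₀ hφ hg, star_off K hC star hstar hext h₀ hd₀ hφb hg, hdd]

open scoped Classical in
/-- `K \ {1}` as a subset of the normalizer. -/
noncomputable def tiSharp : Finset ↥NK := Finset.univ.filter (fun x => (x : G) ∈ K ∧ x ≠ 1)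

omit [Fintype (IrrCharacter G)] [Fintype (IrrCharacter ↥NK)] in
theorem mem_tiSharp {x : ↥NK} : x ∈ tiSharp K ↔ (x : G) ∈ K ∧ x ≠ 1 := by
  simp [tiSharp]

omit [Fintype (IrrCharacter G)] [Fintype (IrrCharacter ↥NK)] in
theorem sum_off_split {R : Type*} [AddCommMonoid R] (f : ↥NK → R) (hf : ∀ x : ↥NK, (x : G) ∉ K → f x = 0) :
    ∑ x : ↥NK, f x = f 1 + ∑ x ∈ tiSharp K, f x := by
  classical
  have h1 : ∀ x ∉ insert 1 (tiSharp K), f x = 0 := by
    intro x hx
    rw [Finset.mem_insert, mem_tiSharp] at hx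
    push Not at hx
    apply hf
    intro hxK
    exact hx.1 (hx.2 hxK)
  rw [← Finset.sum_subset (Finset.subset_univ (insert 1 (tiSharp K))) (fun x _ hx => h1 x hx),
    Finset.sum_insert (by simp [mem_tiSharp])]

omit [Fintype (IrrCharacter G)] [Fintype (IrrCharacter ↥NK)] in
theorem card_tiSharp : (tiSharp K).card + 1 = Nat.card K := by
  classical
  have h1 := sum_off_split K (R := ℕ) (fun x => if (x : G) ∈ K then 1 else 0) (fun x hx => if_neg hx)
  have h2 : ∑ x ∈ tiSharp K, (if ((x : ↥NK) : G) ∈ K then 1 else 0) = (tiSharp K).card := by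
    rw [Finset.card_eq_sum_ones]
    refine Finset.sum_congr rfl fun x hx => if_pos ((mem_tiSharp K).mp hx).1
  rw [h2, if_pos (by exact K.one_mem)] at h1
  have h3 : ∑ x : ↥NK, (if (x : G) ∈ K then 1 else 0) = Nat.card K' := by
    rw [Finset.sum_boole, Nat.card_eq_fintype_card, Fintype.card_subtype]
    push_cast
    congr
  have h4 : Nat.card K' = Nat.card K := Nat.card_congr (Subgroup.subgroupOfEquivOfLe (Subgroup.le_normalizer)).toEquiv
  omega

include hC hstar hext in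
/-- The norm of the basic exceptional character on `K \ {1}`. -/
theorem sum_sharp_normSq (hb : ∀ χ ∈ tiSet K, ∀ k : ↥NK, (k : G) ∈ K → k ≠ 1 →
      star χ k - χ k = (b : ℂ) * χ 1 / (((K').index : ℕ) : ℂ))
    {φ₀ : IrrCharacter ↥NK} (h₀ : φ₀ ∈ SF K') (hd₀ : dd K' φ₀ = 1) :
    ∑ x ∈ tiSharp K, Complex.normSq (star (φ₀ : ↥NK → ℂ) x) =
      (Nat.card ↥NK : ℝ) - ((K').index : ℝ) ^ 2 - 2 * (b : ℝ) * ((K').index : ℝ) +
        (b : ℝ) ^ 2 * ((tiSharp K).card : ℝ) := by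
  classical
  haveI hn : (K').Normal := Subgroup.normal_subgroupOf_of_le_normalizer le_rfl
  have hf := hfrobK K hC
  have hv : ∀ x : ↥NK, (x : G) ∉ K → (φ₀ : ↥NK → ℂ) x = 0 := by
    intro x hx
    exact char_vanish hf φ₀.2 ((mem_SF K').mp h₀) (fun h => hx (Subgroup.mem_subgroupOf.mp h))
  have h1v : (φ₀ : ↥NK → ℂ) 1 = ((K').index : ℂ) := by
    have h1 := one_eq_charDegree (isCharacter_of_irr φ₀.2)
    rw [deg_eq K' hf h₀, hd₀] at h1
    simpa using h1
  have hcard : (Nat.card ↥NK : ℂ) ≠ 0 := Nat.cast_ne_zero.mpr Nat.card_pos.ne'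
  -- norm
  have hnorm : ∑ x : ↥NK, Complex.normSq ((φ₀ : ↥NK → ℂ) x) = (Nat.card ↥NK : ℝ) := by
    apply Complex.ofReal_injective
    have h2 := classInner_irr_self φ₀.2
    rw [classInner] at h2
    push_cast
    rw [show ∑ x : ↥NK, ((Complex.normSq ((φ₀ : ↥NK → ℂ) x) : ℝ) : ℂ) =
        ∑ x : ↥NK, (φ₀ : ↥NK → ℂ) x * conj ((φ₀ : ↥NK → ℂ) x) from
      Finset.sum_congr rfl fun x _ => (Complex.mul_conj _).symm]
    field_simp at h2
    exact h2
  rw [sum_off_split K _ (fun x hx => by simp [hv x hx]), h1v, Complex.normSq_natCast] at hnorm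
  -- sum
  have hsum : ∑ x : ↥NK, (φ₀ : ↥NK → ℂ) x = 0 := by
    have h2 := classInner_irr_ne φ₀.2 isIrrCharacter_one (by
      intro h
      rw [mem_SF] at h₀
      obtain ⟨k, hk, hne⟩ := h₀
      apply hne
      rw [h])
    rw [classInner] at h2
    have h3 := (mul_eq_zero.mp h2).resolve_left (inv_ne_zero hcard)
    simpa using h3
  rw [sum_off_split K _ hv, h1v] at hsum
  have hsumre : ∑ x ∈ tiSharp K, ((φ₀ : ↥NK → ℂ) x).re = -((K').index : ℝ) := by
    have h3 := congrArg Complex.re hsum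
    simp only [Complex.add_re, Complex.natCast_re, Complex.re_sum, Complex.zero_re] at h3
    linarith
  have hval : ∀ x ∈ tiSharp K, Complex.normSq (star (φ₀ : ↥NK → ℂ) x) =
      Complex.normSq ((φ₀ : ↥NK → ℂ) x) + 2 * (b : ℝ) * ((φ₀ : ↥NK → ℂ) x).re + (b : ℝ) ^ 2 := by
    intro x hx
    obtain ⟨hxK, hx1⟩ := (mem_tiSharp K).mp hx
    rw [star_on_K K hC star hstar hb h₀ hxK hx1, hd₀, Complex.normSq_add]
    simp only [Nat.cast_one, one_mul, map_intCast, Complex.normSq_intCast]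
    have e : (φ₀ : ↥NK → ℂ) x * (b : ℂ) = ((b : ℝ) : ℂ) * (φ₀ : ↥NK → ℂ) x := by
      push_cast
      ring
    rw [e, Complex.re_ofReal_mul]
    ring
  rw [Finset.sum_congr rfl hval, Finset.sum_add_distrib, Finset.sum_add_distrib, ← Finset.mul_sum, hsumre]
  simp only [Finset.sum_const, nsmul_eq_mul]
  have : ∑ x ∈ tiSharp K, Complex.normSq ((φ₀ : ↥NK → ℂ) x) =
      (Nat.card ↥NK : ℝ) - (((K').index : ℝ) * ((K').index : ℝ)) := by linarith
  rw [this]
  ring

end Main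

/-- The package of character-theoretic data attached to a TI subgroup with Frobenius normalizer. -/
theorem ti_package [Fintype (IrrCharacter G)] (hodd : Odd (Nat.card G)) (hK1 : K ≠ ⊥) (hlt : K < NK)
    (hTI : IsTISubset (K : Set G)) (hC : ∀ k ∈ K, k ≠ 1 → Subgroup.centralizer ({k} : Set G) ≤ K) :
    ∃ (e m : ℕ) (b : ℤ) (W : G → ℂ) (A : IrrCharacter G) (f : ℤ),
      Nat.card K = e * m + 1 ∧ Nat.card ↥NK = Nat.card K * e ∧ 2 ≤ e ∧ 2 ≤ m ∧ Even m ∧
      A ∈ tiPP K ∧ ((A : G → ℂ) = W ∨ (A : G → ℂ) = -W) ∧ W 1 = f ∧ f ≠ 0 ∧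
      (∀ ψ : IrrCharacter G, ψ ∉ tiPP K → ∃ n : ℤ, ∀ k ∈ K, k ≠ 1 → (ψ : G → ℂ) k = n) ∧
      (∀ ψ ∈ tiPP K, ∃ A ∈ tiPP K, A ≠ ψ ∧ ∀ g : G, tiAvoid K g → (ψ : G → ℂ) g = (A : G → ℂ) g) ∧
      (∀ h ∈ K, h ≠ 1 → ∀ g : G, tiAvoid K g →
        ∑ ψ ∈ tiPP K, (ψ : G → ℂ) h * conj ((ψ : G → ℂ) g) = (((b * (m : ℤ) - 1 : ℤ)) : ℂ) * conj (W g)) ∧
      (∀ g : G, tiAvoid K g → ∑ ψ ∈ tiPP K, Complex.normSq ((ψ : G → ℂ) g) = (m : ℝ) * Complex.normSq (W g)) ∧
      (∀ k ∈ K, k ≠ 1 → ∑ ψ ∈ tiPP K, Complex.normSq ((ψ : G → ℂ) k) =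
        (Nat.card (Subgroup.centralizer ({k} : Set G)) : ℝ) - (e : ℝ) - 2 * (b : ℝ) + (b : ℝ) ^ 2 * (m : ℝ)) ∧
      (∑ x ∈ tiSharp K, Complex.normSq (W x) =
        (Nat.card ↥NK : ℝ) - (e : ℝ) ^ 2 - 2 * (b : ℝ) * (e : ℝ) + (b : ℝ) ^ 2 * ((tiSharp K).card : ℝ)) := by
  classical
  haveI : Fintype (IrrCharacter ↥NK) := Fintype.ofFinite _
  haveI hn : (K').Normal := Subgroup.normal_subgroupOf_of_le_normalizer le_rfl
  have hf := hfrobK K hC
  have hmem := mem_S_iff K (tiSet K) rfl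
  have hTI' : ∀ g : G, g ∉ NK → ∀ k ∈ K, g * k * g⁻¹ ∈ K → k = 1 := hTI
  obtain ⟨star, hstar, hext, φf, hφS, hφ1⟩ := exists_star K hodd hK1 hlt hTI hC
  set φ₀ : IrrCharacter ↥NK := ⟨φf, hφS.1⟩ with hφ₀
  have h₀ : φ₀ ∈ SF K' := (hmem φ₀).mp hφS
  have hd₀ : dd K' φ₀ = 1 := by
    have h1 := one_eq_charDegree (isCharacter_of_irr φ₀.2)
    have h2 : (φ₀ : ↥NK → ℂ) 1 = ((K').index : ℂ) := hφ1
    rw [h2] at h1
    have h3 : charDegree (φ₀ : ↥NK → ℂ) = (K').index := by exact_mod_cast h1.symm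
    rw [dd, h3]
    exact Nat.div_self (index_pos K')
  have hoddN : Odd (Nat.card ↥NK) := Odd.of_dvd_nat hodd (Subgroup.card_subgroup_dvd_card _)
  have htwo : ∃ χ ∈ tiSet K, ∃ ξ ∈ tiSet K, χ ≠ ξ := by
    refine ⟨φf, hφS, conjFun φf, ⟨Cfsg.Agent.H23.isIrrCharacter_conjFun hφS.1, ?_⟩, ?_⟩
    · obtain ⟨-, k, hk, hne⟩ := hφS
      refine ⟨k, hk, fun h => hne ?_⟩
      have h2 : conj (φf k) = conj (φf 1) := h
      exact (starRingEnd ℂ).injective h2
    · intro h
      refine conj_ne_of_odd hoddN hφS.1 ?_ h.symm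
      intro h1
      obtain ⟨-, k, hk, hne⟩ := hφS
      apply hne
      rw [h1]
  obtain ⟨b, hb⟩ := Cfsg.Agent.S0853.result K hTI' hlt hC (tiSet K) rfl htwo star hstar hext
  obtain ⟨ε, hε, hεirr, hinj⟩ := tiSign K hTI' hlt hC star hstar hext htwo
  have hcardK' : Nat.card K' = Nat.card K :=
    Nat.card_congr (Subgroup.subgroupOfEquivOfLe (Subgroup.le_normalizer)).toEquiv
  have hsq := sum_dd_sq K' hf
  have hK2 : 1 < Nat.card K := Subgroup.one_lt_card_iff_ne_bot K |>.mpr hK1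
  have hidx2 : 2 ≤ (K').index := by
    have h1 := index_pos K'
    have h2 : (K').index ≠ 1 := by
      intro h
      rw [Subgroup.index_eq_one] at h
      obtain ⟨x, hx, hxK⟩ := SetLike.exists_of_lt hlt
      have : (⟨x, hx⟩ : ↥NK) ∈ K' := by rw [h]; trivial
      exact hxK (Subgroup.mem_subgroupOf.mp this)
    omega
  have hoddK : Odd (Nat.card K) := Odd.of_dvd_nat hodd (Subgroup.card_subgroup_dvd_card _)
  have hoddidx : Odd (K').index := by
    apply Odd.of_dvd_nat hoddN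
    exact Subgroup.index_dvd_card _
  set m := ∑ φ ∈ SF K', dd K' φ ^ 2 with hm
  have hm2 : Even m ∧ 2 ≤ m := by
    have h1 : (K').index * m + 1 = Nat.card K := by rw [hsq, hcardK']
    have h2 : Even ((K').index * m) := by
      by_contra h
      rw [Nat.not_even_iff_odd] at h
      have h3 := h.add_odd odd_one
      rw [h1] at h3
      exact (Nat.not_even_iff_odd.mpr hoddK) h3
    have h3 : Even m := (Nat.even_mul.mp h2).resolve_left (Nat.not_even_iff_odd.mpr hoddidx)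
    refine ⟨h3, ?_⟩
    have h4 : m ≠ 0 := by
      intro h
      rw [h] at h1
      omega
    obtain ⟨c, hc⟩ := h3
    omega
  set Af : G → ℂ := ε • star φf with hAf
  have hAirr : IsIrrCharacter G Af := hεirr φf hφS
  have hAeq : Af = star φf ∨ Af = -star φf := by
    rcases hε with rfl | rfl
    · left; simp [hAf]
    · right; simp [hAf]
  obtain ⟨f, hf1, hf0⟩ : ∃ f : ℤ, star φf 1 = f ∧ f ≠ 0 := by
    have h1 := one_eq_charDegree (isCharacter_of_irr hAirr)
    have h2 := irr_charDegree_pos hAirr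
    rcases hAeq with h | h
    · refine ⟨(charDegree Af : ℤ), ?_, by omega⟩
      rw [← h, h1]
      simp
    · refine ⟨-(charDegree Af : ℤ), ?_, by omega⟩
      have h3 : star φf 1 = -Af 1 := by
        rw [h]
        simp
      rw [h3, h1]
      simp
  refine ⟨(K').index, m, b, star φf, ⟨Af, hAirr⟩, f, ?_, ?_, hidx2, hm2.2, hm2.1, ?_, hAeq, hf1, hf0, ?_, ?_, ?_, ?_, ?_, ?_⟩
  · rw [← hcardK', ← hsq]
  · rw [← hcardK', Subgroup.card_mul_index]
  · exact tiPP_mem K hTI' hlt hC star hstar hext htwo hε hεirr h₀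
  · intro ψ hψ
    exact const_of_notMem_tiPP K hTI' hlt hC star hstar hext htwo hψ
  · intro ψ hψ
    exact tiPP_pair K hTI' hlt hC star hstar hext htwo hodd h₀ hd₀ hψ
  · intro h hh hh1 g hg
    have := sum_PP_on_off K hTI' hlt hC star hstar hext htwo hb h₀ hd₀ (h := ⟨h, Subgroup.le_normalizer hh⟩) hh
      (fun h2 => hh1 (congrArg Subtype.val h2)) hg
    exact this
  · intro g hg
    exact sum_PP_off K hTI' hlt hC star hstar hext htwo h₀ hd₀ hg
  · intro k hk hk1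
    have := sum_PP_on K hTI' hlt hC star hstar hext htwo hb (k := ⟨k, Subgroup.le_normalizer hk⟩) hk
      (fun h2 => hk1 (congrArg Subtype.val h2))
    exact this
  · exact sum_sharp_normSq K hC star hstar hext hb h₀ hd₀

end Pack

end Cfsg.Agent.H06
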