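import Cfsg.Agent.Lib.H06.CoherK2

/-!
# Several TI subgroups with Frobenius normalizers: orthogonality and parity
-/

set_option autoImplicit false
set_option linter.style.haveILetI false
set_option linter.unusedSectionVars false
set_option linter.unusedVariables false

namespace Cfsg.Agent.H06

open Cfsg Cfsg.Agent.H21 Cfsg.Agent.H04.TIF
open scoped ComplexConjugate

universe u

section Two

variable {G : Type u} [Group G] [Fintype G] (K₁ K₂ : Subgroup G)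

theorem order_dvd_of_conj_mem (K : Subgroup G) {g x : G} (h : x⁻¹ * g * x ∈ K) : orderOf g ∣ Nat.card K := by
  have h1 := orderOf_dvd_natCard (⟨_, h⟩ : K)
  rw [Subgroup.orderOf_mk] at h1
  have h2 : orderOf (x⁻¹ * g * x) = orderOf g := by
    have h3 := orderOf_injective (MulAut.conj x⁻¹).toMonoidHom (MulEquiv.injective _) g
    simpa [MulAut.conj_apply] using h3
  rwa [h2] at h1

theorem tiAvoid_of_mem (hcop : Nat.Coprime (Nat.card K₁) (Nat.card K₂)) {g : G} (hg : g ∈ K₂) :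
    tiAvoid K₁ g := by
  intro x hx
  have h1 := order_dvd_of_conj_mem K₁ hx
  have h2 : orderOf g ∣ Nat.card K₂ := by
    have := orderOf_dvd_natCard (⟨g, hg⟩ : K₂)
    rwa [Subgroup.orderOf_mk] at this
  have h3 := Nat.eq_one_of_dvd_coprimes hcop h1 h2
  rw [orderOf_eq_one_iff.mp h3]
  simp

theorem tiAvoid_or (hcop : Nat.Coprime (Nat.card K₁) (Nat.card K₂)) (g : G) :
    tiAvoid K₁ g ∨ tiAvoid K₂ g := by
  by_contra hcon
  push Not at hcon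
  obtain ⟨h1, h2⟩ := hcon
  simp only [tiAvoid] at h1 h2
  push Not at h1 h2
  obtain ⟨x, hx, hx1⟩ := h1
  obtain ⟨y, hy, hy1⟩ := h2
  have h3 := Nat.eq_one_of_dvd_coprimes hcop (order_dvd_of_conj_mem K₁ hx) (order_dvd_of_conj_mem K₂ hy)
  apply hx1
  rw [orderOf_eq_one_iff.mp h3]
  simp

variable [Fintype (IrrCharacter G)]

/-- No irreducible character is exceptional for two coprime TI subgroups. -/
theorem tiPP_disjoint (hcop : Nat.Coprime (Nat.card K₁) (Nat.card K₂))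
    (h₁ : ∀ ψ ∈ tiPP K₁, ∃ A ∈ tiPP K₁, A ≠ ψ ∧ ∀ g : G, tiAvoid K₁ g → (ψ : G → ℂ) g = (A : G → ℂ) g)
    (h₂ : ∀ ψ ∈ tiPP K₂, ∃ A ∈ tiPP K₂, A ≠ ψ ∧ ∀ g : G, tiAvoid K₂ g → (ψ : G → ℂ) g = (A : G → ℂ) g)
    {ψ : IrrCharacter G} (hψ₁ : ψ ∈ tiPP K₁) (hψ₂ : ψ ∈ tiPP K₂) : False := by
  classical
  obtain ⟨A₁, -, hne₁, hv₁⟩ := h₁ ψ hψ₁
  obtain ⟨A₂, -, hne₂, hv₂⟩ := h₂ ψ hψ₂
  have hne₁' : (A₁ : G → ℂ) ≠ (ψ : G → ℂ) := fun h => hne₁ (Subtype.ext h)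
  have hne₂' : (ψ : G → ℂ) ≠ (A₂ : G → ℂ) := fun h => hne₂ (Subtype.ext h).symm
  have h0 : classInner ((ψ : G → ℂ) - (A₁ : G → ℂ)) ((ψ : G → ℂ) - (A₂ : G → ℂ)) = 0 := by
    rw [classInner]
    apply mul_eq_zero_of_right
    apply Finset.sum_eq_zero
    intro g _
    rcases tiAvoid_or K₁ K₂ hcop g with h | h
    · simp [hv₁ g h]
    · simp [hv₂ g h]
  rw [classInner_sub_left', classInner_sub_right', classInner_sub_right', classInner_irr_self ψ.2,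
    classInner_irr_ne ψ.2 A₂.2 hne₂', classInner_irr_ne A₁.2 ψ.2 hne₁'] at h0
  by_cases h : (A₁ : G → ℂ) = A₂
  · rw [h, classInner_irr_self A₂.2] at h0
    norm_num at h0
  · rw [classInner_irr_ne A₁.2 A₂.2 h] at h0
    norm_num at h0

end Two

section Parity

variable {G : Type u} [Group G] [Fintype G] [Fintype (IrrCharacter G)]

/-- Complex conjugation on irreducible characters. -/
noncomputable def irrConj (ψ : IrrCharacter G) : IrrCharacter G :=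
  ⟨conjFun (ψ : G → ℂ), Cfsg.Agent.H23.isIrrCharacter_conjFun ψ.2⟩

omit [Fintype (IrrCharacter G)] in
theorem irrConj_apply (ψ : IrrCharacter G) (g : G) : (irrConj ψ : G → ℂ) g = conj ((ψ : G → ℂ) g) := rfl

omit [Fintype (IrrCharacter G)] in
theorem irrConj_irrConj (ψ : IrrCharacter G) : irrConj (irrConj ψ) = ψ := by
  apply Subtype.ext
  funext g
  rw [irrConj_apply, irrConj_apply, Complex.conj_conj]

/-- The principal character. -/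
def irrOne : IrrCharacter G := ⟨fun _ => 1, isIrrCharacter_one⟩

omit [Fintype (IrrCharacter G)] in
theorem irrConj_ne (hodd : Odd (Nat.card G)) {ψ : IrrCharacter G} (hψ : ψ ≠ irrOne) : irrConj ψ ≠ ψ := by
  intro h
  have h1 : conjFun (ψ : G → ℂ) = ψ := congrArg Subtype.val h
  exact conj_ne_of_odd hodd ψ.2 (fun h2 => hψ (Subtype.ext h2)) h1

omit [Fintype (IrrCharacter G)] in
theorem sum_conj_odd (hodd : Odd (Nat.card G)) (Q : Finset (IrrCharacter G)) (h1 : irrOne ∈ Q)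
    (hQ : ∀ ψ ∈ Q, irrConj ψ ∈ Q) (g : IrrCharacter G → ℤ) (hg : ∀ ψ ∈ Q, g (irrConj ψ) = g ψ)
    (hg1 : g irrOne = 1) : Odd (∑ ψ ∈ Q, g ψ) := by
  classical
  rw [← Finset.add_sum_erase _ _ h1, hg1, add_comm]
  apply Even.add_one
  rw [← ZMod.intCast_eq_zero_iff_even]
  push_cast
  refine Finset.sum_involution (fun ψ _ => irrConj ψ) ?_ ?_ ?_ ?_
  · intro ψ hψ
    rw [hg ψ (Finset.mem_of_mem_erase hψ)]
    exact CharTwo.add_self_eq_zero _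
  · intro ψ hψ _
    exact irrConj_ne hodd (Finset.ne_of_mem_erase hψ)
  · intro ψ hψ
    refine Finset.mem_erase.mpr ⟨?_, hQ ψ (Finset.mem_of_mem_erase hψ)⟩
    intro h
    have h2 := irrConj_irrConj ψ
    rw [h] at h2
    have h3 : irrConj (irrOne : IrrCharacter G) = irrOne := by
      apply Subtype.ext
      funext x
      rw [irrConj_apply]
      simp [irrOne]
    rw [h3] at h2
    exact (Finset.ne_of_mem_erase hψ) h2.symm
  · intro ψ _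
    exact irrConj_irrConj ψ

theorem irrConj_mem_tiPP (K : Subgroup G) {ψ : IrrCharacter G} : irrConj ψ ∈ tiPP K ↔ ψ ∈ tiPP K := by
  rw [mem_tiPP, mem_tiPP]
  constructor
  · rintro ⟨a, ha, b, hb, ha1, hb1, hne⟩
    refine ⟨a, ha, b, hb, ha1, hb1, fun h => hne ?_⟩
    rw [irrConj_apply, irrConj_apply, h]
  · rintro ⟨a, ha, b, hb, ha1, hb1, hne⟩
    refine ⟨a, ha, b, hb, ha1, hb1, fun h => hne ?_⟩
    rw [irrConj_apply, irrConj_apply] at h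
    exact (starRingEnd ℂ).injective h

theorem irrOne_notMem_tiPP (K : Subgroup G) : (irrOne : IrrCharacter G) ∉ tiPP K := by
  rw [mem_tiPP]
  rintro ⟨a, ha, b, hb, ha1, hb1, hne⟩
  exact hne rfl

/-- The parity relation between two coprime TI subgroups. -/
theorem ti_parity (hodd : Odd (Nat.card G)) (K₁ K₂ : Subgroup G)
    (hdisj : ∀ ψ : IrrCharacter G, ψ ∈ tiPP K₁ → ψ ∈ tiPP K₂ → False)
    (hcop : Nat.Coprime (Nat.card K₁) (Nat.card K₂))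
    (const₁ : ∀ ψ : IrrCharacter G, ψ ∉ tiPP K₁ → ∃ n : ℤ, ∀ k ∈ K₁, k ≠ 1 → (ψ : G → ℂ) k = n)
    (const₂ : ∀ ψ : IrrCharacter G, ψ ∉ tiPP K₂ → ∃ n : ℤ, ∀ k ∈ K₂, k ≠ 1 → (ψ : G → ℂ) k = n)
    {c₁ c₂ w₁ w₂ : ℤ} {W₁ W₂ : G → ℂ}
    (s₁ : ∀ h ∈ K₁, h ≠ 1 → ∀ g : G, tiAvoid K₁ g →
        ∑ ψ ∈ tiPP K₁, (ψ : G → ℂ) h * conj ((ψ : G → ℂ) g) = (c₁ : ℂ) * conj (W₁ g))
    (s₂ : ∀ h ∈ K₂, h ≠ 1 → ∀ g : G, tiAvoid K₂ g →
        ∑ ψ ∈ tiPP K₂, (ψ : G → ℂ) h * conj ((ψ : G → ℂ) g) = (c₂ : ℂ) * conj (W₂ g))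
    (hw₁ : ∀ k ∈ K₂, k ≠ 1 → W₁ k = w₁) (hw₂ : ∀ k ∈ K₁, k ≠ 1 → W₂ k = w₂)
    {h₀ k₀ : G} (hh₀ : h₀ ∈ K₁) (hh₀1 : h₀ ≠ 1) (hk₀ : k₀ ∈ K₂) (hk₀1 : k₀ ≠ 1) :
    ∃ d : ℤ, Odd d ∧ c₁ * w₁ + c₂ * w₂ + d = 0 := by
  classical
  -- non-conjugate
  have hnc : ¬ IsConj h₀ k₀ := by
    intro hc
    obtain ⟨x, hx⟩ := isConj_iff.mp hc
    have h1 : x⁻¹ * k₀ * x ∈ K₁ := by
      rw [← hx]
      simpa [mul_assoc] using hh₀
    have h2 := tiAvoid_of_mem K₁ K₂ hcop hk₀ x h1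
    apply hh₀1
    rw [← hx] at h2
    simpa [mul_assoc] using h2
  have hcol := column_orthogonality_of_not_isConj hnc
  -- the integer values
  have ha : ∀ ψ : IrrCharacter G, ∃ n : ℤ, ψ ∉ tiPP K₁ → (ψ : G → ℂ) h₀ = n := by
    intro ψ
    by_cases hψ : ψ ∈ tiPP K₁
    · exact ⟨0, fun h => absurd hψ h⟩
    · obtain ⟨n, hn⟩ := const₁ ψ hψ
      exact ⟨n, fun _ => hn h₀ hh₀ hh₀1⟩
  have hc : ∀ ψ : IrrCharacter G, ∃ n : ℤ, ψ ∉ tiPP K₂ → (ψ : G → ℂ) k₀ = n := by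
    intro ψ
    by_cases hψ : ψ ∈ tiPP K₂
    · exact ⟨0, fun h => absurd hψ h⟩
    · obtain ⟨n, hn⟩ := const₂ ψ hψ
      exact ⟨n, fun _ => hn k₀ hk₀ hk₀1⟩
  choose a ha using ha
  choose c hc using hc
  set Q : Finset (IrrCharacter G) := Finset.univ \ (tiPP K₁ ∪ tiPP K₂) with hQ
  have hQmem : ∀ {ψ}, ψ ∈ Q ↔ ψ ∉ tiPP K₁ ∧ ψ ∉ tiPP K₂ := by
    intro ψ
    simp [hQ]
  have hdj : Disjoint (tiPP K₁) (tiPP K₂) := by
    rw [Finset.disjoint_left]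
    intro ψ h1 h2
    exact hdisj ψ h1 h2
  have hsplit : ∑ ψ : IrrCharacter G, (ψ : G → ℂ) h₀ * conj ((ψ : G → ℂ) k₀) =
      ∑ ψ ∈ tiPP K₁, (ψ : G → ℂ) h₀ * conj ((ψ : G → ℂ) k₀) +
        ∑ ψ ∈ tiPP K₂, (ψ : G → ℂ) h₀ * conj ((ψ : G → ℂ) k₀) +
        ∑ ψ ∈ Q, (ψ : G → ℂ) h₀ * conj ((ψ : G → ℂ) k₀) := by
    rw [← Finset.sum_union hdj, add_comm, hQ, Finset.sum_sdiff (Finset.subset_univ _)]
  have e₁ : ∑ ψ ∈ tiPP K₁, (ψ : G → ℂ) h₀ * conj ((ψ : G → ℂ) k₀) = (c₁ : ℂ) * (w₁ : ℂ) := by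
    rw [s₁ h₀ hh₀ hh₀1 k₀ (tiAvoid_of_mem K₁ K₂ hcop hk₀), hw₁ k₀ hk₀ hk₀1, map_intCast]
  have e₂ : ∑ ψ ∈ tiPP K₂, (ψ : G → ℂ) h₀ * conj ((ψ : G → ℂ) k₀) = (c₂ : ℂ) * (w₂ : ℂ) := by
    have h1 := s₂ k₀ hk₀ hk₀1 h₀ (tiAvoid_of_mem K₂ K₁ hcop.symm hh₀)
    have h2 := congrArg (starRingEnd ℂ) h1
    rw [map_sum] at h2
    simp only [map_mul, Complex.conj_conj, map_intCast] at h2
    rw [hw₂ h₀ hh₀ hh₀1] at h2
    rw [← h2]
    refine Finset.sum_congr rfl fun ψ _ => ?_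
    ring
  have e₃ : ∑ ψ ∈ Q, (ψ : G → ℂ) h₀ * conj ((ψ : G → ℂ) k₀) = ((∑ ψ ∈ Q, a ψ * c ψ : ℤ) : ℂ) := by
    push_cast
    refine Finset.sum_congr rfl fun ψ hψ => ?_
    obtain ⟨h1, h2⟩ := hQmem.mp hψ
    rw [ha ψ h1, hc ψ h2, map_intCast]
  rw [hsplit, e₁, e₂, e₃] at hcol
  refine ⟨∑ ψ ∈ Q, a ψ * c ψ, ?_, by exact_mod_cast hcol⟩
  -- parity
  have hone₁ := irrOne_notMem_tiPP (G := G) K₁
  have hone₂ := irrOne_notMem_tiPP (G := G) K₂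
  have hconjval : ∀ ψ : IrrCharacter G, ∀ (n m : ℤ) (x : G), (ψ : G → ℂ) x = n → (irrConj ψ : G → ℂ) x = m → n = m := by
    intro ψ n m x h1 h2
    rw [irrConj_apply, h1, map_intCast] at h2
    exact_mod_cast h2
  apply sum_conj_odd hodd Q (hQmem.mpr ⟨hone₁, hone₂⟩)
  · intro ψ hψ
    obtain ⟨h1, h2⟩ := hQmem.mp hψ
    exact hQmem.mpr ⟨fun h => h1 ((irrConj_mem_tiPP K₁).mp h), fun h => h2 ((irrConj_mem_tiPP K₂).mp h)⟩
  · intro ψ hψ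
    obtain ⟨h1, h2⟩ := hQmem.mp hψ
    have h3 : irrConj ψ ∉ tiPP K₁ := fun h => h1 ((irrConj_mem_tiPP K₁).mp h)
    have h4 : irrConj ψ ∉ tiPP K₂ := fun h => h2 ((irrConj_mem_tiPP K₂).mp h)
    rw [← hconjval ψ _ _ h₀ (ha ψ h1) (ha _ h3), ← hconjval ψ _ _ k₀ (hc ψ h2) (hc _ h4)]
  · have h1 := ha irrOne hone₁
    have h2 := hc irrOne hone₂
    have h3 : a irrOne = 1 := by
      have : ((1 : ℤ) : ℂ) = (a irrOne : ℂ) := by
        rw [← h1]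
        simp [irrOne]
      exact_mod_cast this.symm
    have h4 : c irrOne = 1 := by
      have : ((1 : ℤ) : ℂ) = (c irrOne : ℂ) := by
        rw [← h2]
        simp [irrOne]
      exact_mod_cast this.symm
    rw [h3, h4]
    norm_num

end Parity

end Cfsg.Agent.H06
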