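import Cfsg.Agent.Lib.H03.Metacyclic
import Cfsg.Agent.Lib.H18.MC
import Cfsg.Agent.Lib.H06.Nilp
import Cfsg.Prelude.Def_OddOrderLocal
import Cfsg.Agent.Lib.H01.Coprime
import Cfsg.Agent.Lib.H01.CoprimeAb
import Cfsg.Agent.Lib.H13.Basic

/-! Coprime action on metacyclic `p`-groups, `p` odd (helper6). -/

set_option autoImplicit false

namespace Cfsg.Agent.H06.Meta

open Cfsg
open scoped commutatorElement

universe u v

/-- Power formula for central commutators. -/
theorem mul_pow_central {Q : Type u} [Group Q] {x y s : Q} (hs : ∀ g, s * g = g * s) (h : y * x = x * y * s)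
    (n : ℕ) : (x * y) ^ n = x ^ n * y ^ n * s ^ n.choose 2 := by
  have hy : ∀ k : ℕ, y ^ k * x = x * y ^ k * s ^ k := by
    intro k
    induction k with
    | zero => simp
    | succ k ih =>
      calc y ^ (k + 1) * x = y ^ k * (y * x) := by rw [pow_succ]; group
        _ = y ^ k * (x * y * s) := by rw [h]
        _ = (y ^ k * x) * y * s := by group
        _ = x * y ^ k * s ^ k * y * s := by rw [ih]
        _ = x * y ^ k * (s ^ k * y) * s := by group
        _ = x * y ^ k * (y * s ^ k) * s := by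
            rw [((Commute.pow_left (show Commute s y from hs y) k)).eq]
        _ = x * y ^ (k + 1) * s ^ (k + 1) := by
            rw [pow_succ y k, pow_succ s k]; group
  induction n with
  | zero => simp
  | succ n ih =>
    have hch : (n + 1).choose 2 = n + n.choose 2 := by
      rw [Nat.choose_succ_succ' n 1, Nat.choose_one_right]
    have hsc : ∀ k : ℕ, ∀ g, s ^ k * g = g * s ^ k := fun k g =>
      (Commute.pow_left (show Commute s g from hs g) k).eq
    calc (x * y) ^ (n + 1) = (x * y) ^ n * (x * y) := pow_succ _ _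
      _ = x ^ n * y ^ n * s ^ n.choose 2 * (x * y) := by rw [ih]
      _ = x ^ n * y ^ n * (s ^ n.choose 2 * x) * y := by group
      _ = x ^ n * y ^ n * (x * s ^ n.choose 2) * y := by rw [hsc]
      _ = x ^ n * (y ^ n * x) * (s ^ n.choose 2 * y) := by group
      _ = x ^ n * (x * y ^ n * s ^ n) * (y * s ^ n.choose 2) := by rw [hy, hsc]
      _ = x ^ n * x * y ^ n * (s ^ n * y) * s ^ n.choose 2 := by group
      _ = x ^ n * x * y ^ n * (y * s ^ n) * s ^ n.choose 2 := by rw [hsc]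
      _ = x ^ (n + 1) * y ^ (n + 1) * s ^ (n + 1).choose 2 := by
          rw [pow_succ x n, pow_succ y n, hch, pow_add s]; group

section class2

variable {Q : Type u} [Group Q] {c : Q} (hc : ∀ g, c * g = g * c)
  (hZ : ∀ x y : Q, ⁅x, y⁆ ∈ Subgroup.zpowers c)

include hc hZ

theorem comm_central (x y g : Q) : ⁅x, y⁆ * g = g * ⁅x, y⁆ := by
  obtain ⟨k, hk⟩ := Subgroup.mem_zpowers_iff.mp (hZ x y)
  rw [← hk]
  exact (Commute.zpow_left (show Commute c g from hc g) k).eq

theorem comm_mul_left (x x' y : Q) : ⁅x * x', y⁆ = ⁅x, y⁆ * ⁅x', y⁆ := by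
  have h1 := comm_central hc hZ x' y (y * x⁻¹ * y⁻¹)
  rw [commutatorElement_def, commutatorElement_def, commutatorElement_def] at *
  calc x * x' * y * (x * x')⁻¹ * y⁻¹ = x * (x' * y * x'⁻¹ * y⁻¹) * (y * x⁻¹ * y⁻¹) := by group
    _ = x * (x' * y * x'⁻¹ * y⁻¹ * (y * x⁻¹ * y⁻¹)) := by group
    _ = x * (y * x⁻¹ * y⁻¹ * (x' * y * x'⁻¹ * y⁻¹)) := by rw [h1]
    _ = _ := by group

theorem comm_mul_right (x y y' : Q) : ⁅x, y * y'⁆ = ⁅x, y⁆ * ⁅x, y'⁆ := by
  have h1 := comm_central hc hZ x y' (y * x⁻¹ * y⁻¹)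
  have h2 := comm_central hc hZ x y y
  rw [commutatorElement_def, commutatorElement_def, commutatorElement_def] at *
  have h3 : y * (x * y' * x⁻¹ * y'⁻¹) * y⁻¹ = x * y' * x⁻¹ * y'⁻¹ := by
    have h4 := comm_central hc hZ x y' y
    rw [commutatorElement_def] at h4
    rw [← h4]
    group
  calc x * (y * y') * x⁻¹ * (y * y')⁻¹
      = x * y * x⁻¹ * y⁻¹ * (y * (x * y' * x⁻¹ * y'⁻¹) * y⁻¹) := by group
    _ = _ := by rw [h3]

theorem comm_one_left (y : Q) : ⁅(1 : Q), y⁆ = 1 := by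
  rw [commutatorElement_def]; group

theorem comm_pow_left (x y : Q) (k : ℕ) : ⁅x ^ k, y⁆ = ⁅x, y⁆ ^ k := by
  induction k with
  | zero => simp [commutatorElement_def]
  | succ k ih =>
    rw [pow_succ, comm_mul_left hc hZ, ih, pow_succ]

theorem comm_pow_right (x y : Q) (k : ℕ) : ⁅x, y ^ k⁆ = ⁅x, y⁆ ^ k := by
  induction k with
  | zero => simp [commutatorElement_def]
  | succ k ih =>
    rw [pow_succ, comm_mul_right hc hZ, ih, pow_succ]

theorem comm_inv_right (x y : Q) : ⁅x, y⁻¹⁆ = ⁅x, y⁆⁻¹ := by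
  have h := comm_mul_right hc hZ x y y⁻¹
  rw [mul_inv_cancel] at h
  have h1 : ⁅x, (1 : Q)⁆ = 1 := by simp [commutatorElement_def]
  rw [h1] at h
  exact (inv_eq_of_mul_eq_one_right h.symm).symm

theorem comm_eq_of_mul_inv (x y y' : Q) : ⁅x, y * y'⁻¹⁆ = ⁅x, y⁆ * ⁅x, y'⁆⁻¹ := by
  rw [comm_mul_right hc hZ, comm_inv_right hc hZ]

/-- `p`-th power maps are homomorphisms. -/
theorem pow_hom {p : ℕ} [Fact p.Prime] (hp2 : p ≠ 2) (hcp : c ^ p = 1) (k : ℕ) (x y : Q) :
    (x * y) ^ p ^ k = x ^ p ^ k * y ^ p ^ k := by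
  rcases Nat.eq_zero_or_pos k with rfl | hk
  · simp
  set s := ⁅y⁻¹, x⁻¹⁆ with hs
  have hsc : ∀ g, s * g = g * s := comm_central hc hZ _ _
  have hxy : y * x = x * y * s := by
    rw [hs, commutatorElement_def]
    group
  rw [mul_pow_central hsc hxy]
  have hsp : s ^ p = 1 := by
    obtain ⟨i, hi⟩ := Subgroup.mem_zpowers_iff.mp (hZ y⁻¹ x⁻¹)
    rw [hs, ← hi, ← zpow_natCast, ← zpow_mul, mul_comm, zpow_mul, zpow_natCast, hcp, one_zpow]
  have hp : p.Prime := Fact.out
  have hd : p ∣ (p ^ k).choose 2 := by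
    have h1 : (p ^ k).choose 2 * 2 = p ^ k * (p ^ k - 1) := by
      rw [Nat.choose_two_right]
      exact Nat.div_mul_cancel (Nat.even_mul_pred_self _).two_dvd
    have h2 : p ∣ (p ^ k).choose 2 * 2 := by
      rw [h1]
      exact Dvd.dvd.mul_right (dvd_pow_self p hk.ne') _
    rcases (Nat.Prime.dvd_mul hp).mp h2 with h3 | h3
    · exact h3
    · exact absurd ((Nat.prime_dvd_prime_iff_eq hp Nat.prime_two).mp h3) hp2
  obtain ⟨w, hw⟩ := hd
  rw [hw, pow_mul, hsp, one_pow, mul_one]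

end class2

section core

variable {p : ℕ} [hp : Fact p.Prime] {Q : Type u} [Group Q] [Finite Q]

/-- The power homomorphism. -/
def pw (hpow : ∀ (k : ℕ) (x y : Q), (x * y) ^ p ^ k = x ^ p ^ k * y ^ p ^ k) (k : ℕ) : Q →* Q :=
  MonoidHom.mk' (fun x => x ^ p ^ k) (hpow k)

theorem pw_apply (hpow : ∀ (k : ℕ) (x y : Q), (x * y) ^ p ^ k = x ^ p ^ k * y ^ p ^ k) (k : ℕ) (x : Q) :
    pw hpow k x = x ^ p ^ k := rfl

/-- A metacyclic `p`-group with derived subgroup of order `p` admits no automorphism group of coprime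
order with `[Q, A] = Q`. -/
theorem core (hp2 : p ≠ 2) (hQ : IsPGroup p Q) (hm : IsMetacyclic Q) (hcard : Nat.card (commutator Q) = p)
    {𝒜 : Type v} [Group 𝒜] [Finite 𝒜] (ρ : 𝒜 →* MulAut Q) (hcop : (Nat.card 𝒜).Coprime p)
    (hgen : Subgroup.closure {x | ∃ (a : 𝒜) (y : Q), x = ρ a y * y⁻¹} = ⊤) : False := by
  classical
  have hpp : p.Prime := hp.out
  haveI : Fact (Nat.card (commutator Q)).Prime := ⟨by rw [hcard]; exact hpp⟩
  haveI : IsCyclic (commutator Q) := isCyclic_of_prime_card rfl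
  obtain ⟨⟨c, hcQ⟩, hgenc⟩ := IsCyclic.exists_generator (α := commutator Q)
  have hzc : commutator Q = Subgroup.zpowers c := by
    apply le_antisymm
    · intro x hx
      obtain ⟨k, hk⟩ := Subgroup.mem_zpowers_iff.mp (hgenc ⟨x, hx⟩)
      refine Subgroup.mem_zpowers_iff.mpr ⟨k, ?_⟩
      exact congrArg Subtype.val hk
    · exact Subgroup.zpowers_le.mpr hcQ
  have hco : orderOf c = p := by
    rw [← Nat.card_zpowers, ← hzc, hcard]
  have hcp : c ^ p = 1 := by
    rw [← hco]
    exact pow_orderOf_eq_one c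
  have hc1 : c ≠ 1 := by
    intro h
    rw [h, orderOf_one] at hco
    exact hpp.one_lt.ne hco
  haveI : Group.IsNilpotent Q := hQ.isNilpotent
  have hNne : commutator Q ≠ ⊥ := by
    intro hb
    rw [hb, Subgroup.card_bot] at hcard
    exact hpp.one_lt.ne hcard
  obtain ⟨w, hwN, hw1, hwZ⟩ := exists_central_of_normal (N := commutator Q) inferInstance hNne
  have hcw : c ∈ Subgroup.zpowers w := by
    have hw' : w ∈ Subgroup.zpowers c := by
      rw [← hzc]
      exact hwN
    have hd : orderOf w ∣ p := by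
      rw [← hco]
      exact orderOf_dvd_of_mem_zpowers hw'
    have hwo : orderOf w = p := by
      rcases (Nat.dvd_prime hpp).mp hd with h | h
      · exact absurd (orderOf_eq_one_iff.mp h) hw1
      · exact h
    have h1 : Subgroup.zpowers w = Subgroup.zpowers c :=
      Subgroup.eq_of_le_of_card_ge (Subgroup.zpowers_le.mpr hw')
        (by rw [Nat.card_zpowers, Nat.card_zpowers, hwo, hco])
    rw [h1]
    exact Subgroup.mem_zpowers c
  have hc : ∀ g, c * g = g * c := by
    intro g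
    obtain ⟨k, hk⟩ := Subgroup.mem_zpowers_iff.mp hcw
    rw [← hk]
    have h1 : Commute w g := by
      exact ((Subgroup.mem_center_iff.mp hwZ) g).symm
    exact (h1.zpow_left k).eq
  have hZ : ∀ x y : Q, ⁅x, y⁆ ∈ Subgroup.zpowers c := by
    intro x y
    rw [← hzc]
    exact Subgroup.commutator_mem_commutator (Subgroup.mem_top x) (Subgroup.mem_top y)
  have hzp : ∀ z ∈ Subgroup.zpowers c, z ^ p = 1 := by
    intro z hz
    obtain ⟨i, rfl⟩ := Subgroup.mem_zpowers_iff.mp hz
    rw [← zpow_natCast, ← zpow_mul, mul_comm, zpow_mul, zpow_natCast, hcp, one_zpow]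
  have hpow : ∀ (k : ℕ) (x y : Q), (x * y) ^ p ^ k = x ^ p ^ k * y ^ p ^ k :=
    pow_hom hc hZ hp2 hcp
  have hnc : ¬ IsCyclic Q := by
    intro hcyc
    haveI := hcyc
    have h1 : ∀ x y : Q, x * y = y * x := fun x y => mul_comm' x y
    apply hNne
    rw [eq_bot_iff, commutator_def, Subgroup.commutator_le]
    intro x _ y _
    rw [commutatorElement_eq_one_iff_mul_comm.mpr (h1 x y)]
    exact Subgroup.one_mem _
  -- the Frattini subgroup
  set F : Subgroup Q := (pw hpow 1).range with hFdef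
  have hFmem : ∀ z : Q, z ^ p ∈ F := by
    intro z
    refine ⟨z, ?_⟩
    rw [pw_apply, pow_one]
  have hFmem' : ∀ f ∈ F, ∃ z : Q, z ^ p = f := by
    rintro f ⟨z, rfl⟩
    exact ⟨z, by rw [pw_apply, pow_one]⟩
  have hFc : ∀ f ∈ F, ∀ g : Q, f * g = g * f := by
    intro f hf g
    obtain ⟨z, rfl⟩ := hFmem' f hf
    have h1 : ⁅z ^ p, g⁆ = 1 := by
      rw [comm_pow_left hc hZ, hzp _ (hZ z g)]
    exact commutatorElement_eq_one_iff_mul_comm.mp h1
  -- index of `F`
  have hkerΩ : (pw hpow 1).ker = omegaOne p (⊤ : Subgroup Q) := by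
    apply le_antisymm
    · intro x hx
      apply Subgroup.subset_closure
      refine ⟨Subgroup.mem_top x, ?_⟩
      have h1 : pw hpow 1 x = 1 := hx
      rwa [pw_apply, pow_one] at h1
    · rw [omegaOne, Subgroup.closure_le]
      rintro x ⟨_, hx⟩
      show pw hpow 1 x = 1
      rw [pw_apply, pow_one]
      exact hx
  have hkerc : Nat.card (pw hpow 1).ker = p ^ 2 := by
    rw [hkerΩ]
    exact (H03.metacyclic_omegaOne hp2 hQ hm hnc).2
  have hFidx : F.index = p ^ 2 := by
    have h1 := Subgroup.card_mul_index (pw hpow 1).ker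
    rw [Subgroup.index_ker] at h1
    have h2 := Subgroup.card_mul_index F
    rw [← hkerc]
    have h4 : 0 < Nat.card F := Nat.card_pos
    rw [mul_comm] at h1
    exact Nat.eq_of_mul_eq_mul_left h4 (h2.trans h1.symm)
  have hcenidx : (Subgroup.center Q).index = p ^ 2 := by
    obtain ⟨D⟩ := H18.exists_mc hQ hm
    rw [D.index_center hp2]
    have h1 := D.card_commutator hp2
    rw [hcard] at h1
    have hn : D.n = 1 := by
      have h2 : p ^ 1 = p ^ D.n := by rw [pow_one]; exact h1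
      exact (Nat.pow_right_injective hpp.two_le h2).symm
    rw [hn]
  have hFle : F ≤ Subgroup.center Q := by
    intro f hf
    rw [Subgroup.mem_center_iff]
    intro g
    exact (hFc f hf g).symm
  have hFeq : F = Subgroup.center Q := by
    apply Subgroup.eq_of_le_of_card_ge hFle
    have h1 := Subgroup.card_mul_index F
    have h2 := Subgroup.card_mul_index (Subgroup.center Q)
    rw [hFidx] at h1
    rw [hcenidx] at h2
    have h3 : Nat.card F * p ^ 2 = Nat.card (Subgroup.center Q) * p ^ 2 := h1.trans h2.symm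
    exact (Nat.eq_of_mul_eq_mul_right (pow_pos hpp.pos 2) h3).ge
  have hFZ : ∀ x : Q, (∀ g : Q, x * g = g * x) → x ∈ F := by
    intro x hx
    rw [hFeq, Subgroup.mem_center_iff]
    intro g
    exact (hx g).symm
  -- `c` is a `p`-th power
  have hcF : c ∈ F := by
    obtain ⟨N, hNn, hNc, hqc⟩ := hm
    haveI := hNn
    haveI := hqc
    have hcN : c ∈ N := by
      have h1 : commutator Q ≤ N := by
        rw [commutator_def, Subgroup.commutator_le]
        intro x _ y _
        rw [← QuotientGroup.eq_one_iff]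
        have h2 : (((x * y * x⁻¹ * y⁻¹ : Q)) : Q ⧸ N) = (x : Q ⧸ N) * y * (x : Q ⧸ N)⁻¹ * (y : Q ⧸ N)⁻¹ := rfl
        show ((x * y * x⁻¹ * y⁻¹ : Q) : Q ⧸ N) = 1
        rw [h2, mul_comm' (x : Q ⧸ N) (y : Q ⧸ N)]
        group
      exact h1 hcQ
    obtain ⟨⟨g, hgN⟩, hg⟩ := hNc.exists_generator
    have hNg : N = Subgroup.zpowers g := by
      apply le_antisymm
      · intro x hx
        obtain ⟨k, hk⟩ := Subgroup.mem_zpowers_iff.mp (hg ⟨x, hx⟩)
        refine Subgroup.mem_zpowers_iff.mpr ⟨k, ?_⟩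
        exact congrArg Subtype.val hk
      · exact Subgroup.zpowers_le.mpr hgN
    have hcg : c ∈ Subgroup.zpowers g := by
      rw [← hNg]
      exact hcN
    obtain ⟨m, hm'⟩ := IsPGroup.iff_orderOf.mp hQ g
    have hm2 : 2 ≤ m := by
      by_contra hlt
      push_neg at hlt
      have hd : orderOf g ∣ p := by
        rw [hm']
        have h5 : m ≤ 1 := by omega
        calc p ^ m ∣ p ^ 1 := pow_dvd_pow p h5
          _ = p := pow_one p
      have h1 : orderOf c ∣ orderOf g := orderOf_dvd_of_mem_zpowers hcg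
      rw [hco] at h1
      have h2 : orderOf g = p := Nat.dvd_antisymm hd h1
      have h3 : Subgroup.zpowers c = Subgroup.zpowers g :=
        Subgroup.eq_of_le_of_card_ge (Subgroup.zpowers_le.mpr hcg)
          (by rw [Nat.card_zpowers, Nat.card_zpowers, h2, hco])
      have hNcen : N ≤ Subgroup.center Q := by
        rw [hNg, ← h3, Subgroup.zpowers_le, Subgroup.mem_center_iff]
        intro g'
        exact (hc g').symm
      have h4 : ∀ x y : Q, x * y = y * x :=
        commutative_of_cyclic_center_quotient (QuotientGroup.mk' N)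
          (by rw [QuotientGroup.ker_mk']; exact hNcen)
      apply hNne
      rw [eq_bot_iff, commutator_def, Subgroup.commutator_le]
      intro x _ y _
      rw [commutatorElement_eq_one_iff_mul_comm.mpr (h4 x y)]
      exact Subgroup.one_mem _
    obtain ⟨i, hi⟩ := (mem_powers_iff_mem_zpowers (x := g) (y := c)).mpr hcg
    have hi' : g ^ i = c := hi
    have hdvd : p ^ m ∣ i * p := by
      rw [← hm']
      apply orderOf_dvd_of_pow_eq_one
      rw [pow_mul, hi', hcp]
    have hpi : p ∣ i := by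
      obtain ⟨m', rfl⟩ : ∃ m', m = m' + 2 := ⟨m - 2, by omega⟩
      have h1 : p ^ (m' + 1) * p ∣ i * p := by
        rw [← pow_succ]
        exact hdvd
      have h2 : p ^ (m' + 1) ∣ i := Nat.dvd_of_mul_dvd_mul_right hpp.pos h1
      exact (dvd_pow_self p (Nat.succ_ne_zero m')).trans h2
    obtain ⟨k, rfl⟩ := hpi
    rw [← hi', mul_comm, pow_mul]
    exact hFmem _
  -- the largest `t` with `c` a `p^t`-th power
  have hex : ∃ k, c ∉ (pw hpow k).range := by
    obtain ⟨n, hn⟩ := IsPGroup.iff_card.mp hQ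
    refine ⟨n, ?_⟩
    rintro ⟨z, hz⟩
    apply hc1
    rw [← hz, pw_apply, ← hn]
    exact pow_card_eq_one'
  have hk₀s : c ∉ (pw hpow (Nat.find hex)).range := Nat.find_spec hex
  have hk₀m : ∀ k, k < Nat.find hex → c ∈ (pw hpow k).range := fun k hk => by
    by_contra h
    exact Nat.find_min hex hk h
  have hk₀0 : Nat.find hex ≠ 0 := by
    intro h
    rw [h] at hk₀s
    apply hk₀s
    exact ⟨c, by rw [pw_apply, pow_zero, pow_one]⟩
  have hk₀1 : Nat.find hex ≠ 1 := by
    intro h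
    rw [h] at hk₀s
    exact hk₀s hcF
  obtain ⟨t, ht⟩ : ∃ t, Nat.find hex = t + 1 := ⟨Nat.find hex - 1, by omega⟩
  have ht1 : 1 ≤ t := by omega
  obtain ⟨y, hy⟩ := hk₀m t (by omega)
  rw [pw_apply] at hy
  have hnot : c ∉ (pw hpow (t + 1)).range := ht ▸ hk₀s
  have hyF : y ∉ F := by
    intro h
    obtain ⟨z, rfl⟩ := hFmem' y h
    apply hnot
    refine ⟨z, ?_⟩
    rw [pw_apply, pow_succ', pow_mul]
    exact hy
  set D : Subgroup Q := (pw hpow t).ker with hDdef
  have hDmem : ∀ x, x ∈ D ↔ x ^ p ^ t = 1 := fun x => by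
    rw [hDdef, MonoidHom.mem_ker, pw_apply]
  have hDρ : ∀ (a : 𝒜) (x : Q), x ∈ D → ρ a x ∈ D := by
    intro a x hx
    rw [hDmem] at *
    rw [← map_pow, hx, map_one]
  have hδ : ∀ a : 𝒜, ∃ δ : ℕ, ρ a c = c ^ δ ∧ ¬ p ∣ δ := by
    intro a
    have h1 : ρ a c ∈ commutator Q := by
      have h2 := (Subgroup.characteristic_iff_map_eq.mp
        (inferInstance : (commutator Q).Characteristic)) (ρ a)
      rw [← h2]
      exact Subgroup.mem_map_of_mem _ hcQ
    rw [hzc] at h1
    obtain ⟨δ, hδ⟩ := (mem_powers_iff_mem_zpowers (x := c) (y := ρ a c)).mpr h1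
    have hδ' : c ^ δ = ρ a c := hδ
    refine ⟨δ, hδ'.symm, ?_⟩
    rintro ⟨k, rfl⟩
    have h3 : ρ a c = 1 := by
      rw [← hδ', pow_mul, hcp, one_pow]
    exact hc1 ((map_eq_one_iff (ρ a) (ρ a).injective).mp h3)
  have hρz : ∀ (a : 𝒜) (δ : ℕ), ρ a c = c ^ δ → ∀ z ∈ Subgroup.zpowers c, ρ a z = z ^ δ := by
    intro a δ hd z hz
    obtain ⟨i, rfl⟩ := Subgroup.mem_zpowers_iff.mp hz
    rw [map_zpow, hd, ← zpow_natCast, ← zpow_natCast, ← zpow_mul, ← zpow_mul, mul_comm]
  have hkey : ∀ (a : 𝒜) (δ : ℕ), ρ a c = c ^ δ → ∀ d₁, ρ a y = y ^ δ * d₁ → ∀ w,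
      ⁅y, ρ a w⁆ ^ δ * ⁅d₁, ρ a w⁆ = ⁅y, w⁆ ^ δ := by
    intro a δ hd d₁ hd₁ w
    have h1 : ⁅ρ a y, ρ a w⁆ = ρ a ⁅y, w⁆ := (map_commutatorElement (ρ a) y w).symm
    rw [hρz a δ hd _ (hZ y w), hd₁, comm_mul_left hc hZ, comm_pow_left hc hZ] at h1
    exact h1
  have hpowinj : ∀ δ : ℕ, ¬ p ∣ δ → ∀ u v, u ∈ Subgroup.zpowers c → v ∈ Subgroup.zpowers c →
      u ^ δ = v ^ δ → u = v := by
    intro δ hd u v hu hv huv
    have h1 : u * v⁻¹ ∈ Subgroup.zpowers c := mul_mem hu (inv_mem hv)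
    have h2 : (u * v⁻¹) ^ p = 1 := hzp _ h1
    have hcomm : Commute u v⁻¹ := by
      obtain ⟨i, rfl⟩ := Subgroup.mem_zpowers_iff.mp hu
      obtain ⟨j, hj⟩ := Subgroup.mem_zpowers_iff.mp (inv_mem hv)
      rw [← hj]
      exact (Commute.refl c).zpow_zpow i j
    have h3 : (u * v⁻¹) ^ δ = 1 := by
      rw [hcomm.mul_pow, huv, inv_pow, mul_inv_cancel]
    have h4 := (pow_eq_one_iff_of_coprime ((Nat.Prime.coprime_iff_not_dvd hpp).mpr hd)).mp ⟨h2, h3⟩
    exact mul_inv_eq_one.mp h4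
  have hd₁ : ∀ (a : 𝒜) (δ : ℕ), ρ a c = c ^ δ → ∃ d₁ ∈ D, ρ a y = y ^ δ * d₁ := by
    intro a δ hd
    refine ⟨(y ^ δ)⁻¹ * ρ a y, ?_, by group⟩
    show pw hpow t _ = 1
    rw [map_mul, map_inv, pw_apply, pw_apply, ← map_pow, hy, hd, ← pow_mul, mul_comm, pow_mul, hy]
    group
  by_cases hDF : D ≤ F
  · -- `D ≤ F`: then `y` is central
    have hall : ∀ (a : 𝒜) (w : Q), ρ a w * w⁻¹ ∈ Subgroup.centralizer ({y} : Set Q) := by
      intro a w
      obtain ⟨δ, hd, hdp⟩ := hδ a
      obtain ⟨d₁, hd₁D, hd₁e⟩ := hd₁ a δ hd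
      have h1 := hkey a δ hd d₁ hd₁e w
      have h2 : ⁅d₁, ρ a w⁆ = 1 :=
        commutatorElement_eq_one_iff_mul_comm.mpr (hFc d₁ (hDF hd₁D) _)
      rw [h2, mul_one] at h1
      have h3 := hpowinj δ hdp _ _ (hZ _ _) (hZ _ _) h1
      have h4 : ⁅y, ρ a w * w⁻¹⁆ = 1 := by
        rw [comm_eq_of_mul_inv hc hZ, h3, mul_inv_cancel]
      rw [Subgroup.mem_centralizer_iff]
      intro u hu
      rw [Set.mem_singleton_iff.mp hu]
      exact commutatorElement_eq_one_iff_mul_comm.mp h4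
    have hcl : (⊤ : Subgroup Q) ≤ Subgroup.centralizer ({y} : Set Q) := by
      rw [← hgen, Subgroup.closure_le]
      rintro _ ⟨a, w, rfl⟩
      exact hall a w
    apply hyF
    apply hFZ
    intro g
    have h1 := hcl (Subgroup.mem_top g)
    rw [Subgroup.mem_centralizer_iff] at h1
    exact h1 y rfl
  · obtain ⟨d, hdD, hdF⟩ := SetLike.not_le_iff_exists.mp hDF
    have hFn : F.Normal := by
      constructor
      intro f hf g
      rw [← hFc f hf g]
      simpa using hf
    set D₁ : Subgroup Q := D ⊔ F with hD₁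
    have hD₁mem : ∀ x ∈ D₁, ∃ u ∈ D, ∃ f ∈ F, x = u * f := by
      intro x hx
      rw [← SetLike.mem_coe, hD₁, Subgroup.mul_normal, Set.mem_mul] at hx
      obtain ⟨u, hu, f, hf, rfl⟩ := hx
      exact ⟨u, hu, f, hf, rfl⟩
    have hyD₁ : y ∉ D₁ := by
      intro h
      obtain ⟨u, hu, f, hf, rfl⟩ := hD₁mem y h
      obtain ⟨z, rfl⟩ := hFmem' f hf
      apply hnot
      refine ⟨z, ?_⟩
      rw [hpow, (hDmem u).mp hu, one_mul, ← pow_mul, ← pow_succ'] at hy
      rw [pw_apply]
      exact hy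
    have hFD₁ : F ≤ D₁ := le_sup_right
    set B : Subgroup Q := Subgroup.zpowers d ⊔ F with hB
    have hBmem : ∀ x ∈ B, ∃ j : ℕ, ∃ f ∈ F, x = d ^ j * f := by
      intro x hx
      rw [← SetLike.mem_coe, hB, Subgroup.mul_normal, Set.mem_mul] at hx
      obtain ⟨u, hu, f, hf, rfl⟩ := hx
      obtain ⟨j, hj⟩ := (mem_powers_iff_mem_zpowers (x := d) (y := u)).mpr hu
      exact ⟨j, f, hf, by rw [← hj]⟩
    have hFB : F ≤ B := le_sup_right
    have hdB : d ∈ B := Subgroup.mem_sup_left (Subgroup.mem_zpowers d)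
    have hBD₁ : B ≤ D₁ := sup_le (Subgroup.zpowers_le.mpr (Subgroup.mem_sup_left hdD)) hFD₁
    have hidx : ∀ S : Subgroup Q, F ≤ S → d ∈ S → y ∉ S → S.index = p := by
      intro S hFS hdS hyS
      have h1 := Subgroup.relIndex_mul_index hFS
      rw [hFidx] at h1
      have h2 : S.index ∣ p ^ 2 := Dvd.intro_left _ h1
      obtain ⟨i, hi, hSi⟩ := (Nat.dvd_prime_pow hpp).mp h2
      rw [hSi] at h1
      have h3 : F.relIndex S * p ^ i = p ^ 2 := h1
      have hi0 : i ≠ 0 := by
        rintro rfl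
        rw [pow_zero, Subgroup.index_eq_one] at hSi
        exact hyS (hSi ▸ Subgroup.mem_top y)
      have hi2 : i ≠ 2 := by
        rintro rfl
        have h4 : F.relIndex S = 1 := by
          have : F.relIndex S * p ^ 2 = 1 * p ^ 2 := by rw [h3, one_mul]
          exact Nat.eq_of_mul_eq_mul_right (pow_pos hpp.pos 2) this
        rw [Subgroup.relIndex_eq_one] at h4
        exact hdF (h4 hdS)
      have hi1 : i = 1 := by omega
      rw [hSi, hi1, pow_one]
    have hBidx : B.index = p := hidx B hFB hdB (fun h => hyD₁ (hBD₁ h))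
    have hD₁idx : D₁.index = p := hidx D₁ hFD₁ (hBD₁ hdB) hyD₁
    have hD₁B : D₁ ≤ B := by
      have h1 := Subgroup.relIndex_mul_index hBD₁
      rw [hBidx, hD₁idx] at h1
      have h2 : B.relIndex D₁ = 1 := by
        have : B.relIndex D₁ * p = 1 * p := by rw [h1, one_mul]
        exact Nat.eq_of_mul_eq_mul_right hpp.pos this
      exact Subgroup.relIndex_eq_one.mp h2
    have hDB : D ≤ B := le_trans le_sup_left hD₁B
    have hBab : ∀ u ∈ B, ∀ v ∈ B, u * v = v * u := by
      intro u hu v hv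
      obtain ⟨i, f, hf, rfl⟩ := hBmem u hu
      obtain ⟨j, f', hf', rfl⟩ := hBmem v hv
      have h1 : d ^ i * d ^ j = d ^ j * d ^ i := by
        rw [← pow_add, ← pow_add, add_comm]
      calc d ^ i * f * (d ^ j * f') = d ^ i * (f * d ^ j) * f' := by group
        _ = d ^ i * (d ^ j * f) * f' := by rw [hFc f hf]
        _ = (d ^ i * d ^ j) * f * f' := by group
        _ = (d ^ j * d ^ i) * f * f' := by rw [h1]
        _ = d ^ j * (d ^ i * (f * f')) := by group
        _ = d ^ j * ((f * f') * d ^ i) := by rw [hFc (f * f') (F.mul_mem hf hf')]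
        _ = d ^ j * (f * (f' * d ^ i)) := by group
        _ = d ^ j * (f * (d ^ i * f')) := by rw [hFc f' hf']
        _ = d ^ j * (f * d ^ i) * f' := by group
        _ = d ^ j * (d ^ i * f) * f' := by rw [hFc f hf]
        _ = d ^ j * (d ^ i * f * f') := by group
        _ = d ^ j * (f' * (d ^ i * f)) := by rw [hFc f' hf' (d ^ i * f)]
        _ = d ^ j * f' * (d ^ i * f) := by group
    -- `y` and `d` do not commute
    have hyd : ⁅y, d⁆ ≠ 1 := by
      intro h
      have hCd : B ≤ Subgroup.centralizer ({d} : Set Q) := by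
        intro u hu
        rw [Subgroup.mem_centralizer_iff]
        intro v hv
        rw [Set.mem_singleton_iff.mp hv]
        exact hBab d hdB u hu
      have h1 := Subgroup.relIndex_mul_index hCd
      rw [hBidx] at h1
      have h2 : (Subgroup.centralizer ({d} : Set Q)).index ∣ p := Dvd.intro_left _ h1
      rcases (Nat.dvd_prime hpp).mp h2 with h3 | h3
      · rw [Subgroup.index_eq_one] at h3
        apply hdF
        apply hFZ
        intro g
        have h4 : g ∈ Subgroup.centralizer ({d} : Set Q) := by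
          rw [h3]
          exact Subgroup.mem_top g
        rw [Subgroup.mem_centralizer_iff] at h4
        exact h4 d rfl
      · rw [h3] at h1
        have h4 : B.relIndex (Subgroup.centralizer ({d} : Set Q)) = 1 := by
          have : B.relIndex (Subgroup.centralizer ({d} : Set Q)) * p = 1 * p := by rw [h1, one_mul]
          exact Nat.eq_of_mul_eq_mul_right hpp.pos this
        rw [Subgroup.relIndex_eq_one] at h4
        apply hyD₁
        apply hBD₁
        apply h4
        rw [Subgroup.mem_centralizer_iff]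
        intro v hv
        rw [Set.mem_singleton_iff.mp hv]
        exact (commutatorElement_eq_one_iff_mul_comm.mp h).symm
    have hedo : orderOf ⁅y, d⁆ = p := by
      apply orderOf_eq_prime (hzp _ (hZ y d)) hyd
    have hdp : d ^ p ∈ F := hFmem d
    -- `d` is fixed modulo `F`
    have hfix : ∀ a : 𝒜, ρ a d * d⁻¹ ∈ F := by
      intro a
      obtain ⟨δ, hd, hdpp⟩ := hδ a
      obtain ⟨d₁, hd₁D, hd₁e⟩ := hd₁ a δ hd
      have h1 := hkey a δ hd d₁ hd₁e d
      have hρB : ρ a d ∈ B := hDB (hDρ a d hdD)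
      have h2 : ⁅d₁, ρ a d⁆ = 1 :=
        commutatorElement_eq_one_iff_mul_comm.mpr (hBab d₁ (hDB hd₁D) _ hρB)
      rw [h2, mul_one] at h1
      have h3 := hpowinj δ hdpp _ _ (hZ _ _) (hZ _ _) h1
      obtain ⟨j, f₀, hf₀, hj⟩ := hBmem _ hρB
      have h4 : ⁅y, ρ a d⁆ = ⁅y, d⁆ ^ j := by
        rw [hj, comm_mul_right hc hZ, comm_pow_right hc hZ]
        have h5 : ⁅y, f₀⁆ = 1 :=
          commutatorElement_eq_one_iff_mul_comm.mpr (hFc f₀ hf₀ y).symm
        rw [h5, mul_one]
      rw [h4] at h3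
      have h5 : ⁅y, d⁆ ^ j = ⁅y, d⁆ ^ 1 := by rw [pow_one]; exact h3
      rw [pow_eq_pow_iff_modEq, hedo] at h5
      have h6 : j % p = 1 := by
        have h7 : j % p = 1 % p := h5
        rwa [Nat.mod_eq_of_lt hpp.one_lt] at h7
      have h8 : j = p * (j / p) + 1 := by
        have := Nat.div_add_mod j p
        omega
      rw [hj, h8, pow_succ, pow_mul]
      have h9 : (d ^ p) ^ (j / p) * d * f₀ * d⁻¹ = (d ^ p) ^ (j / p) * f₀ := by
        calc (d ^ p) ^ (j / p) * d * f₀ * d⁻¹ = (d ^ p) ^ (j / p) * (d * f₀) * d⁻¹ := by group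
          _ = (d ^ p) ^ (j / p) * (f₀ * d) * d⁻¹ := by rw [hFc f₀ hf₀ d]
          _ = _ := by group
      rw [h9]
      exact F.mul_mem (F.pow_mem hdp _) hf₀
    -- the norm argument
    haveI := Fintype.ofFinite 𝒜
    have hab : ∀ u v : Q ⧸ F, u * v = v * u := by
      intro u v
      obtain ⟨x, rfl⟩ := QuotientGroup.mk_surjective u
      obtain ⟨x', rfl⟩ := QuotientGroup.mk_surjective v
      have h1 : ⁅x, x'⁆ ∈ F := by
        have h2 : commutator Q ≤ F := by
          rw [hzc, Subgroup.zpowers_le]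
          exact hcF
        exact h2 (Subgroup.commutator_mem_commutator (Subgroup.mem_top x) (Subgroup.mem_top x'))
      have h3 : ((⁅x, x'⁆ : Q) : Q ⧸ F) = 1 := (QuotientGroup.eq_one_iff _).mpr h1
      rw [commutatorElement_def] at h3
      have h4 : (x : Q ⧸ F) * x' * (x : Q ⧸ F)⁻¹ * (x' : Q ⧸ F)⁻¹ = 1 := h3
      rw [mul_inv_eq_one, mul_inv_eq_iff_eq_mul] at h4
      exact h4
    letI : CommGroup (Q ⧸ F) := { (inferInstance : Group (Q ⧸ F)) with mul_comm := hab }
    let N : Q →* (Q ⧸ F) := ∏ a : 𝒜, (QuotientGroup.mk' F).comp (ρ a).toMonoidHom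
    have hN : ∀ x, N x = ∏ a : 𝒜, ((ρ a x : Q) : Q ⧸ F) := by
      intro x
      simp only [N, MonoidHom.finset_prod_apply]
      rfl
    have hNinv : ∀ (b : 𝒜) (x : Q), N (ρ b x * x⁻¹) = 1 := by
      intro b x
      rw [map_mul, map_inv, mul_inv_eq_one, hN, hN]
      refine Fintype.prod_equiv (Equiv.mulRight b) _ _ (fun a => ?_)
      simp [map_mul]
    have hNtop : ∀ x, N x = 1 := by
      intro x
      have h1 : (⊤ : Subgroup Q) ≤ N.ker := by
        rw [← hgen, Subgroup.closure_le]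
        rintro _ ⟨a, w, rfl⟩
        exact hNinv a w
      exact h1 (Subgroup.mem_top x)
    have hNd : N d = (d : Q ⧸ F) ^ Nat.card 𝒜 := by
      rw [hN, Nat.card_eq_fintype_card, ← Finset.card_univ, ← Finset.prod_const]
      refine Finset.prod_congr rfl (fun a _ => ?_)
      apply QuotientGroup.eq.mpr
      have h1 := hfix a
      have h3 : (ρ a d)⁻¹ * d = (d⁻¹ * ρ a d)⁻¹ := by group
      rw [h3]
      apply F.inv_mem
      have h4 : d⁻¹ * ρ a d = d⁻¹ * (ρ a d * d⁻¹) * d := by group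
      rw [h4]
      exact hFn.conj_mem _ h1 d⁻¹ |> fun h => by simpa using h
    have h1 : (d : Q ⧸ F) ^ Nat.card 𝒜 = 1 := by
      rw [← hNd]
      exact hNtop d
    have h2 : (d : Q ⧸ F) ^ p = 1 := by
      rw [← QuotientGroup.mk_pow]
      exact (QuotientGroup.eq_one_iff _).mpr hdp
    have h3 : (d : Q ⧸ F) = 1 := (pow_eq_one_iff_of_coprime hcop).mp ⟨h1, h2⟩
    exact hdF ((QuotientGroup.eq_one_iff _).mp h3)

end core

section lifts

/-- Subgroups of metacyclic groups are metacyclic. -/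
theorem isMetacyclic_of_injective {H : Type u} {R : Type v} [Group H] [Group R] (f : H →* R)
    (hf : Function.Injective f) (hR : IsMetacyclic R) : IsMetacyclic H := by
  obtain ⟨N, hN, hc, hq⟩ := hR
  haveI := hN
  haveI := hc
  haveI := hq
  refine ⟨N.comap f, inferInstance, ?_, ?_⟩
  · refine isCyclic_of_injective (f.subgroupComap N) ?_
    intro x y hxy
    apply Subtype.ext
    exact hf (congrArg Subtype.val hxy)
  · refine isCyclic_of_injective (QuotientGroup.map (N.comap f) N f le_rfl) ?_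
    intro x y hxy
    obtain ⟨a, rfl⟩ := QuotientGroup.mk_surjective x
    obtain ⟨b, rfl⟩ := QuotientGroup.mk_surjective y
    have h1 : ((f a : R) : R ⧸ N) = (f b : R) := hxy
    have h2 : (f a)⁻¹ * f b ∈ N := QuotientGroup.eq.mp h1
    apply QuotientGroup.eq.mpr
    show f (a⁻¹ * b) ∈ N
    rw [map_mul, map_inv]
    exact h2

/-- Images of metacyclic groups are metacyclic. -/
theorem isMetacyclic_of_surjective {H : Type u} {R : Type v} [Group H] [Group R] (f : R →* H)
    (hf : Function.Surjective f) (hR : IsMetacyclic R) : IsMetacyclic H := by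
  obtain ⟨N, hN, hc, hq⟩ := hR
  haveI := hN
  haveI := hc
  haveI := hq
  haveI : (N.map f).Normal := Subgroup.Normal.map hN f hf
  refine ⟨N.map f, inferInstance, ?_, ?_⟩
  · exact isCyclic_of_surjective (f.subgroupMap N) (f.subgroupMap_surjective N)
  · refine isCyclic_of_surjective (QuotientGroup.map N (N.map f) f (Subgroup.le_comap_map f N)) ?_
    intro y
    obtain ⟨y', rfl⟩ := QuotientGroup.mk_surjective y
    obtain ⟨x, rfl⟩ := hf y'
    exact ⟨(x : R ⧸ N), rfl⟩

end lifts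

section abelian

variable {p : ℕ} [hp : Fact p.Prime] {K : Type u} [Group K] [Finite K]

/-- A metacyclic `p`-group `K` with `[K, A] = K` for a coprime group of automorphisms is abelian. -/
theorem abelian_of_gen (hp2 : p ≠ 2) (hK : IsPGroup p K) (hm : IsMetacyclic K)
    {𝒜 : Type v} [Group 𝒜] [Finite 𝒜] (ρ : 𝒜 →* MulAut K) (hcop : (Nat.card 𝒜).Coprime p)
    (hgen : Subgroup.closure {x | ∃ (a : 𝒜) (y : K), x = ρ a y * y⁻¹} = ⊤) : ∀ x y : K, x * y = y * x := by
  classical
  have hpp : p.Prime := hp.out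
  by_contra hna
  -- the derived subgroup is cyclic
  obtain ⟨N, hN, hNc, hq⟩ := id hm
  haveI := hN
  haveI := hq
  have hcN : commutator K ≤ N := by
    rw [commutator_def, Subgroup.commutator_le]
    intro x _ y _
    rw [← QuotientGroup.eq_one_iff]
    have h2 : (((x * y * x⁻¹ * y⁻¹ : K)) : K ⧸ N) = (x : K ⧸ N) * y * (x : K ⧸ N)⁻¹ * (y : K ⧸ N)⁻¹ := rfl
    show ((x * y * x⁻¹ * y⁻¹ : K) : K ⧸ N) = 1
    rw [h2, mul_comm' (x : K ⧸ N) (y : K ⧸ N)]
    group
  haveI hKc : IsCyclic (commutator K) := by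
    haveI := hNc
    exact isCyclic_of_injective (Subgroup.inclusion hcN) (Subgroup.inclusion_injective hcN)
  obtain ⟨⟨g, hgK⟩, hg⟩ := hKc.exists_generator
  have hzg : commutator K = Subgroup.zpowers g := by
    apply le_antisymm
    · intro x hx
      obtain ⟨k, hk⟩ := Subgroup.mem_zpowers_iff.mp (hg ⟨x, hx⟩)
      refine Subgroup.mem_zpowers_iff.mpr ⟨k, ?_⟩
      exact congrArg Subtype.val hk
    · exact Subgroup.zpowers_le.mpr hgK
  have hg1 : g ≠ 1 := by
    rintro rfl
    apply hna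
    intro x y
    have h1 : ⁅x, y⁆ ∈ commutator K :=
      Subgroup.commutator_mem_commutator (Subgroup.mem_top x) (Subgroup.mem_top y)
    rw [hzg, Subgroup.zpowers_one_eq_bot, Subgroup.mem_bot] at h1
    exact commutatorElement_eq_one_iff_mul_comm.mp h1
  set L : Subgroup K := Subgroup.zpowers (g ^ p) with hL
  -- `L` is invariant under automorphisms
  have hinv : ∀ φ : MulAut K, L.map φ.toMonoidHom = L := by
    intro φ
    have h1 : φ g ∈ Subgroup.zpowers g := by
      rw [← hzg]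
      have h2 := (Subgroup.characteristic_iff_map_eq.mp
        (inferInstance : (commutator K).Characteristic)) φ
      rw [← h2]
      exact Subgroup.mem_map_of_mem _ hgK
    obtain ⟨i, hi⟩ := Subgroup.mem_zpowers_iff.mp h1
    have hle : L.map φ.toMonoidHom ≤ L := by
      rw [hL, MonoidHom.map_zpowers, Subgroup.zpowers_le]
      refine Subgroup.mem_zpowers_iff.mpr ⟨i, ?_⟩
      show (g ^ p) ^ i = φ (g ^ p)
      rw [map_pow, ← hi, ← zpow_natCast, ← zpow_natCast, ← zpow_mul, ← zpow_mul, mul_comm]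
    apply Subgroup.eq_of_le_of_card_ge hle
    exact (Nat.card_congr (L.equivMapOfInjective φ.toMonoidHom φ.injective).toEquiv).le
  have hLn : L.Normal := by
    constructor
    intro x hx h
    have h1 := hinv (MulAut.conj h)
    rw [← h1]
    exact Subgroup.mem_map_of_mem _ hx
  haveI := hLn
  -- the action on the quotient
  let ρ' : 𝒜 →* MulAut (K ⧸ L) :=
    { toFun := fun a => QuotientGroup.congr L L (ρ a) (hinv (ρ a))
      map_one' := by
        ext x
        obtain ⟨y, rfl⟩ := QuotientGroup.mk_surjective x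
        simp [QuotientGroup.congr_mk]
      map_mul' := by
        intro a b
        ext x
        obtain ⟨y, rfl⟩ := QuotientGroup.mk_surjective x
        show ((ρ (a * b) y : K) : K ⧸ L) = ((ρ a (ρ b y) : K) : K ⧸ L)
        rw [map_mul]
        rfl }
  have hρ' : ∀ (a : 𝒜) (y : K), ρ' a (y : K ⧸ L) = ((ρ a y : K) : K ⧸ L) := fun a y => rfl
  have hcard : Nat.card (commutator (K ⧸ L)) = p := by
    have h1 : commutator (K ⧸ L) = (Subgroup.zpowers ((g : K) : K ⧸ L)) := by
      have h2 : commutator (K ⧸ L) = (commutator K).map (QuotientGroup.mk' L) := by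
        rw [commutator_def, commutator_def, Subgroup.map_commutator]
        rw [← MonoidHom.range_eq_map, (QuotientGroup.mk' L).range_eq_top.mpr (QuotientGroup.mk'_surjective L)]
      rw [h2, hzg, MonoidHom.map_zpowers]
      rfl
    rw [h1, Nat.card_zpowers]
    apply orderOf_eq_prime
    · rw [← QuotientGroup.mk_pow]
      exact (QuotientGroup.eq_one_iff _).mpr (Subgroup.mem_zpowers _)
    · intro h
      have h2 : g ∈ L := (QuotientGroup.eq_one_iff _).mp h
      have h3 : orderOf g ∣ orderOf (g ^ p) := orderOf_dvd_of_mem_zpowers h2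
      obtain ⟨m, hm'⟩ := IsPGroup.iff_orderOf.mp hK g
      have hm0 : m ≠ 0 := by
        rintro rfl
        rw [pow_zero] at hm'
        exact hg1 (orderOf_eq_one_iff.mp hm')
      obtain ⟨m', rfl⟩ := Nat.exists_eq_succ_of_ne_zero hm0
      have h4 : orderOf (g ^ p) = p ^ m' := by
        rw [orderOf_pow_of_dvd hpp.ne_zero (by rw [hm']; exact dvd_pow_self p hm0), hm', Nat.pow_succ]
        exact Nat.mul_div_cancel _ hpp.pos
      rw [h4, hm'] at h3
      have h5 := (Nat.pow_dvd_pow_iff_le_right hpp.one_lt).mp h3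
      omega
  refine core hp2 (hK.to_quotient L) (isMetacyclic_of_surjective (QuotientGroup.mk' L)
    (QuotientGroup.mk'_surjective L) hm) hcard ρ' hcop ?_
  rw [eq_top_iff]
  intro x _
  obtain ⟨y, rfl⟩ := QuotientGroup.mk_surjective x
  have h1 : y ∈ Subgroup.closure {x | ∃ (a : 𝒜) (y : K), x = ρ a y * y⁻¹} := by
    rw [hgen]
    exact Subgroup.mem_top y
  have h2 : Subgroup.closure {x | ∃ (a : 𝒜) (y : K), x = ρ a y * y⁻¹} ≤
      (Subgroup.closure {x | ∃ (a : 𝒜) (y : K ⧸ L), x = ρ' a y * y⁻¹}).comap (QuotientGroup.mk' L) := by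
    rw [Subgroup.closure_le]
    rintro _ ⟨a, w, rfl⟩
    apply Subgroup.subset_closure
    exact ⟨a, (w : K ⧸ L), rfl⟩
  exact h2 h1

end abelian

section top

variable {p : ℕ} [hp : Fact p.Prime] {G : Type u} [Group G] [Finite G]

/-- A non-cyclic subgroup of a metacyclic `p`-group contains all elements of order dividing `p`. -/
theorem mem_of_not_cyclic (hp2 : p ≠ 2) {R S : Subgroup G} (hR : IsPGroup p R) (hm : IsMetacyclic R)
    (hSR : S ≤ R) (hnc : ¬ IsCyclic S) {x : G} (hx : x ∈ R) (hxp : x ^ p = 1) : x ∈ S := by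
  classical
  have hTS : ¬ IsCyclic (S.subgroupOf R) := by
    intro h
    haveI := h
    exact hnc (isCyclic_of_surjective (Subgroup.subgroupOfEquivOfLe hSR).toMonoidHom
      (Subgroup.subgroupOfEquivOfLe hSR).surjective)
  have hRnc : ¬ IsCyclic R := by
    intro h
    haveI := h
    exact hTS (isCyclic_of_injective (S.subgroupOf R).subtype (Subgroup.subtype_injective _))
  have hTp : IsPGroup p (S.subgroupOf R) := hR.to_subgroup _
  have hTm : IsMetacyclic (S.subgroupOf R) :=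
    isMetacyclic_of_injective (S.subgroupOf R).subtype (Subgroup.subtype_injective _) hm
  obtain ⟨_, hE⟩ := H03.metacyclic_omegaOne hp2 hTp hTm hTS
  obtain ⟨_, hΩ⟩ := H03.metacyclic_omegaOne hp2 hR hm hRnc
  set E₁ := (omegaOne p (⊤ : Subgroup (S.subgroupOf R))).map (S.subgroupOf R).subtype with hE₁
  have hle : E₁ ≤ omegaOne p (⊤ : Subgroup R) := by
    rw [hE₁, Subgroup.map_le_iff_le_comap, omegaOne, Subgroup.closure_le]
    rintro y ⟨_, hy⟩
    apply Subgroup.subset_closure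
    refine ⟨Subgroup.mem_top _, ?_⟩
    have := congrArg (S.subgroupOf R).subtype hy
    simpa using this
  have hcard : Nat.card E₁ = p ^ 2 := by
    rw [hE₁, ← hE]
    exact Nat.card_congr ((omegaOne p (⊤ : Subgroup (S.subgroupOf R))).equivMapOfInjective _
      (Subgroup.subtype_injective _)).symm.toEquiv
  have heq : E₁ = omegaOne p (⊤ : Subgroup R) :=
    Subgroup.eq_of_le_of_card_ge hle (by rw [hcard, hΩ])
  have h1 : (⟨x, hx⟩ : R) ∈ omegaOne p (⊤ : Subgroup R) := by
    apply Subgroup.subset_closure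
    refine ⟨Subgroup.mem_top _, ?_⟩
    exact Subtype.ext hxp
  rw [← heq] at h1
  obtain ⟨y, _, hy⟩ := h1
  have h2 := y.2
  have h3 : (y : R) = ⟨x, hx⟩ := hy
  rw [h3] at h2
  exact Subgroup.mem_subgroupOf.mp h2

/-- The main theorem: coprime action on a metacyclic `p`-group, `p` odd. -/
theorem main (hp2 : p ≠ 2) (R A : Subgroup G) (hR : IsPGroup p R) (hRm : IsMetacyclic R)
    (hA : A ≤ Subgroup.normalizer (R : Set G)) (hcop : (Nat.card A).Coprime p) :
    IsMulCommutative ↥⁅R, A⁆ ∧ ⁅R, A⁆ ⊔ (R ⊓ Subgroup.centralizer (A : Set G)) = R ∧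
    ⁅R, A⁆ ⊓ (R ⊓ Subgroup.centralizer (A : Set G)) = ⊥ ∧
      (¬ IsMulCommutative R → ¬ A ≤ Subgroup.centralizer (R : Set G) →
        ⁅R, A⁆ ≠ ⊥ ∧ IsCyclic ↥⁅R, A⁆ ∧ (R ⊓ Subgroup.centralizer (A : Set G)) ≠ ⊥ ∧
        IsCyclic ↥(R ⊓ Subgroup.centralizer (A : Set G)) ∧ ⁅R, R⁆ ≤ ⁅R, A⁆) := by
  classical
  have hpp : p.Prime := hp.out
  obtain ⟨n, hn⟩ := IsPGroup.iff_card.mp hR
  have hcopAR : (Nat.card A).Coprime (Nat.card R) := by
    rw [hn]
    exact Nat.Coprime.pow_right _ hcop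
  have hsolv : Group.IsSolvable A ∨ Group.IsSolvable R := by
    right
    haveI := hR.isNilpotent
    infer_instance
  have hsup := H01.commutator_sup_centralizer hA hcopAR hsolv
  have hcc := H01.commutator_commutator_eq hA hcopAR hsolv
  have hKR : ⁅R, A⁆ ≤ R := by
    rw [Subgroup.commutator_le]
    intro k hk a ha
    have h1 : a * k⁻¹ * a⁻¹ ∈ R := H01.conj_mem_of_mem_normalizer (hA ha) (R.inv_mem hk)
    have h2 : ⁅k, a⁆ = k * (a * k⁻¹ * a⁻¹) := by
      rw [commutatorElement_def]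
      group
    rw [h2]
    exact R.mul_mem hk h1
  set K := ⁅R, A⁆ with hK
  have hAK : A ≤ Subgroup.normalizer (K : Set G) := by
    intro a ha
    exact H01.mem_normalizer_commutator (hA ha) (Subgroup.le_normalizer ha)
  have hKp : IsPGroup p K := hR.to_le hKR
  have hKm : IsMetacyclic K :=
    isMetacyclic_of_injective (Subgroup.inclusion hKR) (Subgroup.inclusion_injective hKR) hRm
  let ρ : A →* MulAut K := K.normalizerMonoidHom.comp (Subgroup.inclusion hAK)
  have hρ : ∀ (a : A) (y : K), ((ρ a y : K) : G) = a * y * (a : G)⁻¹ := fun a y => rfl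
  have hgen : Subgroup.closure {x | ∃ (a : A) (y : K), x = ρ a y * y⁻¹} = ⊤ := by
    set T := Subgroup.closure {x | ∃ (a : A) (y : K), x = ρ a y * y⁻¹} with hT
    have h1 : K ≤ T.map K.subtype := by
      conv_lhs => rw [← hcc]
      rw [Subgroup.commutator_le]
      intro k hk a ha
      have h2 : (ρ ⟨a, ha⟩ ⟨k, hk⟩ * (⟨k, hk⟩ : K)⁻¹)⁻¹ ∈ T :=
        T.inv_mem (Subgroup.subset_closure ⟨⟨a, ha⟩, ⟨k, hk⟩, rfl⟩)
      refine ⟨_, h2, ?_⟩
      show ((ρ ⟨a, ha⟩ ⟨k, hk⟩ : K) * (⟨k, hk⟩ : K)⁻¹ : K)⁻¹.1 = _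
      have h3 : (((ρ ⟨a, ha⟩ ⟨k, hk⟩ * (⟨k, hk⟩ : K)⁻¹)⁻¹ : K) : G) =
          (a * k * a⁻¹ * k⁻¹)⁻¹ := rfl
      rw [h3, commutatorElement_def]
      group
    rw [eq_top_iff]
    intro x _
    obtain ⟨y, hy, hyx⟩ := h1 x.2
    have : y = x := Subtype.ext hyx
    rwa [← this]
  have hKab : ∀ x y : K, x * y = y * x := abelian_of_gen hp2 hKp hKm ρ hcop hgen
  haveI hKcomm : IsMulCommutative K := ⟨⟨hKab⟩⟩
  have hcopAK : (Nat.card A).Coprime (Nat.card K) := by
    obtain ⟨m, hm⟩ := IsPGroup.iff_card.mp hKp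
    rw [hm]
    exact Nat.Coprime.pow_right _ hcop
  obtain ⟨hd1, _⟩ := H01.abelian_decomposition A K hAK hcopAK
  rw [hcc] at hd1
  have hKC : K ⊓ Subgroup.centralizer (A : Set G) = ⊥ := by
    rw [eq_bot_iff]
    intro x hx
    rw [← hd1]
    exact Subgroup.mem_inf.mpr ⟨hx, (Subgroup.mem_inf.mp hx).1⟩
  have hinf : K ⊓ (R ⊓ Subgroup.centralizer (A : Set G)) = ⊥ := by
    rw [eq_bot_iff, ← hKC]
    intro x hx
    exact Subgroup.mem_inf.mpr ⟨(Subgroup.mem_inf.mp hx).1,
      (Subgroup.mem_inf.mp (Subgroup.mem_inf.mp hx).2).2⟩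
  refine ⟨hKcomm, hsup, hinf, ?_⟩
  intro hna hnc
  set C := R ⊓ Subgroup.centralizer (A : Set G) with hC
  have hCR : C ≤ R := inf_le_left
  have hK1 : K ≠ ⊥ := by
    intro hb
    apply hnc
    intro a ha
    rw [Subgroup.mem_centralizer_iff]
    intro r hr
    have h1 : ⁅r, a⁆ ∈ K := Subgroup.commutator_mem_commutator hr ha
    rw [hb, Subgroup.mem_bot] at h1
    exact commutatorElement_eq_one_iff_mul_comm.mp h1
  have hC1 : C ≠ ⊥ := by
    intro hb
    rw [hb, sup_bot_eq] at hsup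
    apply hna
    rw [← hsup]
    exact hKcomm
  have hexord : ∀ S : Subgroup G, S ≤ R → S ≠ ⊥ → ∃ x ∈ S, x ≠ 1 ∧ x ^ p = 1 := by
    intro S hSR hS
    have hSp : IsPGroup p S := hR.to_le hSR
    obtain ⟨m, hm⟩ := IsPGroup.iff_card.mp hSp
    have hm0 : m ≠ 0 := by
      rintro rfl
      exact hS (Subgroup.eq_bot_of_card_eq _ (by simpa using hm))
    obtain ⟨x, hx⟩ := exists_prime_orderOf_dvd_card' p (by rw [hm]; exact dvd_pow_self p hm0 : p ∣ Nat.card S)
    refine ⟨x, x.2, ?_, ?_⟩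
    · intro h
      have h2 : x = 1 := Subtype.ext h
      rw [h2, orderOf_one] at hx
      exact hpp.one_lt.ne hx
    · have := pow_orderOf_eq_one x
      rw [hx] at this
      exact congrArg Subtype.val this
  have hKcyc : IsCyclic K := by
    by_contra hno
    obtain ⟨x, hxC, hx1, hxp⟩ := hexord C hCR hC1
    have h1 := mem_of_not_cyclic hp2 hR hRm hKR hno (hCR hxC) hxp
    have h2 : x ∈ K ⊓ C := Subgroup.mem_inf.mpr ⟨h1, hxC⟩
    rw [hinf, Subgroup.mem_bot] at h2
    exact hx1 h2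
  have hCcyc : IsCyclic C := by
    by_contra hno
    obtain ⟨x, hxK, hx1, hxp⟩ := hexord K hKR hK1
    have h1 := mem_of_not_cyclic hp2 hR hRm hCR hno (hKR hxK) hxp
    have h2 : x ∈ K ⊓ C := Subgroup.mem_inf.mpr ⟨hxK, h1⟩
    rw [hinf, Subgroup.mem_bot] at h2
    exact hx1 h2
  refine ⟨hK1, hKcyc, hC1, hCcyc, ?_⟩
  -- `K` is normalized by `R`
  have hRK : R ≤ Subgroup.normalizer (K : Set G) := by
    intro r hr
    apply H13.mem_normalizer_of_map_conj_le
    rw [hK, Subgroup.commutator_def, MonoidHom.map_closure, Subgroup.closure_le]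
    rintro _ ⟨_, ⟨x, hx, a, ha, rfl⟩, rfl⟩
    have h1 : (MulAut.conj r).toMonoidHom ⁅x, a⁆ = ⁅r * x, a⁆ * ⁅r, a⁆⁻¹ := by
      simp only [MulEquiv.toMonoidHom_eq_coe, MonoidHom.coe_coe, MulAut.conj_apply, commutatorElement_def]
      group
    rw [h1]
    exact K.mul_mem (Subgroup.commutator_mem_commutator (R.mul_mem hr hx) ha)
      (K.inv_mem (Subgroup.commutator_mem_commutator hr ha))
  have hCab : ∀ u ∈ C, ∀ v ∈ C, u * v = v * u := by
    intro u hu v hv
    haveI := hCcyc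
    have := mul_comm' (⟨u, hu⟩ : C) ⟨v, hv⟩
    exact congrArg Subtype.val this
  rw [Subgroup.commutator_le]
  intro x hx y hy
  have hCN : C ≤ Subgroup.normalizer (K : Set G) := hCR.trans hRK
  rw [← hsup] at hx hy
  obtain ⟨k, hk, c, hc, rfl⟩ := H01.exists_mul_of_mem_sup hCN hx
  obtain ⟨k', hk', c', hc', rfl⟩ := H01.exists_mul_of_mem_sup hCN hy
  have hu : c * k' * c⁻¹ ∈ K := H01.conj_mem_of_mem_normalizer (hCN hc) hk'
  have hw : c' * k⁻¹ * c'⁻¹ ∈ K := H01.conj_mem_of_mem_normalizer (hCN hc') (K.inv_mem hk)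
  have hcc' : c' * c⁻¹ = c⁻¹ * c' := hCab c' hc' c⁻¹ (C.inv_mem hc)
  have h1 : ⁅k * c, k' * c'⁆ = k * (c * k' * c⁻¹) * (c' * k⁻¹ * c'⁻¹) * k'⁻¹ := by
    rw [commutatorElement_def]
    calc k * c * (k' * c') * (k * c)⁻¹ * (k' * c')⁻¹
        = k * c * k' * (c' * c⁻¹) * k⁻¹ * c'⁻¹ * k'⁻¹ := by group
      _ = k * c * k' * (c⁻¹ * c') * k⁻¹ * c'⁻¹ * k'⁻¹ := by rw [hcc']
      _ = _ := by group
  rw [h1]
  exact K.mul_mem (K.mul_mem (K.mul_mem hk hu) hw) (K.inv_mem hk')

end top

end Cfsg.Agent.H06.Meta
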