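import Cfsg.Agent.Lib.H18.PLen
import Cfsg.Agent.Lib.H13.Basic
import Cfsg.Agent.Lib.H01.Coprime
import Cfsg.Agent.Lib.H06.FittingHall
import Cfsg.Agent.Lib.H06.Layer2

/-!
# Groups of `p`-length one; a relative form of Glauberman's lemma
-/

set_option autoImplicit false

namespace Cfsg.Agent.H06

open Cfsg Cfsg.Agent.H01
open scoped Pointwise

universe u

section Glaub

variable {G : Type u} [Group G] [Finite G]

/-- Relative form of Glauberman's conjugacy lemma: if `k₀ ∈ K` conjugates `A` to `B` and `D` normalizes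
`K`, `A` and `B` with `(|D|, |K|) = 1`, some `c ∈ C_K(D)` conjugates `A` to `B`. -/
theorem exists_centralizing_conj {K D A B : Subgroup G} (hDK : D ≤ Subgroup.normalizer (K : Set G))
    (hcop : (Nat.card D).Coprime (Nat.card K)) (hsolv : Group.IsSolvable D ∨ Group.IsSolvable K)
    (hDA : D ≤ Subgroup.normalizer (A : Set G)) (hDB : D ≤ Subgroup.normalizer (B : Set G))
    {k₀ : G} (hk₀ : k₀ ∈ K) (he : MulAut.conj k₀ • A = B) :
    ∃ c ∈ K ⊓ Subgroup.centralizer (D : Set G), MulAut.conj c • A = B := by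
  let M : Subgroup G := K ⊓ Subgroup.normalizer (B : Set G)
  have hMK : M ≤ K := inf_le_left
  have hMN : M ≤ Subgroup.normalizer (B : Set G) := inf_le_right
  have hDM : D ≤ Subgroup.normalizer (M : Set G) := by
    intro d hd
    rw [mem_normalizer_iff_smul]
    show MulAut.conj d • (K ⊓ Subgroup.normalizer (B : Set G)) = _
    rw [Subgroup.smul_inf]
    rw [conj_smul_of_mem_normalizer (hDK hd)]
    have : MulAut.conj d • Subgroup.normalizer (B : Set G) = Subgroup.normalizer (B : Set G) := by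
      rw [mem_normalizer_iff_smul.symm]
      exact Subgroup.le_normalizer (hDB hd)
    rw [this]
  have hcop1 : (Nat.card M).Coprime (Nat.card D) :=
    Nat.Coprime.coprime_dvd_left (Subgroup.card_dvd_of_le hMK) hcop.symm
  have hcard := card_sup_of_le_normalizer hDM hcop1
  let D₁ : Subgroup G := MulAut.conj k₀ • D
  have hD₁mem : ∀ x, x ∈ D₁ ↔ ∃ d ∈ D, x = k₀ * d * k₀⁻¹ := by
    intro x
    rw [Subgroup.mem_pointwise_smul_iff_inv_smul_mem]
    constructor
    · intro hx
      refine ⟨_, hx, ?_⟩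
      simp [MulAut.smul_def, MulAut.conj_apply]
      group
    · rintro ⟨h, hh, rfl⟩
      simpa [MulAut.smul_def, MulAut.conj_apply, mul_assoc] using hh
  have hD₁card : Nat.card D₁ = Nat.card D := Nat.card_congr (Subgroup.equivSMul (MulAut.conj k₀) D).toEquiv.symm
  have hD₁N : D₁ ≤ Subgroup.normalizer (B : Set G) := by
    intro x hx
    obtain ⟨d, hd, rfl⟩ := (hD₁mem x).mp hx
    have e1 : MulAut.conj (k₀ * d * k₀⁻¹) * MulAut.conj k₀ = MulAut.conj k₀ * MulAut.conj d := by
      rw [← map_mul, ← map_mul]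
      congr 1
      group
    rw [mem_normalizer_iff_smul, ← he, ← mul_smul, e1, mul_smul, conj_smul_of_mem_normalizer (hDA hd)]
  have hD₁L : D₁ ≤ M ⊔ D := by
    intro x hx
    have hxN := hD₁N hx
    obtain ⟨d, hd, rfl⟩ := (hD₁mem x).mp hx
    have e : k₀ * d * k₀⁻¹ = (k₀ * d * k₀⁻¹ * d⁻¹) * d := by group
    rw [e]
    refine Subgroup.mul_mem_sup (Subgroup.mem_inf.mpr ⟨?_, ?_⟩) hd
    · have e2 : k₀ * d * k₀⁻¹ * d⁻¹ = k₀ * (d * k₀⁻¹ * d⁻¹) := by group
      rw [e2]
      exact mul_mem hk₀ (conj_mem_of_mem_normalizer (hDK hd) (inv_mem hk₀))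
    · exact mul_mem hxN (inv_mem (hDB hd))
  have hsolv' : Group.IsSolvable M ∨ Group.IsSolvable D := by
    rcases hsolv with h | h
    · exact Or.inr h
    · exact Or.inl (isSolvable_of_le hMK h)
  obtain ⟨l, hl, e⟩ := conj_rel (L := M ⊔ D) (N := M) (H := D) (K := D₁) le_sup_left
    (sup_le Subgroup.le_normalizer hDM) le_sup_right hD₁L hcop1 hcard hD₁card hsolv'
  obtain ⟨m, hm, d₂, hd₂, rfl⟩ := exists_mul_of_mem_sup hDM hl
  have e2 : MulAut.conj m • D = D₁ := by
    rw [← e, map_mul, mul_smul, conj_smul_of_mem_normalizer (Subgroup.le_normalizer hd₂)]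
  let c := m⁻¹ * k₀
  have hcK : c ∈ K := mul_mem (inv_mem (hMK hm)) hk₀
  have hcN : c ∈ Subgroup.normalizer (D : Set G) := by
    rw [mem_normalizer_iff_smul]
    show MulAut.conj (m⁻¹ * k₀) • D = D
    rw [map_mul, mul_smul]
    show MulAut.conj m⁻¹ • D₁ = D
    rw [← e2, ← mul_smul, ← map_mul, inv_mul_cancel, map_one, one_smul]
  have hdis : Disjoint D K := Subgroup.disjoint_of_coprime_natCard hcop
  refine ⟨c, Subgroup.mem_inf.mpr ⟨hcK, mem_centralizer_of_normalizes hdis hDK hcK hcN⟩, ?_⟩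
  show MulAut.conj (m⁻¹ * k₀) • A = B
  rw [map_mul, mul_smul, he]
  exact conj_smul_of_mem_normalizer (inv_mem (hMN hm))

end Glaub

section PLen

variable {G : Type u} [Group G] [Finite G] {p : ℕ} [Fact p.Prime]

theorem coprime_of_pow_mem_bot {U : Subgroup G} (h : ∀ x ∈ U, ∃ m : ℕ, m.Coprime p ∧ x ^ m = 1) :
    (Nat.card U).Coprime p := by
  have hp : p.Prime := Fact.out
  rw [Nat.coprime_comm, Nat.Prime.coprime_iff_not_dvd hp]
  intro hd
  obtain ⟨y, hy⟩ := exists_prime_orderOf_dvd_card' p hd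
  obtain ⟨m, hm, hym⟩ := h y y.2
  have h1 : orderOf (y : G) = p := by
    rw [← hy]
    exact (Subgroup.orderOf_coe y)
  have h2 : p ∣ m := h1 ▸ orderOf_dvd_of_pow_eq_one hym
  exact hp.one_lt.ne' (Nat.Coprime.eq_one_of_dvd hm.symm h2)

theorem upper_one_le : (upperPSeries p G 1).1 ≤ pPrimeCore p G := by
  refine le_sSup ⟨(upperPSeries p G 1).2, coprime_of_pow_mem_bot fun x hx => ?_⟩
  obtain ⟨m, hm, hx'⟩ := Cfsg.Agent.H18.step_even (p := p) (j := 0) (by simp) hx
  refine ⟨m, hm, ?_⟩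
  have h0 : (upperPSeries p G 0).1 = ⊥ := rfl
  rw [h0] at hx'
  exact hx'

/-- In a group of `p`-length at most one, `p`-elements are in the second term of the upper series. -/
theorem mem_upper_two_of_pow (hpl : PLengthLE p 1 G) {x : G} {k : ℕ} (hx : x ^ (p ^ k) = 1) :
    x ∈ (upperPSeries p G 2).1 := by
  have hx3 : x ∈ (upperPSeries p G (2 + 1)).1 := by
    have : (upperPSeries p G 3).1 = ⊤ := hpl
    show x ∈ (upperPSeries p G 3).1
    rw [this]
    exact Subgroup.mem_top _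
  obtain ⟨m, hm, hxm⟩ := Cfsg.Agent.H18.step_even (p := p) (j := 2) (by decide) hx3
  have hc : m.Coprime (orderOf x) :=
    Nat.Coprime.coprime_dvd_right (orderOf_dvd_of_pow_eq_one hx) (Nat.Coprime.pow_right _ hm)
  obtain ⟨a, ha⟩ := exists_pow_eq_self_of_coprime hc
  rw [← ha]
  exact pow_mem hxm a

theorem sylow_le_upper_two (hpl : PLengthLE p 1 G) {Q : Subgroup G} (hQ : IsPGroup p Q) :
    Q ≤ (upperPSeries p G 2).1 := by
  intro x hx
  obtain ⟨k, hk⟩ := hQ ⟨x, hx⟩
  exact mem_upper_two_of_pow hpl (k := k) (by simpa using congrArg Subtype.val hk)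

theorem upper_two_le_sup (hpl : PLengthLE p 1 G) (S : Sylow p G) :
    (upperPSeries p G 2).1 ≤ (upperPSeries p G 1).1 ⊔ (S : Subgroup G) := by
  set U₁ := (upperPSeries p G 1).1 with hU₁
  set U₂ := (upperPSeries p G 2).1 with hU₂
  haveI hU₁n : U₁.Normal := (upperPSeries p G 1).2
  haveI hU₂n : U₂.Normal := (upperPSeries p G 2).2
  let φ := QuotientGroup.mk' U₁
  have hφs : Function.Surjective φ := QuotientGroup.mk'_surjective U₁
  let S' : Sylow p (G ⧸ U₁) := S.mapSurjective hφs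
  have hT : IsPGroup p (U₂.map φ) := by
    rintro ⟨_, x, hx, rfl⟩
    obtain ⟨t, ht⟩ := Cfsg.Agent.H18.step_odd (p := p) (j := 1) (by decide) hx
    refine ⟨t, Subtype.ext ?_⟩
    show (φ x) ^ (p ^ t) = 1
    rw [← map_pow]
    exact (QuotientGroup.eq_one_iff _).2 ht
  have hTn : (U₂.map φ).Normal := Subgroup.Normal.map hU₂n φ hφs
  have hle : U₂.map φ ≤ S' := (Cfsg.Agent.H13.le_pCore hTn hT).trans (Cfsg.Agent.H13.pCore_le_sylow S')
  intro x hx
  obtain ⟨s, hs, hsx⟩ := hle (Subgroup.mem_map_of_mem φ hx)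
  have h1 : s⁻¹ * x ∈ U₁ := QuotientGroup.eq.mp hsx
  have e2 : x = s * (s⁻¹ * x) := by group
  rw [e2, sup_comm]
  exact Subgroup.mul_mem_sup hs h1

/-- Frattini argument in a group of `p`-length at most one. -/
theorem plen1_frattini (hpl : PLengthLE p 1 G) (S : Sylow p G) :
    pPrimeCore p G ⊔ Subgroup.normalizer ((S : Subgroup G) : Set G) = ⊤ := by
  set U₂ := (upperPSeries p G 2).1 with hU₂
  haveI hU₂n : U₂.Normal := (upperPSeries p G 2).2
  have hSU : (S : Subgroup G) ≤ U₂ := sylow_le_upper_two hpl S.isPGroup'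
  let P : Sylow p U₂ := S.subtype hSU
  have h1 := Sylow.normalizer_sup_eq_top (N := U₂) P
  have h2 : (P : Subgroup U₂).map U₂.subtype = (S : Subgroup G) := by
    rw [Sylow.coe_subtype, Subgroup.subgroupOf_map_subtype, inf_of_le_left hSU]
  rw [h2] at h1
  rw [eq_top_iff, ← h1]
  refine sup_le le_sup_right ?_
  refine (upper_two_le_sup hpl S).trans (sup_le (upper_one_le.trans le_sup_left) ?_)
  exact le_sup_of_le_right Subgroup.le_normalizer

theorem plen1_le_sup (hpl : PLengthLE p 1 G) (S : Sylow p G) {Q : Subgroup G} (hQ : IsPGroup p Q) :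
    Q ≤ pPrimeCore p G ⊔ (S : Subgroup G) :=
  (sylow_le_upper_two hpl hQ).trans ((upper_two_le_sup hpl S).trans (sup_le_sup_right upper_one_le _))

theorem pPrimeCore_normal'' : (pPrimeCore p G).Normal :=
  haveI := pPrimeCore_characteristic G p
  inferInstance

end PLen

end Cfsg.Agent.H06
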