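import Cfsg.Agent.Lib.H03.PSolv
import Cfsg.Agent.Lib.H01.Solv

/-!
# Finite solvable groups are `p`-solvable
-/

set_option autoImplicit false

namespace Cfsg.Agent.H06

open Cfsg

universe u

/-- Finite solvable groups are `p`-solvable. -/
theorem isPSolvable_of_isSolvable_aux (p : ℕ) [Fact p.Prime] : ∀ (n : ℕ) (G : Type u) [Group G] [Finite G] [Group.IsSolvable G],
    Nat.card G = n → IsPSolvable p G := by
  intro n
  induction n using Nat.strong_induction_on with
  | _ n ih =>
    intro G _ _ _ hn
    by_cases hG : Nontrivial G
    · obtain ⟨N, q, hNn, hN1, hq, -, hpow⟩ := Cfsg.Agent.H01.exists_elementary_abelian_normal (G := G)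
      haveI := hNn
      haveI : Fact q.Prime := ⟨hq⟩
      have hNq : IsPGroup q N := fun x => ⟨1, Subtype.ext (by simpa using hpow x x.2)⟩
      obtain ⟨k, hk⟩ := IsPGroup.iff_card.mp hNq
      let φ := QuotientGroup.mk' N
      have hφs : Function.Surjective φ := QuotientGroup.mk'_surjective N
      have hlt : Nat.card (G ⧸ N) < n := by
        have h1 := Subgroup.card_eq_card_quotient_mul_card_subgroup N
        have h2 : 1 < Nat.card N := by
          haveI : Nontrivial N := (Subgroup.nontrivial_iff_ne_bot N).mpr hN1
          exact Finite.one_lt_card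
        have h3 : 0 < Nat.card (G ⧸ N) := Nat.card_pos
        rw [hn] at h1
        nlinarith
      obtain ⟨m, H', h0, hlast, hmono, hnorm, hstep⟩ := ih _ hlt (G ⧸ N) rfl
      let H : Fin (m + 2) → Subgroup G := Fin.cons ⊥ (fun i => (H' i).comap φ)
      have H0 : H 0 = ⊥ := rfl
      have Hs : ∀ i : Fin (m + 1), H i.succ = (H' i).comap φ := fun i => rfl
      refine ⟨m + 1, H, H0, ?_, ?_, ?_, ?_⟩
      · rw [← Fin.succ_last, Hs, hlast, Subgroup.comap_top]
      · rw [Fin.monotone_iff_le_succ]
        intro i
        induction i using Fin.cases with
        | zero =>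
          rw [Fin.castSucc_zero, H0]
          exact bot_le
        | succ j =>
          rw [← Fin.succ_castSucc, Hs, Hs]
          exact Subgroup.comap_mono (hmono (Fin.castSucc_le_succ j))
      · intro i
        induction i using Fin.cases with
        | zero =>
          rw [H0]
          exact inferInstance
        | succ j =>
          rw [Hs]
          haveI := hnorm j
          exact Subgroup.Normal.comap inferInstance φ
      · intro i
        induction i using Fin.cases with
        | zero =>
          have e1 : H (Fin.castSucc 0) = ⊥ := H0
          have e2 : H (Fin.succ 0) = N := by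
            rw [Hs, h0, MonoidHom.comap_bot, QuotientGroup.ker_mk']
          rw [e1, e2, Subgroup.relIndex_bot_left, hk]
          by_cases hqp : q = p
          · left
            exact ⟨k, by rw [hqp]⟩
          · right
            exact Nat.Coprime.pow_left _ ((Nat.coprime_primes hq Fact.out).mpr hqp)
        | succ j =>
          rw [← Fin.succ_castSucc, Hs, Hs, Subgroup.relIndex_comap, Subgroup.map_comap_eq_self_of_surjective hφs]
          exact hstep j
    · rw [not_nontrivial_iff_subsingleton] at hG
      refine ⟨0, fun _ => ⊥, rfl, ?_, monotone_const, fun _ => inferInstance, fun i => i.elim0⟩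
      exact Subsingleton.elim _ _

theorem isPSolvable_of_isSolvable (p : ℕ) [Fact p.Prime] (G : Type u) [Group G] [Finite G] [Group.IsSolvable G] :
    IsPSolvable p G := isPSolvable_of_isSolvable_aux p _ G rfl

end Cfsg.Agent.H06
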