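import Cfsg.Agent.Lib.H06.TISplit
import Cfsg.Agent.Lib.H06.CharClifford2

/-!
# Fusion in the split situation
-/

set_option autoImplicit false

namespace Cfsg.Agent.H06

open Cfsg

/-- The fusion property of `W \ W₂` in the split situation. -/
theorem split_fusion {L : Type*} [Group L] [Fintype L] (K W₁ W₂ : Subgroup L) [hK : K.Normal]
    (hKW₁ : K ⊓ W₁ = ⊥) (hKW₁' : K ⊔ W₁ = ⊤) (hW₁c : IsCyclic W₁)
    (hHall : Nat.Coprime (Nat.card W₁) W₁.index) (hW₂K : W₂ ≤ K)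
    (hC : ∀ x ∈ W₁, x ≠ 1 → K ⊓ Subgroup.centralizer ({x} : Set L) = W₂)
    (x : L) (a : L) (ha : a ∈ (↑(W₁ ⊔ W₂) : Set L) \ (↑W₂ : Set L))
    (hb : x⁻¹ * a * x ∈ (↑(W₁ ⊔ W₂) : Set L) \ (↑W₂ : Set L)) : x ∈ W₁ ⊔ W₂ := by
  classical
  have hcomm : ∀ a ∈ W₁, ∀ b ∈ W₂, a * b = b * a := by
    intro a ha b hb
    by_cases h1 : a = 1
    · simp [h1]
    · rw [← hC a ha h1] at hb
      have := Subgroup.mem_centralizer_iff.mp hb.2 a rfl
      exact this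
  have hcardK : Nat.card K = W₁.index := by
    have h1 : Nat.card K * Nat.card W₁ = Nat.card L := by
      have hcompl : Subgroup.IsComplement' K W₁ :=
        Subgroup.isComplement'_of_disjoint_and_mul_eq_univ (disjoint_iff.mpr hKW₁) (by
          rw [← Subgroup.normal_mul K W₁, hKW₁']
          rfl)
      exact hcompl.card_mul
    have h2 := W₁.card_mul_index
    rw [← h2, mul_comm] at h1
    exact Nat.eq_of_mul_eq_mul_left Nat.card_pos h1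
  have hcop : (Nat.card W₁).Coprime (Nat.card W₂) := by
    have h1 : Nat.card W₂ ∣ Nat.card K := Subgroup.card_dvd_of_le hW₂K
    rw [hcardK] at h1
    exact Nat.Coprime.coprime_dvd_right h1 hHall
  set g := x⁻¹ with hg
  have hxW := ha.1
  have hx₁ := ha.2
  obtain ⟨w₁, hw₁, w₂, hw₂, rfl⟩ := mem_sup_of_commute hcomm hxW
  have hw₁ne : w₁ ≠ 1 := by
    rintro rfl
    apply hx₁
    simpa using hw₂
  obtain ⟨u₁, hu₁, u₂, hu₂, hu⟩ := mem_sup_of_commute hcomm hb.1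
  have hu' : g * (w₁ * w₂) * g⁻¹ = u₁ * u₂ := by
    rw [← hu, hg, inv_inv]
  set n₁ := Nat.card W₁
  set n₂ := Nat.card W₂
  obtain ⟨e, he₁, he₂⟩ : ∃ e : ℕ, e ≡ 1 [MOD n₁] ∧ e ≡ 0 [MOD n₂] := by
    obtain ⟨e, h1, h2⟩ := Nat.chineseRemainder hcop 1 0
    exact ⟨e, h1, h2⟩
  have hpart : ∀ a ∈ W₁, ∀ b ∈ W₂, (a * b) ^ e = a := by
    intro a ha b hb
    have hc : Commute a b := hcomm a ha b hb
    rw [hc.mul_pow]
    have h1 : a ^ e = a := by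
      have h2 : orderOf a ∣ n₁ := by
        have := orderOf_dvd_natCard (⟨a, ha⟩ : W₁)
        rwa [Subgroup.orderOf_mk] at this
      have h3 : a ^ e = a ^ 1 := pow_eq_pow_iff_modEq.mpr (he₁.of_dvd h2)
      rwa [pow_one] at h3
    have h2 : b ^ e = 1 := by
      have h3 : orderOf b ∣ n₂ := by
        have := orderOf_dvd_natCard (⟨b, hb⟩ : W₂)
        rwa [Subgroup.orderOf_mk] at this
      have h4 : n₂ ∣ e := (Nat.modEq_zero_iff_dvd.mp he₂)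
      exact orderOf_dvd_iff_pow_eq_one.mp (h3.trans h4)
    rw [h1, h2, mul_one]
  have h1 : g * w₁ * g⁻¹ = u₁ := by
    have h2 : (g * (w₁ * w₂) * g⁻¹) ^ e = g * (w₁ * w₂) ^ e * g⁻¹ := by rw [conj_pow]
    rw [hpart w₁ hw₁ w₂ hw₂, hu', hpart u₁ hu₁ u₂ hu₂] at h2
    exact h2.symm
  have hgtop : g ∈ K ⊔ W₁ := by rw [hKW₁']; trivial
  obtain ⟨k, hk, w, hw, hgd⟩ := Subgroup.mem_sup_of_normal_left.mp hgtop
  have hww : w * w₁ * w⁻¹ = w₁ := by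
    rw [Cfsg.Agent.H06.comm_of_isCyclic hW₁c hw hw₁]
    group
  have h2 : k * w₁ * k⁻¹ = u₁ := by
    rw [← h1, ← hgd]
    calc k * w₁ * k⁻¹ = k * (w * w₁ * w⁻¹) * k⁻¹ := by rw [hww]
      _ = k * w * w₁ * (k * w)⁻¹ := by group
  have h3 : k * (w₁ * k⁻¹ * w₁⁻¹) ∈ K := K.mul_mem hk (hK.conj_mem _ (K.inv_mem hk) w₁)
  have h4 : k * (w₁ * k⁻¹ * w₁⁻¹) = u₁ * w₁⁻¹ := by
    rw [← h2]
    group
  have h5 : k * (w₁ * k⁻¹ * w₁⁻¹) ∈ K ⊓ W₁ :=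
    ⟨h3, by rw [h4]; exact W₁.mul_mem hu₁ (W₁.inv_mem hw₁)⟩
  rw [hKW₁, Subgroup.mem_bot] at h5
  have h6 : k ∈ K ⊓ Subgroup.centralizer ({w₁} : Set L) := by
    refine Subgroup.mem_inf.mpr ⟨hk, ?_⟩
    rw [Subgroup.mem_centralizer_iff]
    intro y hy
    have hy' : y = w₁ := hy
    rw [hy']
    have h7 : k * w₁ = (k * (w₁ * k⁻¹ * w₁⁻¹)) * (w₁ * k) := by group
    rw [h5, one_mul] at h7
    exact h7.symm
  rw [hC w₁ hw₁ hw₁ne] at h6
  have hgW : g ∈ W₁ ⊔ W₂ := by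
    rw [← hgd]
    exact Subgroup.mul_mem _ (Subgroup.mem_sup_right h6) (Subgroup.mem_sup_left hw)
  have : x = g⁻¹ := by rw [hg, inv_inv]
  rw [this]
  exact Subgroup.inv_mem _ hgW

end Cfsg.Agent.H06
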