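import Mathlib

set_option autoImplicit false

namespace Cfsg.Agent.H06.U3

section Gen
variable {A : Type*} [Group A]

/-- conjugation by `x` maps `H` into `H` -/
def Stab (x : A) (H : Subgroup A) : Prop := ∀ a ∈ H, x * a * x⁻¹ ∈ H

lemma Stab.pow {x : A} {H : Subgroup A} (h : Stab x H) (n : ℕ) : Stab (x ^ n) H := by
  induction n with
  | zero => intro a ha; simpa using ha
  | succ n ih =>
    intro a ha
    have := h _ (ih a ha)
    have e : x ^ (n + 1) * a * (x ^ (n + 1))⁻¹ = x * (x ^ n * a * (x ^ n)⁻¹) * x⁻¹ := by group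
    rw [e]; exact this

lemma Stab.inv [Finite A] {x : A} {H : Subgroup A} (h : Stab x H) : Stab x⁻¹ H := by
  have h1 : x ^ (orderOf x - 1) * x = 1 := by
    rw [← pow_succ, Nat.sub_add_cancel (orderOf_pos x), pow_orderOf_eq_one]
  have h2 : x⁻¹ = x ^ (orderOf x - 1) := (eq_inv_of_mul_eq_one_left h1).symm
  rw [h2]; exact h.pow _

lemma adj_form [Finite A] (H : Subgroup A) (x : A) (n : ℕ) (hn : 0 < n)
    (hx : Stab x H) (hxn : x ^ n ∈ H) :
    ∀ a ∈ H ⊔ Subgroup.zpowers x, ∃ i : Fin n, ∃ h : H, a = x ^ (i : ℕ) * h := by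
    intro a ha
    have hcl : H ⊔ Subgroup.zpowers x = Subgroup.closure ((H : Set A) ∪ {x}) := by
      rw [Subgroup.closure_union, Subgroup.closure_eq, Subgroup.zpowers_eq_closure]
    rw [hcl] at ha
    have key1 : ∀ b ∈ H, ∀ y, (∃ i : Fin n, ∃ h : H, y = x ^ (i : ℕ) * h) →
        ∃ i : Fin n, ∃ h : H, b * y = x ^ (i : ℕ) * h := by
      rintro b hb y ⟨i, h, rfl⟩
      have h3 : (x⁻¹) ^ (i : ℕ) * b * ((x⁻¹) ^ (i : ℕ))⁻¹ ∈ H := (hx.inv.pow _) b hb
      refine ⟨i, ⟨_, H.mul_mem h3 h.2⟩, ?_⟩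
      simp only [inv_pow, inv_inv]
      group
    induction ha using Subgroup.closure_induction_left with
    | one => exact ⟨⟨0, hn⟩, 1, by simp⟩
    | mul_left b hb y _ ih =>
      rcases hb with hb | hb
      · exact key1 b hb y ih
      · rw [Set.mem_singleton_iff] at hb
        subst hb
        obtain ⟨i, h, rfl⟩ := ih
        by_cases hi : (i : ℕ) + 1 < n
        · refine ⟨⟨i + 1, hi⟩, h, ?_⟩
          simp only [pow_succ']
          group
        · have hi' : (i : ℕ) + 1 = n := by have := i.2; omega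
          refine ⟨⟨0, hn⟩, ⟨_, H.mul_mem hxn h.2⟩, ?_⟩
          simp only [pow_zero, one_mul]
          have hb' : b ^ n = b * b ^ (i : ℕ) := by rw [← pow_succ', hi']
          rw [hb']
          group
    | inv_mul_cancel b hb y _ ih =>
      rcases hb with hb | hb
      · exact key1 _ (H.inv_mem hb) y ih
      · rw [Set.mem_singleton_iff] at hb
        subst hb
        obtain ⟨i, h, rfl⟩ := ih
        by_cases hi : 0 < (i : ℕ)
        · refine ⟨⟨i - 1, by have := i.2; omega⟩, h, ?_⟩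
          have : b ^ (i : ℕ) = b * b ^ ((i : ℕ) - 1) := by
            rw [← pow_succ', Nat.sub_add_cancel hi]
          simp only [this]
          group
        · have hi' : (i : ℕ) = 0 := by omega
          refine ⟨⟨n - 1, by omega⟩, ⟨_, H.mul_mem (H.inv_mem hxn) h.2⟩, ?_⟩
          simp only [hi', pow_zero, one_mul]
          have : b ^ n = b * b ^ (n - 1) := by
            rw [← pow_succ', Nat.sub_add_cancel hn]
          rw [this]
          group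

lemma adj_card [Finite A] (H : Subgroup A) (x : A) (n : ℕ) (hn : 0 < n)
    (hx : Stab x H) (hxn : x ^ n ∈ H) :
    Nat.card ↥(H ⊔ Subgroup.zpowers x) ≤ n * Nat.card H := by
  classical
  have hsub := adj_form H x n hn hx hxn
  choose i h hih using fun k : ↥(H ⊔ Subgroup.zpowers x) => hsub k k.2
  have hinj : Function.Injective (fun k : ↥(H ⊔ Subgroup.zpowers x) => (i k, h k)) := by
    intro k k' hk
    simp only [Prod.mk.injEq] at hk
    apply Subtype.ext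
    rw [hih k, hih k', hk.1, hk.2]
  have := Nat.card_le_card_of_injective _ hinj
  rwa [Nat.card_prod, Nat.card_fin] at this

/-- adjoin -/
abbrev adj (H : Subgroup A) (x : A) : Subgroup A := H ⊔ Subgroup.zpowers x

lemma mem_adj_left {H : Subgroup A} {x a : A} (h : a ∈ H) : a ∈ adj H x :=
  (le_sup_left : H ≤ adj H x) h

lemma mem_adj_self (H : Subgroup A) (x : A) : x ∈ adj H x :=
  (le_sup_right : Subgroup.zpowers x ≤ adj H x) (Subgroup.mem_zpowers x)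

lemma maps_adj {y x : A} {H L : Subgroup A} (h : ∀ a ∈ H, y * a * y⁻¹ ∈ L) (hx : y * x * y⁻¹ ∈ L) :
    ∀ a ∈ adj H x, y * a * y⁻¹ ∈ L := by
  let φ : A →* A := (MulAut.conj y).toMonoidHom
  have hφ : ∀ a, φ a = y * a * y⁻¹ := fun a => rfl
  have : adj H x ≤ L.comap φ := by
    refine sup_le ?_ ?_
    · intro a ha
      rw [Subgroup.mem_comap, hφ]
      exact h a ha
    · rw [Subgroup.zpowers_le, Subgroup.mem_comap, hφ]
      exact hx
  intro a ha
  have := this ha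
  rwa [Subgroup.mem_comap, hφ] at this

lemma Stab.sup {y x : A} {H : Subgroup A} (h : Stab y H) (hx : y * x * y⁻¹ ∈ adj H x) :
    Stab y (adj H x) :=
  maps_adj (fun a ha => mem_adj_left (h a ha)) hx

lemma stab_bot (y : A) : Stab y (⊥ : Subgroup A) := by
  intro a ha
  rw [Subgroup.mem_bot] at ha ⊢
  simp [ha]

lemma conj_of_comm {y c : A} (h : c * y = y * c) : y * c * y⁻¹ = c := by
  rw [← h]; group

lemma conj_of_m {a b c : A} (h : a * b = b * a * c) (hc : c * a = a * c) :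
    a * b * a⁻¹ = b * c := by
  rw [h, mul_assoc b a c, ← hc]; group

lemma shift_c {c s a b : A} (hs : c * s = s * c) (ha : c * a = a * c) (h : s * a = b * s) :
    c * b = b * c := by
  have hb : b = s * a * s⁻¹ := by rw [h, mul_inv_cancel_right]
  subst hb
  have h1 : Commute c s := hs
  have h2 : Commute c a := ha
  exact ((h1.mul_right h2).mul_right h1.inv_right).eq

lemma shift_m {a b c s a' b' : A} (h : a * b = b * a * c) (hc : c * s = s * c)
    (ha : s * a = a' * s) (hb : s * b = b' * s) : a' * b' = b' * a' * c := by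
  have h1 : a' = s * a * s⁻¹ := by rw [ha, mul_inv_cancel_right]
  have h2 : b' = s * b * s⁻¹ := by rw [hb, mul_inv_cancel_right]
  subst h1 h2
  have h3 : s * c * s⁻¹ = c := conj_of_comm hc
  calc s * a * s⁻¹ * (s * b * s⁻¹) = s * (a * b) * s⁻¹ := by group
    _ = s * (b * a * c) * s⁻¹ := by rw [h]
    _ = (s * b * s⁻¹) * (s * a * s⁻¹) * (s * c * s⁻¹) := by group
    _ = _ := by rw [h3]

lemma shift_sq {a u s b : A} (h : a * a = u) (hc : u * s = s * u) (ha : s * a = b * s) :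
    b * b = u := by
  have h1 : b = s * a * s⁻¹ := by rw [ha, mul_inv_cancel_right]
  subst h1
  have h3 : s * u * s⁻¹ = u := conj_of_comm hc
  calc s * a * s⁻¹ * (s * a * s⁻¹) = s * (a * a) * s⁻¹ := by group
    _ = u := by rw [h, h3]

/-- The relations defining the group of order 320. -/
structure Rel (s e e1 e2 e3 e4 c1 c2 : A) : Prop where
  s5 : s ^ 5 = 1
  h0 : s * e = e1 * s
  h1 : s * e1 = e2 * s
  h2 : s * e2 = e3 * s
  h3 : s * e3 = e4 * s
  h4 : s * e4 = e * s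
  prod : e * e1 * e2 * e3 * e4 = 1
  m1 : e * e1 = e1 * e * c1
  m2 : e * e2 = e2 * e * c2
  c1s : c1 * s = s * c1
  c2s : c2 * s = s * c2
  c1e : c1 * e = e * c1
  c2e : c2 * e = e * c2
  c1c1 : c1 * c1 = 1
  c2c2 : c2 * c2 = 1
  cc : c1 * c2 = c2 * c1
  ee : e * e = c1 * c2

namespace Rel
variable {s e e1 e2 e3 e4 c1 c2 : A} (R : Rel s e e1 e2 e3 e4 c1 c2)
include R

lemma c1e1 : c1 * e1 = e1 * c1 := shift_c R.c1s R.c1e R.h0
lemma c1e2 : c1 * e2 = e2 * c1 := shift_c R.c1s R.c1e1 R.h1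
lemma c1e3 : c1 * e3 = e3 * c1 := shift_c R.c1s R.c1e2 R.h2
lemma c1e4 : c1 * e4 = e4 * c1 := shift_c R.c1s R.c1e3 R.h3
lemma c2e1 : c2 * e1 = e1 * c2 := shift_c R.c2s R.c2e R.h0
lemma c2e2 : c2 * e2 = e2 * c2 := shift_c R.c2s R.c2e1 R.h1
lemma c2e3 : c2 * e3 = e3 * c2 := shift_c R.c2s R.c2e2 R.h2
lemma c2e4 : c2 * e4 = e4 * c2 := shift_c R.c2s R.c2e3 R.h3

lemma m12 : e1 * e2 = e2 * e1 * c1 := shift_m R.m1 R.c1s R.h0 R.h1
lemma m23 : e2 * e3 = e3 * e2 * c1 := shift_m R.m12 R.c1s R.h1 R.h2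
lemma m34 : e3 * e4 = e4 * e3 * c1 := shift_m R.m23 R.c1s R.h2 R.h3
lemma m40 : e4 * e = e * e4 * c1 := shift_m R.m34 R.c1s R.h3 R.h4
lemma m13 : e1 * e3 = e3 * e1 * c2 := shift_m R.m2 R.c2s R.h0 R.h2
lemma m24 : e2 * e4 = e4 * e2 * c2 := shift_m R.m13 R.c2s R.h1 R.h3
lemma m30 : e3 * e = e * e3 * c2 := shift_m R.m24 R.c2s R.h2 R.h4
lemma m41 : e4 * e1 = e1 * e4 * c2 := shift_m R.m30 R.c2s R.h3 R.h0

lemma m03 : e * e3 = e3 * e * c2 := by
  have h := R.m30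
  calc e * e3 = e * e3 * (c2 * c2) := by rw [R.c2c2, mul_one]
    _ = (e * e3 * c2) * c2 := by group
    _ = e3 * e * c2 := by rw [← h]

lemma ucs : c1 * c2 * s = s * (c1 * c2) := by
  rw [mul_assoc, R.c2s, ← mul_assoc, R.c1s, mul_assoc]

lemma s1 : e1 * e1 = c1 * c2 := shift_sq R.ee R.ucs R.h0
lemma s2 : e2 * e2 = c1 * c2 := shift_sq R.s1 R.ucs R.h1
lemma s3 : e3 * e3 = c1 * c2 := shift_sq R.s2 R.ucs R.h2

end Rel

/-- `⟨c1, c2⟩` -/
abbrev K2 (c1 c2 : A) : Subgroup A := adj (adj ⊥ c1) c2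

lemma stabK2 {c1 c2 y : A} (h1 : c1 * y = y * c1) (h2 : c2 * y = y * c2) : Stab y (K2 c1 c2) := by
  refine Stab.sup (Stab.sup (stab_bot y) ?_) ?_
  · rw [conj_of_comm h1]; exact mem_adj_self _ _
  · rw [conj_of_comm h2]; exact mem_adj_self _ _

lemma c1_mem_K2 (c1 c2 : A) : c1 ∈ K2 c1 c2 := mem_adj_left (mem_adj_self _ _)
lemma c2_mem_K2 (c1 c2 : A) : c2 ∈ K2 c1 c2 := mem_adj_self _ _

abbrev K3 (e3 c1 c2 : A) : Subgroup A := adj (K2 c1 c2) e3
abbrev K4 (e2 e3 c1 c2 : A) : Subgroup A := adj (K3 e3 c1 c2) e2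
abbrev K5 (e1 e2 e3 c1 c2 : A) : Subgroup A := adj (K4 e2 e3 c1 c2) e1
abbrev K6 (e e1 e2 e3 c1 c2 : A) : Subgroup A := adj (K5 e1 e2 e3 c1 c2) e

namespace Rel
variable {s e e1 e2 e3 e4 c1 c2 : A} (R : Rel s e e1 e2 e3 e4 c1 c2)
include R

lemma stab3 : Stab e3 (K2 c1 c2) := stabK2 R.c1e3 R.c2e3

lemma stab4 : Stab e2 (K3 e3 c1 c2) := by
  refine Stab.sup (stabK2 R.c1e2 R.c2e2) ?_
  rw [conj_of_m R.m23 R.c1e2]
  exact Subgroup.mul_mem _ (mem_adj_self _ _) (mem_adj_left (c1_mem_K2 _ _))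

lemma stab5 : Stab e1 (K4 e2 e3 c1 c2) := by
  refine Stab.sup (Stab.sup (stabK2 R.c1e1 R.c2e1) ?_) ?_
  · rw [conj_of_m R.m13 R.c2e1]
    exact Subgroup.mul_mem _ (mem_adj_self _ _) (mem_adj_left (c2_mem_K2 _ _))
  · rw [conj_of_m R.m12 R.c1e1]
    exact Subgroup.mul_mem _ (mem_adj_self _ _) (mem_adj_left (mem_adj_left (c1_mem_K2 _ _)))

lemma stab6 : Stab e (K5 e1 e2 e3 c1 c2) := by
  refine Stab.sup (Stab.sup (Stab.sup (stabK2 R.c1e R.c2e) ?_) ?_) ?_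
  · rw [conj_of_m R.m03 R.c2e]
    exact Subgroup.mul_mem _ (mem_adj_self _ _) (mem_adj_left (c2_mem_K2 _ _))
  · rw [conj_of_m R.m2 R.c2e]
    exact Subgroup.mul_mem _ (mem_adj_self _ _) (mem_adj_left (mem_adj_left (c2_mem_K2 _ _)))
  · rw [conj_of_m R.m1 R.c1e]
    exact Subgroup.mul_mem _ (mem_adj_self _ _)
      (mem_adj_left (mem_adj_left (mem_adj_left (c1_mem_K2 _ _))))

lemma e_mem : e ∈ K6 e e1 e2 e3 c1 c2 := mem_adj_self _ _
lemma e1_mem : e1 ∈ K6 e e1 e2 e3 c1 c2 := mem_adj_left (mem_adj_self _ _)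
lemma e2_mem : e2 ∈ K6 e e1 e2 e3 c1 c2 := mem_adj_left (mem_adj_left (mem_adj_self _ _))
lemma e3_mem : e3 ∈ K6 e e1 e2 e3 c1 c2 :=
  mem_adj_left (mem_adj_left (mem_adj_left (mem_adj_self _ _)))
lemma c1_mem : c1 ∈ K6 e e1 e2 e3 c1 c2 :=
  mem_adj_left (mem_adj_left (mem_adj_left (mem_adj_left (c1_mem_K2 _ _))))
lemma c2_mem : c2 ∈ K6 e e1 e2 e3 c1 c2 :=
  mem_adj_left (mem_adj_left (mem_adj_left (mem_adj_left (c2_mem_K2 _ _))))

lemma e4_eq : e4 = (e * e1 * e2 * e3)⁻¹ := eq_inv_of_mul_eq_one_right R.prod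

lemma e4_mem : e4 ∈ K6 e e1 e2 e3 c1 c2 := by
  rw [R.e4_eq]
  exact Subgroup.inv_mem _ (Subgroup.mul_mem _ (Subgroup.mul_mem _ (Subgroup.mul_mem _
    R.e_mem R.e1_mem) R.e2_mem) R.e3_mem)

lemma conj_eq {x y : A} (h : s * x = y * s) : s * x * s⁻¹ = y := by
  rw [h, mul_inv_cancel_right]

lemma stab7 : Stab s (K6 e e1 e2 e3 c1 c2) := by
  have h2 : ∀ a ∈ K2 c1 c2, s * a * s⁻¹ ∈ K6 e e1 e2 e3 c1 c2 := by
    intro a ha
    have := stabK2 R.c1s R.c2s a ha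
    exact mem_adj_left (mem_adj_left (mem_adj_left (mem_adj_left this)))
  exact maps_adj (maps_adj (maps_adj (maps_adj h2 (by rw [R.conj_eq R.h3]; exact R.e4_mem))
    (by rw [R.conj_eq R.h2]; exact R.e3_mem)) (by rw [R.conj_eq R.h1]; exact R.e2_mem))
    (by rw [R.conj_eq R.h0]; exact R.e1_mem)

lemma card_K2 [Finite A] : Nat.card (K2 c1 c2) ≤ 4 := by
  have h1 : Nat.card ↥(adj (⊥ : Subgroup A) c1) ≤ 2 * Nat.card (⊥ : Subgroup A) :=
    adj_card (⊥ : Subgroup A) c1 2 (by norm_num) (stab_bot c1) (by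
    rw [Subgroup.mem_bot, pow_two, R.c1c1])
  have h2 : Nat.card ↥(K2 c1 c2) ≤ 2 * Nat.card ↥(adj (⊥ : Subgroup A) c1) :=
    adj_card (adj ⊥ c1) c2 2 (by norm_num) (Stab.sup (stab_bot c2) (by
    rw [conj_of_comm R.cc]; exact mem_adj_self _ _)) (by
    rw [pow_two, R.c2c2]; exact Subgroup.one_mem _)
  rw [Subgroup.card_bot] at h1
  omega

lemma card_K6 [Finite A] : Nat.card (K6 e e1 e2 e3 c1 c2) ≤ 16 * Nat.card (K2 c1 c2) := by
  have h3 : Nat.card (K3 e3 c1 c2) ≤ 2 * Nat.card (K2 c1 c2) :=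
    adj_card (K2 c1 c2) e3 2 (by norm_num) R.stab3 (by
    rw [pow_two, R.s3]
    exact Subgroup.mul_mem _ (c1_mem_K2 _ _) (c2_mem_K2 _ _))
  have h4 : Nat.card (K4 e2 e3 c1 c2) ≤ 2 * Nat.card (K3 e3 c1 c2) :=
    adj_card (K3 e3 c1 c2) e2 2 (by norm_num) R.stab4 (by
    rw [pow_two, R.s2]
    exact mem_adj_left (Subgroup.mul_mem _ (c1_mem_K2 _ _) (c2_mem_K2 _ _)))
  have h5 : Nat.card (K5 e1 e2 e3 c1 c2) ≤ 2 * Nat.card (K4 e2 e3 c1 c2) :=
    adj_card (K4 e2 e3 c1 c2) e1 2 (by norm_num) R.stab5 (by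
    rw [pow_two, R.s1]
    exact mem_adj_left (mem_adj_left (Subgroup.mul_mem _ (c1_mem_K2 _ _) (c2_mem_K2 _ _))))
  have h6 : Nat.card (K6 e e1 e2 e3 c1 c2) ≤ 2 * Nat.card (K5 e1 e2 e3 c1 c2) :=
    adj_card (K5 e1 e2 e3 c1 c2) e 2 (by norm_num) R.stab6 (by
    rw [pow_two, R.ee]
    exact mem_adj_left (mem_adj_left (mem_adj_left
      (Subgroup.mul_mem _ (c1_mem_K2 _ _) (c2_mem_K2 _ _)))))
  omega

lemma card_K7 [Finite A] : Nat.card (adj (K6 e e1 e2 e3 c1 c2) s) ≤ 320 := by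
  have h7 : Nat.card (adj (K6 e e1 e2 e3 c1 c2) s) ≤ 5 * Nat.card (K6 e e1 e2 e3 c1 c2) :=
    adj_card (K6 e e1 e2 e3 c1 c2) s 5 (by norm_num) R.stab7 (by
    rw [R.s5]; exact Subgroup.one_mem _)
  have h6 := R.card_K6
  have h2 := R.card_K2
  omega

lemma mem_K2 [Finite A] {z : A} (hz : z ∈ K2 c1 c2) :
    z = 1 ∨ z = c1 ∨ z = c2 ∨ z = c1 * c2 := by
  obtain ⟨i, h, rfl⟩ := adj_form (adj ⊥ c1) c2 2 (by norm_num) (Stab.sup (stab_bot c2) (by
    rw [conj_of_comm R.cc]; exact mem_adj_self _ _)) (by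
    rw [pow_two, R.c2c2]; exact Subgroup.one_mem _) z hz
  obtain ⟨j, h', hh'⟩ := adj_form (⊥ : Subgroup A) c1 2 (by norm_num) (stab_bot c1) (by
    rw [Subgroup.mem_bot, pow_two, R.c1c1]) h h.2
  have h1 : (h' : A) = 1 := Subgroup.mem_bot.mp h'.2
  rw [hh', h1, mul_one]
  fin_cases i <;> fin_cases j <;> simp [R.cc]

lemma closure_le : Subgroup.closure {s, e} ≤ adj (K6 e e1 e2 e3 c1 c2) s := by
  rw [Subgroup.closure_le]
  intro x hx
  rcases hx with rfl | hx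
  · exact mem_adj_self _ _
  · rw [Set.mem_singleton_iff] at hx
    subst hx
    exact mem_adj_left R.e_mem

end Rel

theorem Rel.prodMk {B : Type*} [Group B] {s e e1 e2 e3 e4 c1 c2 : A}
    {s' e' e1' e2' e3' e4' c1' c2' : B} (R : Rel s e e1 e2 e3 e4 c1 c2)
    (R' : Rel s' e' e1' e2' e3' e4' c1' c2') :
    Rel (s, s') (e, e') (e1, e1') (e2, e2') (e3, e3') (e4, e4') (c1, c1') (c2, c2') where
  s5 := Prod.ext R.s5 R'.s5
  h0 := Prod.ext R.h0 R'.h0
  h1 := Prod.ext R.h1 R'.h1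
  h2 := Prod.ext R.h2 R'.h2
  h3 := Prod.ext R.h3 R'.h3
  h4 := Prod.ext R.h4 R'.h4
  prod := Prod.ext R.prod R'.prod
  m1 := Prod.ext R.m1 R'.m1
  m2 := Prod.ext R.m2 R'.m2
  c1s := Prod.ext R.c1s R'.c1s
  c2s := Prod.ext R.c2s R'.c2s
  c1e := Prod.ext R.c1e R'.c1e
  c2e := Prod.ext R.c2e R'.c2e
  c1c1 := Prod.ext R.c1c1 R'.c1c1
  c2c2 := Prod.ext R.c2c2 R'.c2c2
  cc := Prod.ext R.cc R'.cc
  ee := Prod.ext R.ee R'.ee

end Gen

theorem exists_hom {G H : Type*} [Group G] [Group H] [Finite G] [Finite H]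
    {s e e1 e2 e3 e4 c1 c2 : G} {s' e' e1' e2' e3' e4' c1' c2' : H}
    (R : Rel s e e1 e2 e3 e4 c1 c2) (R' : Rel s' e' e1' e2' e3' e4' c1' c2')
    (hgen : Subgroup.closure {s, e} = ⊤) (hc : Nat.card G = 320) :
    ∃ ψ : G →* H, ψ s = s' ∧ ψ e = e' := by
  have RR := R.prodMk R'
  set Γ : Subgroup (G × H) := Subgroup.closure {(s, s'), (e, e')} with hΓ
  have hcard : Nat.card Γ ≤ 320 :=
    le_trans (Subgroup.card_le_of_le RR.closure_le) RR.card_K7
  let p : Γ →* G := (MonoidHom.fst G H).comp Γ.subtype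
  have hsurj : Function.Surjective p := by
    rw [← MonoidHom.range_eq_top, MonoidHom.range_comp, Subgroup.range_subtype, hΓ,
      MonoidHom.map_closure, Set.image_pair]
    exact hgen
  have hb : Function.Bijective p := hsurj.bijective_of_nat_card_le (by rw [hc]; exact hcard)
  let iso : Γ ≃* G := MulEquiv.ofBijective p hb
  let ψ : G →* H := (MonoidHom.snd G H).comp (Γ.subtype.comp iso.symm.toMonoidHom)
  have key : ∀ (x : G) (y : H) (hxy : (x, y) ∈ Γ), ψ x = y := by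
    intro x y hxy
    have h1 : iso ⟨(x, y), hxy⟩ = x := rfl
    have h2 : iso.symm x = ⟨(x, y), hxy⟩ := (MulEquiv.symm_apply_eq iso).mpr rfl
    change ((iso.symm x : Γ) : G × H).2 = y
    rw [h2]
  exact ⟨ψ, key _ _ (Subgroup.subset_closure (by simp)), key _ _ (Subgroup.subset_closure (by simp))⟩

end Cfsg.Agent.H06.U3
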